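import Cfsg.Agent.H96.AutLD

/-! The automorphism group of a Sylow `2`-subgroup of `PSL_n(q)`, `q` odd, is a `2`-group (unless it
is a four-group). -/

set_option autoImplicit false
set_option linter.unusedSectionVars false
set_option linter.unusedVariables false
set_option linter.unusedSimpArgs false
set_option linter.style.haveILetI false
open Subgroup Equiv

namespace Cfsg.Agent.H96.AL

variable {F : Type*} [Field F] [Fintype F] {A : Type*} [CommGroup A]

/-- The data of the model inside `GL₂(F)`. -/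
structure G0 (C : Sylow 2 Fˣ) (e : A →* GL (Fin 2) F) (b : A →* A) (j : GL (Fin 2) F) (c a1 : A)
    (ζ : C →* A) : Prop where
  two : IsPGroup 2 A
  inj : Function.Injective e
  cj : ∀ a, j * e a = e (b a) * j
  jj : j * j ∈ e.range
  cm : ∀ a, a⁻¹ * b a ∈ zpowers c
  a1c : a1⁻¹ * b a1 = c
  bc : b c = c⁻¹
  c2 : c ^ 2 ≠ 1
  dc : (e c).1.det = 1
  dj : j.1.det = 1
  fix : ∀ a, b a = a → ∃ l, ζ l = a
  sc : ∀ l, (e (ζ l)).1 = Matrix.scalar _ l.1.1
  uniq : ∀ l, l ^ 2 = 1 → ζ l ∈ zpowers c
  four : c ^ 4 = 1 → ∀ l : C, l ^ 4 = 1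
  ker : ∀ a, (e a).1.det = 1 → a ∈ zpowers c
  val : ∀ m : ℕ, padicValNat 2 (Nat.card (GL (Fin (2 * m)) F)) =
    m * (padicValNat 2 (Nat.card A) + 1) + padicValNat 2 m.factorial

theorem G0.aut {C : Sylow 2 Fˣ} {e : A →* GL (Fin 2) F} {b : A →* A} {j : GL (Fin 2) F} {c a1 : A}
    {ζ : C →* A} (g : G0 C e b j c a1 ζ) (hq : Odd (Fintype.card F)) {n : ℕ} (hn : 2 ≤ n)
    (h4 : n = 2 → c ^ 4 ≠ 1) (T : Sylow 2 (Matrix.ProjectiveSpecialLinearGroup (Fin n) F)) :
    IsPGroup 2 (MulAut T) := by
  haveI : Finite A := Finite.of_injective e g.inj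
  obtain ⟨z, hz⟩ := g.jj
  have cj' : ∀ a, j * e a * j⁻¹ = e (b a) := fun a => by rw [g.cj, mul_inv_cancel_right]
  have jn : j ∉ e.range := by
    rintro ⟨a, ha⟩
    have := g.cj c
    rw [← ha, ← map_mul, ← map_mul, g.bc, mul_comm, g.inj.eq_iff, mul_left_inj, eq_inv_iff_mul_eq_one,
      ← pow_two] at this
    exact g.c2 this
  let R : Subgroup (GL (Fin 2) F) :=
    { carrier := {x | (∃ a, x = e a) ∨ ∃ a, x = e a * j}
      one_mem' := Or.inl ⟨1, (map_one e).symm⟩
      mul_mem' := by
        rintro _ _ (⟨a, rfl⟩ | ⟨a, rfl⟩) (⟨a', rfl⟩ | ⟨a', rfl⟩)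
        · exact Or.inl ⟨a * a', (map_mul e _ _).symm⟩
        · exact Or.inr ⟨a * a', by rw [map_mul, mul_assoc]⟩
        · exact Or.inr ⟨a * b a', by rw [map_mul, mul_assoc, g.cj, mul_assoc]⟩
        · exact Or.inl ⟨a * b a' * z, by rw [map_mul, map_mul, hz, ← cj']; group⟩
      inv_mem' := by
        rintro _ (⟨a, rfl⟩ | ⟨a, rfl⟩)
        · exact Or.inl ⟨a⁻¹, (map_inv e _).symm⟩
        · exact Or.inr ⟨z⁻¹ * b a⁻¹, by rw [map_mul, map_inv e z, hz, ← cj', map_inv]; group⟩ }
  let e' : A →* R := e.codRestrict R fun a => Or.inl ⟨a, rfl⟩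
  let j' : R := ⟨j, Or.inr ⟨1, by rw [map_one, one_mul]⟩⟩
  have inj' : Function.Injective e' := fun x y h => g.inj (congrArg Subtype.val h)
  have mem' : ∀ x : R, x ∈ e'.range ↔ x.1 ∈ e.range := fun x =>
    ⟨fun ⟨a, ha⟩ => ⟨a, congrArg Subtype.val ha⟩, fun ⟨a, ha⟩ => ⟨a, Subtype.ext ha⟩⟩
  have idx : e'.range.index = 2 := index_eq_two_iff.mpr ⟨j', fun x => by
    rw [mem', mem']
    change Xor (x.1 * j ∈ _) _
    rcases x.2 with ⟨a, ha⟩ | ⟨a, ha⟩ <;> rw [ha]
    · exact Or.inr ⟨⟨a, rfl⟩, fun h => jn ((mul_mem_cancel_left (show e a ∈ e.range from ⟨a, rfl⟩)).mp h)⟩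
    · exact Or.inl ⟨⟨a * z, by rw [map_mul, hz, mul_assoc]⟩, fun h => jn ((mul_mem_cancel_left (show e a ∈ e.range from ⟨a, rfl⟩)).mp h)⟩⟩
  have card : Nat.card R = Nat.card A * 2 := by
    rw [← e'.range.card_mul_index, idx, ← Nat.card_congr (MonoidHom.ofInjective inj').toEquiv]
  have two : IsPGroup 2 R := by
    obtain ⟨k, hk⟩ := g.two.exists_card_eq
    exact IsPGroup.of_card (n := k + 1) (by rw [card, hk, pow_succ])
  let δ : R →* C := (Matrix.GeneralLinearGroup.det.comp R.subtype).codRestrict (C : Subgroup Fˣ) fun x => by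
    obtain ⟨k, hk⟩ := two x
    exact mem_sylow_comm C (k := k) (by rw [← map_pow, hk, map_one])
  have dl : ∀ x : R, (δ x).1.1 = x.1.1.det := fun x => rfl
  have d1 : ∀ x : R, δ x = 1 ↔ x.1.1.det = 1 := fun x => by
    rw [← dl, Subtype.ext_iff, Units.ext_iff]; rfl
  have m : GM C e' b j' c a1 ζ δ R.subtype :=
    { rs :=
        { two := two
          inj := inj'
          cov := fun x => x.2.imp (fun ⟨a, ha⟩ => ⟨a, Subtype.ext ha⟩) fun ⟨a, ha⟩ => ⟨a, Subtype.ext ha⟩
          cj := fun a => Subtype.ext (cj' a)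
          cm := g.cm
          a1c := g.a1c
          bc := g.bc
          c2 := g.c2
          dc := (d1 _).mpr g.dc
          dj := (d1 _).mpr g.dj
          bz := fun l => g.inj (by
            rw [← cj', mul_inv_eq_iff_eq_mul]
            refine Units.ext ?_
            rw [Units.val_mul, Units.val_mul, g.sc]
            exact (Matrix.scalar_commute _ (fun _ => Commute.all _ _) _).symm.eq)
          fix := g.fix
          zinj := fun l l' h => Subtype.ext (Units.ext (by
            have := g.sc l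
            rw [h, g.sc] at this
            simpa using (congrFun (congrFun this 0) 0).symm))
          dz := fun l => Subtype.ext (Units.ext ((dl _).trans (by
            change (e (ζ l)).1.det = _
            rw [g.sc]
            simp)))
          uniq := g.uniq
          four := g.four
          ker := fun a h => g.ker a ((d1 _).mp h) }
      inj := Subtype.val_injective
      det := fun r => rfl
      sc := g.sc
      val := fun k => by
        rw [g.val, card, padicValNat.mul Nat.card_pos.ne' two_ne_zero, padicValNat_self] }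
  exact m.aut hq hn h4 T

theorem exists_gen {X : Type*} [CommGroup X] [Finite X] [IsCyclic X] (C : Sylow 2 X) :
    ∃ g : C, (∀ x, x ∈ zpowers g) ∧ ∀ k, 2 ^ (k + 1) ∣ Nat.card X → g ^ 2 ^ k ≠ 1 := by
  obtain ⟨g, hg⟩ := IsCyclic.exists_generator (α := C)
  refine ⟨g, hg, fun k hk h => ?_⟩
  have h1 := orderOf_dvd_of_pow_eq_one h
  rw [orderOf_eq_card_of_forall_mem_zpowers hg] at h1
  have h2 := (padicValNat_dvd_iff_le (p := 2) Nat.card_pos.ne').mp hk
  rw [← val_sylow C] at h2
  have h3 := ((padicValNat_dvd_iff_le (p := 2) Nat.card_pos.ne').mpr h2).trans h1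
  rw [Nat.pow_dvd_pow_iff_le_right one_lt_two] at h3
  omega

theorem aut_one (hq : Fintype.card F % 4 = 1) {n : ℕ} (hn : 2 ≤ n) (h8 : n = 2 → Fintype.card F % 8 = 1)
    (T : Sylow 2 (Matrix.ProjectiveSpecialLinearGroup (Fin n) F)) : IsPGroup 2 (MulAut T) := by
  have hodd : Odd (Fintype.card F) := Nat.odd_iff.2 (by omega)
  let C : Sylow 2 Fˣ := default
  obtain ⟨g, hg, ho⟩ := exists_gen C
  rw [Nat.card_units, Nat.card_eq_fintype_card] at ho
  let e : C × C →* GL (Fin 2) F := MonoidHom.toHomUnits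
    { toFun := fun a => !![a.1.1.1, 0; 0, a.2.1.1]
      map_one' := by ext i k; fin_cases i <;> fin_cases k <;> simp
      map_mul' := fun x y => by ext i k; fin_cases i <;> fin_cases k <;> simp [Matrix.mul_apply, Fin.sum_univ_two] }
  have he : ∀ a, (e a).1 = !![a.1.1.1, 0; 0, a.2.1.1] := fun a => rfl
  let j : GL (Fin 2) F := Matrix.GeneralLinearGroup.mkOfDetNeZero !![0, 1; -1, 0] (by simp)
  have hj : j.1 = !![0, 1; -1, 0] := rfl
  let m1 : C := ⟨-1, mem_sylow_comm C (k := 1) (by simp)⟩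
  have mem : ∀ x : C × C, x.1 * x.2 = 1 → x ∈ zpowers (g, g⁻¹) := fun x h => by
    obtain ⟨k, hk⟩ := hg x.1
    exact ⟨k, Prod.ext hk ((inv_zpow g k).trans (by
      rw [eq_inv_of_mul_eq_one_right h, ← hk]))⟩
  have G : G0 C e (MulEquiv.prodComm (M := C) (N := C)).toMonoidHom j (g, g⁻¹) (g⁻¹, 1)
      ((MonoidHom.id C).prod (MonoidHom.id C)) :=
    { two := fun a => by
        obtain ⟨k, hk⟩ := C.2 a.1
        obtain ⟨k', hk'⟩ := C.2 a.2
        exact ⟨k + k', Prod.ext (by rw [Prod.pow_fst, pow_add, pow_mul, hk, one_pow]; rfl)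
          (by rw [Prod.pow_snd, pow_add, mul_comm, pow_mul, hk', one_pow]; rfl)⟩
      inj := fun x y h => by
        have := (he x).symm.trans ((congrArg Units.val h).trans (he y))
        exact Prod.ext (Subtype.ext (Units.ext (by simpa using congrFun (congrFun this 0) 0)))
          (Subtype.ext (Units.ext (by simpa using congrFun (congrFun this 1) 1)))
      cj := fun a => Units.ext (by
        rw [Units.val_mul, Units.val_mul, he, he, hj]
        ext i k; fin_cases i <;> fin_cases k <;> simp [Matrix.mul_apply, Fin.sum_univ_two])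
      jj := ⟨(m1, m1), Units.ext (by
        rw [Units.val_mul, he, hj]
        ext i k; fin_cases i <;> fin_cases k <;> simp [m1, Matrix.mul_apply, Fin.sum_univ_two])⟩
      cm := fun a => mem _ (by
        change a.1⁻¹ * a.2 * (a.2⁻¹ * a.1) = 1
        group)
      a1c := Prod.ext (by simp) (by simp)
      bc := Prod.ext rfl (inv_inv g).symm
      c2 := fun h => ho 1 (by omega) (congrArg Prod.fst h)
      dc := by rw [he]; simp
      dj := by rw [hj]; simp
      fix := fun a h => ⟨a.1, Prod.ext rfl (congrArg Prod.snd h :)⟩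
      sc := fun l => by rw [he]; ext i k; fin_cases i <;> fin_cases k <;> simp
      uniq := fun l h => mem _ ((pow_two l).symm.trans h)
      four := fun h l => by
        obtain ⟨k, rfl⟩ := hg l
        have : g ^ 4 = 1 := congrArg Prod.fst h
        change (g ^ k) ^ 4 = 1
        rw [← zpow_natCast, ← zpow_mul, mul_comm, zpow_mul, zpow_natCast, this, one_zpow]
      ker := fun a h => by
        refine mem a (Subtype.ext (Units.ext ?_))
        rw [he] at h
        simpa using h
      val := fun m => by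
        rw [H79.val_card_GL hodd, H79.val_prod_one Fintype.one_lt_card hq, padicValNat_factorial_mul,
          Nat.card_prod, padicValNat.mul Nat.card_pos.ne' Nat.card_pos.ne', val_sylow, Nat.card_units,
          Nat.card_eq_fintype_card]
        ring }
  exact G.aut hodd hn (fun h2 h => ho 2 (by have := h8 h2; omega) (congrArg Prod.fst h)) T

open QuadraticAlgebra in
theorem aut_three (hq : Fintype.card F % 4 = 3) {n : ℕ} (hn : 2 ≤ n) (h8 : n = 2 → Fintype.card F % 8 = 7)
    (T : Sylow 2 (Matrix.ProjectiveSpecialLinearGroup (Fin n) F)) : IsPGroup 2 (MulAut T) := by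
  classical
  have hodd : Odd (Fintype.card F) := Nat.odd_iff.2 (by omega)
  have h2 := H30.two_ne_zero_iff_odd_card.2 hodd
  have hneg : ¬ IsSquare (-1 : F) := by
    rw [FiniteField.isSquare_neg_one_iff]; omega
  haveI : Fact (∀ r : F, r ^ 2 ≠ -1 + 0 * r) := ⟨fun r h => hneg ⟨r, by rw [← pow_two, h]; simp⟩⟩
  haveI : Finite (QuadraticAlgebra F (-1) 0) := Finite.of_equiv _ (equivProd (-1 : F) 0).symm
  have hD : Nat.card (QuadraticAlgebra F (-1) 0)ˣ = Fintype.card F ^ 2 - 1 := by
    rw [Nat.card_units, Nat.card_congr (equivProd (-1 : F) 0), Nat.card_prod, Nat.card_eq_fintype_card, pow_two]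
  let C : Sylow 2 Fˣ := default
  let A : Sylow 2 (QuadraticAlgebra F (-1) 0)ˣ := default
  obtain ⟨X, hX, ho⟩ := exists_gen A
  rw [hD] at ho
  have pm : ∀ (r : F) (k : ℕ), r ^ 2 ^ k = 1 → r = 1 ∨ r = -1 := fun r k => by
    induction k generalizing r with
    | zero => exact fun h => Or.inl (by simpa using h)
    | succ k ih =>
      intro h
      rw [pow_succ', pow_mul] at h
      rcases ih _ h with h1 | h1
      · exact sq_eq_one_iff.mp h1
      · exact absurd ⟨r, by rw [← pow_two, h1]⟩ hneg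
  let e : A →* GL (Fin 2) F := MonoidHom.toHomUnits
    { toFun := fun a => !![a.1.1.re, -a.1.1.im; a.1.1.im, a.1.1.re]
      map_one' := by ext i k; fin_cases i <;> fin_cases k <;> simp
      map_mul' := fun x y => by
        ext i k; fin_cases i <;> fin_cases k <;> simp [Matrix.mul_apply, Fin.sum_univ_two] <;> ring }
  have he : ∀ a, (e a).1 = !![a.1.1.re, -a.1.1.im; a.1.1.im, a.1.1.re] := fun a => rfl
  have hd : ∀ a, (e a).1.det = norm a.1.1 := fun a => by rw [he, norm_def]; simp
  let b : A →* A := ((Units.map (starRingEnd (QuadraticAlgebra F (-1) 0)).toMonoidHom).comp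
    (A : Subgroup _).subtype).codRestrict (A : Subgroup _) fun x => by
      obtain ⟨k, hk⟩ := A.2 x
      exact mem_sylow_comm A (k := k) (by rw [← map_pow, hk, map_one])
  have hb : ∀ a, (b a).1.1 = star a.1.1 := fun a => rfl
  let ζ : C →* A := ((Units.map (algebraMap F (QuadraticAlgebra F (-1) 0)).toMonoidHom).comp
    (C : Subgroup _).subtype).codRestrict (A : Subgroup _) fun x => by
      obtain ⟨k, hk⟩ := C.2 x
      exact mem_sylow_comm A (k := k) (by rw [← map_pow, hk, map_one])
  have hζ : ∀ l, (ζ l).1.1 = algebraMap F _ l.1.1 := fun a => rfl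
  have ext' : ∀ x y : A, x.1.1 = y.1.1 → x = y := fun x y h => Subtype.ext (Units.ext h)
  have bb : ∀ a, b (b a) = a := fun a => ext' _ _ (by rw [hb, hb, star_star])
  obtain ⟨s, t, hst⟩ : ∃ s t : F, s ^ 2 + t ^ 2 = -1 := by
    obtain ⟨p, hp⟩ := CharP.exists F
    haveI : NeZero p := ⟨CharP.char_ne_zero_of_finite F p⟩
    obtain ⟨s, t, h⟩ := CharP.sq_add_sq F p (-1)
    exact ⟨s, t, by simpa using h⟩
  let j : GL (Fin 2) F := Matrix.GeneralLinearGroup.mkOfDetNeZero !![s, t; t, -s] (by
    rw [Matrix.det_fin_two_of, show s * -s - t * t = 1 by linear_combination -hst]; exact one_ne_zero)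
  have hj : j.1 = !![s, t; t, -s] := rfl
  let m1 : A := ⟨-1, mem_sylow_comm A (k := 1) (by simp)⟩
  let N : A →* F := (QuadraticAlgebra.norm.comp (Units.coeHom _)).comp (A : Subgroup (QuadraticAlgebra F (-1) 0)ˣ).subtype
  have hN : ∀ a, N a = norm a.1.1 := fun a => rfl
  have NX : N X = -1 := by
    obtain ⟨k, hk⟩ := A.2 X
    refine (pm _ k (by rw [← map_pow, hk, map_one])).resolve_left fun h1 => ?_
    have nu : norm (⟨s, t⟩ : QuadraticAlgebra F (-1) 0) = -1 := by rw [norm_def]; linear_combination hst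
    have u0 : (⟨s, t⟩ : QuadraticAlgebra F (-1) 0) ≠ 0 := fun h => by
      rw [h, QuadraticAlgebra.norm_zero] at nu
      exact one_ne_zero (neg_eq_zero.mp nu.symm)
    obtain ⟨k, r, hr, h3⟩ := Nat.exists_eq_two_pow_mul_odd (Nat.card_pos (α := (QuadraticAlgebra F (-1) 0)ˣ)).ne'
    obtain ⟨i, hi⟩ := (mem_powers_iff_mem_zpowers).mpr (hX ⟨Units.mk0 _ u0 ^ r, mem_sylow_comm A (k := k) (by
      rw [← pow_mul, mul_comm, ← h3, pow_card_eq_one'])⟩)
    have h4 := congrArg N hi
    rw [map_pow, h1, one_pow, hN] at h4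
    change 1 = norm (⟨s, t⟩ ^ r : QuadraticAlgebra F (-1) 0) at h4
    rw [map_pow, nu, hr.neg_one_pow] at h4
    exact h2 (by linear_combination h4)
  have XX : X * b X = m1 := ext' _ _ (by
    change X.1.1 * star X.1.1 = -1
    rw [← algebraMap_norm_eq_mul_star, ← hN, NX, map_neg, map_one])
  have mm : m1 * m1 = 1 := ext' _ _ (by change (-1 : QuadraticAlgebra F (-1) 0) * -1 = 1; simp)
  have cX : X⁻¹ * b X = m1 * (X ^ 2)⁻¹ := by rw [← XX, pow_two, mul_inv_rev, mul_comm X, mul_assoc,
    mul_inv_cancel_left, mul_comm]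
  have c2 : (X⁻¹ * b X) ^ 2 = (X ^ 4)⁻¹ := by
    rw [cX, mul_pow, pow_two m1, mm, one_mul, inv_pow, ← pow_mul]
  have d8 : 2 ^ (2 + 1) ∣ Fintype.card F ^ 2 - 1 := by
    obtain ⟨k, hk⟩ : ∃ k, Fintype.card F = 4 * k + 3 := ⟨Fintype.card F / 4, by omega⟩
    exact ⟨2 * k ^ 2 + 3 * k + 1, by rw [hk, Nat.sub_eq_iff_eq_add (Nat.one_le_pow _ _ (by omega))]; ring⟩
  have c2' : (X⁻¹ * b X) ^ 2 ≠ 1 := by rw [c2, Ne, inv_eq_one]; exact ho 2 d8
  have m1c : m1 ∈ zpowers (X⁻¹ * b X) := by
    obtain ⟨k, hk⟩ := A.2 (X⁻¹ * b X)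
    have hex : ∃ k, (X⁻¹ * b X) ^ 2 ^ k = 1 := ⟨k, hk⟩
    have h0 : Nat.find hex ≠ 0 := fun h => c2' (by
      have := Nat.find_spec hex
      rw [h, pow_zero, pow_one] at this
      rw [this, one_pow])
    obtain ⟨i, hi⟩ := Nat.exists_eq_succ_of_ne_zero h0
    have h1 := Nat.find_spec hex
    rw [hi, pow_succ, pow_mul] at h1
    have h3 : ((X⁻¹ * b X) ^ 2 ^ i).1.1 ^ 2 = 1 := congrArg (fun a : A => a.1.1) h1
    rcases sq_eq_one_iff.mp h3 with h4 | h4
    · exact absurd (ext' _ 1 h4) (Nat.find_min hex (by omega))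
    · rw [← ext' _ m1 h4]
      exact pow_mem (mem_zpowers _) _
  have G : G0 C e b j (X⁻¹ * b X) X ζ :=
    { two := A.2
      inj := fun x y h => by
        have := (he x).symm.trans ((congrArg Units.val h).trans (he y))
        exact ext' _ _ (QuadraticAlgebra.ext (by simpa using congrFun (congrFun this 0) 0)
          (by simpa using congrFun (congrFun this 1) 0))
      cj := fun a => Units.ext (by
        rw [Units.val_mul, Units.val_mul, he, he, hj, hb]
        ext i k; fin_cases i <;> fin_cases k <;> simp [Matrix.mul_apply, Fin.sum_univ_two] <;> ring)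
      jj := ⟨m1, Units.ext (by
        rw [Units.val_mul, he, hj]
        ext i k; fin_cases i <;> fin_cases k <;> simp [m1, Matrix.mul_apply, Fin.sum_univ_two]
        · linear_combination -hst
        · ring
        · ring
        · linear_combination -hst)⟩
      cm := fun a => by
        obtain ⟨k, rfl⟩ := hX a
        exact ⟨k, by simp only [mul_zpow, map_zpow, inv_zpow]⟩
      a1c := rfl
      bc := by rw [map_mul, map_inv, bb, mul_inv_rev, inv_inv]
      c2 := c2'
      dc := by
        rw [hd, ← hN, map_mul, map_inv, hN (b X), hb, QuadraticAlgebra.norm_star, ← hN, NX]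
        simp
      dj := by rw [hj, Matrix.det_fin_two_of]; linear_combination -hst
      fix := fun a h => by
        have h1 : a.1.1.im = 0 := by
          have := congrArg (fun a : A => a.1.1.im) h
          simp only [hb, im_star] at this
          exact (mul_eq_zero.mp (show 2 * a.1.1.im = 0 by linear_combination -this)).resolve_left h2
        have h3 : algebraMap F (QuadraticAlgebra F (-1) 0) a.1.1.re = a.1.1 := QuadraticAlgebra.ext rfl h1.symm
        have h0 : a.1.1.re ≠ 0 := fun h => a.1.ne_zero (by rw [← h3, h, map_zero])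
        obtain ⟨k, hk⟩ := A.2 a
        refine ⟨⟨Units.mk0 _ h0, mem_sylow_comm C (k := k) (Units.ext (algebraMap_injective (a := (-1 : F)) (b := 0) ?_))⟩,
          ext' _ _ h3⟩
        rw [Units.val_pow_eq_pow_val, map_pow, Units.val_mk0, h3, Units.val_one, map_one]
        exact congrArg (fun a : A => a.1.1) hk
      sc := fun l => by rw [he, hζ]; ext i k; fin_cases i <;> fin_cases k <;> simp
      uniq := fun l h => by
        have h3 : l.1.1 ^ 2 = 1 := congrArg (fun a : C => a.1.1) h
        rcases sq_eq_one_iff.mp h3 with h4 | h4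
        · rw [ext' (ζ l) 1 (by rw [hζ, h4, map_one]; rfl)]
          exact one_mem _
        · rwa [ext' (ζ l) m1 (by rw [hζ, h4, map_neg, map_one]; rfl)]
      four := fun _ l => by
        obtain ⟨k, hk⟩ := C.2 l
        refine Subtype.ext (Units.ext ?_)
        change l.1.1 ^ 4 = 1
        rcases pm l.1.1 k (congrArg (fun a : C => a.1.1) hk) with h | h <;> rw [h] <;> ring
      ker := fun a h => by
        obtain ⟨k, rfl⟩ := (mem_powers_iff_mem_zpowers).mpr (hX a)
        rw [hd, ← hN, map_pow, NX] at h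
        obtain ⟨i, rfl | rfl⟩ := Nat.even_or_odd' k
        · change X ^ (2 * i) ∈ _
          rw [pow_mul]
          refine pow_mem (inv_mem_iff.mp ((mul_mem_cancel_left m1c).mp ?_)) i
          rw [← cX]
          exact mem_zpowers _
        · rw [(odd_two_mul_add_one i).neg_one_pow] at h
          exact absurd (by linear_combination -h) h2
      val := fun m => by rw [H79.val_card_GL hodd, H79.val_prod_three hq, val_sylow, hD] }
  refine G.aut hodd hn (fun h2 h => ho 3 ?_ ?_) T
  · obtain ⟨k, hk⟩ : ∃ k, Fintype.card F = 8 * k + 7 := ⟨Fintype.card F / 8, by have := h8 h2; omega⟩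
    exact ⟨4 * k ^ 2 + 7 * k + 3, by rw [hk, Nat.sub_eq_iff_eq_add (Nat.one_le_pow _ _ (by omega))]; ring⟩
  · rwa [show 4 = 2 * 2 from rfl, pow_mul, c2, inv_pow, inv_eq_one, ← pow_mul] at h

theorem aut_psl (hq : Odd (Fintype.card F)) {n : ℕ} (hn : 2 ≤ n)
    (h8 : n = 2 → Fintype.card F % 8 = 1 ∨ Fintype.card F % 8 = 7)
    (T : Sylow 2 (Matrix.ProjectiveSpecialLinearGroup (Fin n) F)) : IsPGroup 2 (MulAut T) := by
  have := Nat.odd_iff.mp hq
  rcases (by omega : Fintype.card F % 4 = 1 ∨ Fintype.card F % 4 = 3) with h | h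
  · exact aut_one h hn (fun h2 => by have := h8 h2; omega) T
  · exact aut_three h hn (fun h2 => by have := h8 h2; omega) T

end Cfsg.Agent.H96.AL
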