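import Cfsg.Agent.H96.FuLSc

/-! The block model of a Sylow 2-subgroup of `PSL_n(q)`: `BlkStmt`, `ScStmt`. -/

set_option autoImplicit false
set_option linter.unusedSectionVars false

namespace Cfsg.Agent.H96.FL

open Matrix Subgroup Cfsg.Agent.H1.FU Cfsg.Agent.H8 Cfsg.Agent.H96.AL Equiv
open H79 (Wr wr_mul_left)
open scoped Pointwise MatrixGroups

universe u v

variable {F : Type*} [Field F] [Fintype F] {k r : ℕ}

/-- the determinant. -/
abbrev dt (F : Type*) [Field F] : GL (Fin 2) F →* Fˣ := Matrix.GeneralLinearGroup.det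

/-- block monomial matrices. -/
abbrev W1 (F : Type*) [Field F] (k r : ℕ) : Subgroup (Wr (Fin k) (GL (Fin 2) F)) :=
  KK (r = 1) ⊤ (dt F)

/-- the numbering of the places. -/
def eps (k r : ℕ) : (Fin 2 × Fin k) ⊕ Fin r ≃ Fin (2 * k + r) :=
  (Equiv.sumCongr finProdFinEquiv (Equiv.refl _)).trans finSumFinEquiv

/-- the matrix. -/
def Phi (r : ℕ) : Wr (Fin k) (GL (Fin 2) F) →*
    Matrix ((Fin 2 × Fin k) ⊕ Fin r) ((Fin 2 × Fin k) ⊕ Fin r) F where
  toFun g := fromBlocks (blk (Fin k) (MonoidHom.id _) g) 0 0 (scalar _ (Det (Fin k) (dt F) g)⁻¹.1)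
  map_one' := by simp
  map_mul' x y := by
    rw [fromBlocks_multiply, map_mul, map_mul, mul_inv, ← map_mul]
    simp

theorem det_Phi (hr : r < 2) (g : W1 F k r) : (Phi r g.1).det = 1 := by
  have e : (blk (Fin k) (MonoidHom.id _) g.1).det = (Det (Fin k) (dt F) g.1).1 := by
    rw [det_blk]
    exact (map_prod (Units.coeHom F) (fun i => dt F (g.1.left i)) _).symm
  change (fromBlocks _ 0 0 _).det = 1
  rw [det_fromBlocks_zero₂₁, e, scalar_apply, det_diagonal, Finset.prod_const, Finset.card_univ,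
    Fintype.card_fin]
  rcases g.2.2 with h | h
  · simp [h]
  · simp [h]

/-- the embedding in `SL`. -/
noncomputable def Psi (hr : r < 2) : W1 F k r →* SL(2 * k + r, F) where
  toFun g := ⟨reindexAlgEquiv F F (eps k r) (Phi r g.1), by rw [det_reindexAlgEquiv, det_Phi hr]⟩
  map_one' := Subtype.ext (by simp)
  map_mul' x y := Subtype.ext (by
    change reindexAlgEquiv F F (eps k r) (Phi r (x.1 * y.1)) = reindexAlgEquiv F F _ _ * _
    rw [map_mul, map_mul])

theorem Psi_inj (hr : r < 2) : Function.Injective (Psi (F := F) (k := k) hr) := fun _ _ h =>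
  Subtype.ext (blk_injective (ρ := MonoidHom.id _) (fun _ _ e => e)
    (fromBlocks_inj.mp ((reindexAlgEquiv F F (eps k r)).injective (congrArg Subtype.val h))).1)

/-- diagonal matrices. -/
noncomputable def dg : (Fin 2 → Fˣ) →* GL (Fin 2) F :=
  ((diagonalRingHom (Fin 2) F).toMonoidHom.comp ((Units.coeHom F).compLeft (Fin 2))).toHomUnits

theorem coe_dg (d : Fin 2 → Fˣ) : (dg d).1 = diagonal fun a => (d a).1 := rfl

theorem dt_dg (d : Fin 2 → Fˣ) : dt F (dg d) = d 0 * d 1 := Units.ext (by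
  change (dg d).1.det = _
  rw [coe_dg, det_diagonal, Fin.prod_univ_two]; rfl)

theorem Psi_dg (hr : r < 2) (i : Fin k) (d : Fin 2 → Fˣ) (h : sg i (dg d) ∈ W1 F k r) :
    (Psi hr ⟨_, h⟩).1 = diagonal (Sum.elim (fun x => if x.2 = i then (d x.1).1 else 1)
      (fun _ => (d 0 * d 1)⁻¹.1) ∘ (eps k r).symm) := by
  have e : blk (Fin k) (MonoidHom.id _) (sg i (dg d)) =
      diagonal fun x => if x.2 = i then (d x.1).1 else 1 := by
    ext ⟨a, j⟩ ⟨b, l⟩
    rw [blk_apply, sg_right]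
    rcases eq_or_ne j i with rfl | hj
    · rw [sg_same]
      by_cases h1 : j = l <;> by_cases h2 : a = b <;> simp [coe_dg, h1, h2]
    · rw [sg_ne hj]
      by_cases h1 : j = l <;> by_cases h2 : a = b <;> simp_all [one_apply]
  change (fromBlocks (blk _ _ _) 0 0 (scalar _ (Det (Fin k) (dt F) _)⁻¹.1)).submatrix
    (eps k r).symm (eps k r).symm = _
  rw [e, det_sg, dt_dg, scalar_apply, fromBlocks_diagonal, submatrix_diagonal_equiv]

/-- the 2-subgroup. -/
def KR (r : ℕ) (R : Subgroup (GL (Fin 2) F)) (P : Subgroup (Perm (Fin k))) :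
    Subgroup (Wr (Fin k) (GL (Fin 2) F)) where
  carrier := {g | g ∈ W1 F k r ∧ g.right ∈ P ∧ ∀ i, g.left i ∈ R}
  one_mem' := ⟨one_mem _, one_mem _, fun _ => one_mem _⟩
  mul_mem' := fun {x y} hx hy => ⟨mul_mem hx.1 hy.1, mul_mem hx.2.1 hy.2.1, fun i => by
    rw [wr_mul_left]; exact mul_mem (hx.2.2 _) (hy.2.2 _)⟩
  inv_mem' := fun {x} hx => ⟨inv_mem hx.1, inv_mem hx.2.1, fun i => by
    rw [wr_inv_left]; exact inv_mem (hx.2.2 _)⟩

theorem card_KR (R : Subgroup (GL (Fin 2) F)) (P : Subgroup (Perm (Fin k))) :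
    Nat.card (KR r R P) = Nat.card (KK (r = 1) P ((dt F).comp R.subtype)) :=
  Nat.card_congr
    { toFun := fun g => ⟨⟨fun i => ⟨g.1.left i, g.2.2.2 i⟩, g.1.right⟩, g.2.2.1, g.2.1.2⟩
      invFun := fun g => ⟨⟨fun i => g.1.left i, g.1.right⟩, ⟨trivial, g.2.2⟩, g.2.1,
        fun i => (g.1.left i).2⟩
      left_inv := fun _ => rfl
      right_inv := fun _ => rfl }

theorem val_GL (hq : Odd (Fintype.card F)) (k : ℕ) : padicValNat 2 (Nat.card (GL (Fin (2 * k)) F)) =
    k * padicValNat 2 (Nat.card (GL (Fin 2) F)) + padicValNat 2 k.factorial := by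
  rw [H79.val_card_GL hq, H79.val_card_GL hq]
  rcases (show Fintype.card F % 4 = 1 ∨ Fintype.card F % 4 = 3 by
    have := Nat.odd_iff.1 hq; omega) with h | h
  · rw [H79.val_prod_one Fintype.one_lt_card h, H79.val_prod_one Fintype.one_lt_card h,
      padicValNat_factorial_mul, show padicValNat 2 (Nat.factorial 2) = 1 from padicValNat_self]
    ring
  · have := H79.val_prod_three h 1
    rw [mul_one] at this
    rw [H79.val_prod_three h, this]
    simp

theorem val_SL (hq : Odd (Fintype.card F)) (hr : r < 2) (hk : k ≠ 0) (R : Sylow 2 (GL (Fin 2) F))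
    (P : Sylow 2 (Perm (Fin k))) : padicValNat 2 (Nat.card SL(2 * k + r, F)) ≤
      padicValNat 2 (Nat.card (KK (r = 1) (P : Subgroup (Perm (Fin k)))
        ((dt F).comp (R : Subgroup (GL (Fin 2) F)).subtype))) := by
  haveI : Nonempty (Fin (2 * k)) := ⟨⟨0, by omega⟩⟩
  haveI := H79.wr_finite (ι := Fin k) (H := (R : Subgroup (GL (Fin 2) F)))
  have e0 : padicValNat 2 (Nat.card (KK True (P : Subgroup (Perm (Fin k)))
      ((dt F).comp (R : Subgroup (GL (Fin 2) F)).subtype))) =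
      padicValNat 2 (Nat.card (GL (Fin (2 * k)) F)) := by
    rw [card_KT, padicValNat.mul (pow_ne_zero _ Nat.card_pos.ne') Nat.card_pos.ne', padicValNat.pow,
      val_sylow, val_sylow, val_GL hq, Nat.card_perm, Fintype.card_fin, Nat.card_fin]
  obtain rfl | rfl : r = 0 ∨ r = 1 := by omega
  · have e1 := (padicValNat_dvd_iff_le (p := 2) (mul_ne_zero Nat.card_pos.ne' Nat.card_pos.ne')).mp
      (pow_padicValNat_dvd.trans (card_KF (P : Subgroup (Perm (Fin k)))
        ((dt F).comp (R : Subgroup (GL (Fin 2) F)).subtype)))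
    rw [e0, padicValNat.mul Nat.card_pos.ne' Nat.card_pos.ne',
      ← H26.card_units_mul_card_sl, padicValNat.mul Nat.card_pos.ne' Nat.card_pos.ne'] at e1
    rw [show ((0 : ℕ) = 1) = False by simp]
    change padicValNat 2 (Nat.card SL(2 * k, F)) ≤ _
    omega
  · have e2 := congrArg (padicValNat 2) (H26.card_units_mul_card_sl (ι := Fin (2 * k + 1)) (R := F))
    rw [padicValNat.mul Nat.card_pos.ne' Nat.card_pos.ne', H79.val_card_GL hq, Finset.prod_range_succ,
      padicValNat.mul (H79.prod_pow_sub_one_ne_zero Fintype.one_lt_card _)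
        (Nat.sub_ne_zero_of_lt (Nat.one_lt_pow (by omega) Fintype.one_lt_card)),
      H79.val_pow_sub_one_of_odd Fintype.one_lt_card hq (odd_two_mul_add_one k), Nat.card_units,
      Nat.card_eq_fintype_card, ← H79.val_card_GL hq] at e2
    rw [show ((1 : ℕ) = 1) = True by simp, e0]
    omega

theorem two_KR (R : Sylow 2 (GL (Fin 2) F)) (P : Sylow 2 (Perm (Fin k))) :
    IsPGroup 2 (KR r (R : Subgroup (GL (Fin 2) F)) (P : Subgroup (Perm (Fin k)))) := by
  haveI := H79.wr_finite (ι := Fin k) (H := (R : Subgroup (GL (Fin 2) F)))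
  obtain ⟨a, ha⟩ := (two_KK R.2 (r = 1) P
    ((dt F).comp (R : Subgroup (GL (Fin 2) F)).subtype)).exists_card_eq
  exact IsPGroup.of_card ((card_KR _ _).trans ha)

/-- the map to `PSL`. -/
noncomputable def Pp (hr : r < 2) : W1 F k r →* ProjectiveSpecialLinearGroup (Fin (2 * k + r)) F :=
  (QuotientGroup.mk' _).comp (Psi hr)

theorem syl_KR (hq : Odd (Fintype.card F)) (hr : r < 2) (hk : k ≠ 0) (R : Sylow 2 (GL (Fin 2) F))
    (P : Sylow 2 (Perm (Fin k))) : IsSylowIn 2 (((KR r (R : Subgroup (GL (Fin 2) F))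
      (P : Subgroup (Perm (Fin k)))).subgroupOf (W1 F k r)).map (Pp hr)) ⊤ := by
  have val := val_SL hq hr hk R P
  rw [← card_KR] at val
  have hP := two_KR (r := r) R P
  generalize hK : KR r (R : Subgroup (GL (Fin 2) F)) (P : Subgroup (Perm (Fin k))) = K at val hP ⊢
  have le : K ≤ W1 F k r := hK ▸ fun g hg => hg.1
  have h1 : IsSylowIn 2 ((K.subgroupOf (W1 F k r)).map (Psi hr)) ⊤ := by
    refine ⟨le_top, hP.comap_subtype.map _, fun h => ?_⟩
    rw [relIndex_top_right] at h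
    rw [← ((K.subgroupOf (W1 F k r)).map (Psi hr)).card_mul_index,
      padicValNat.mul Nat.card_pos.ne' index_ne_zero_of_finite, card_map_of_injective (Psi_inj hr),
      Nat.card_congr (subgroupOfEquivOfLe le).toEquiv] at val
    have := one_le_padicValNat_of_dvd index_ne_zero_of_finite h
    omega
  have := h1.map (QuotientGroup.mk' (center SL(2 * k + r, F)))
  rwa [map_top_of_surjective _ (QuotientGroup.mk'_surjective _), Subgroup.map_map] at this

theorem sg_mem {i : Fin k} {y : GL (Fin 2) F} (h : r = 1 ∨ dt F y = 1) : sg i y ∈ W1 F k r :=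
  ⟨trivial, by rwa [det_sg]⟩

theorem dg_neg : dt F (dg fun _ => -1) = 1 := by rw [dt_dg]; simp

theorem Psi_neg (hr : r < 2) (i : Fin k) : Psi hr ⟨_, sg_mem (i := i) (Or.inr (dg_neg (F := F)))⟩ =
    tm F (eps k r (Sum.inl (0, i))) (eps k r (Sum.inl (1, i))) := by
  refine Subtype.ext ?_
  rw [Psi_dg, coe_tm' (by simp), dm]
  congr 1
  funext c
  obtain ⟨⟨a, j⟩ | c, rfl⟩ := (eps k r).surjective c
  · fin_cases a <;> simp
  · simp

theorem blkS : BlkStmt.{v} := by
  intro n hn F _ _ hq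
  obtain ⟨k, r, hr, rfl⟩ : ∃ k r, r < 2 ∧ n = 2 * k + r := ⟨n / 2, n % 2, by omega, by omega⟩
  have fr := fr_tP (F := F) (two_ne_of_odd hq) (show 5 ≤ 2 * k + r by omega)
  let l : Fin k → Fin 2 → Fin (2 * k + r) := fun i a => eps k r (Sum.inl (a, i))
  let N : Subgroup (ProjectiveSpecialLinearGroup (Fin (2 * k + r)) F) :=
    { carrier := {s | ∃ σ : Perm (Fin k), ∀ i, s * tP F (l i 0) (l i 1) * s⁻¹ =
        tP F (l (σ i) 0) (l (σ i) 1)}
      one_mem' := ⟨1, fun i => by simp⟩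
      mul_mem' := fun {x y} ⟨σ, h⟩ ⟨τ, h'⟩ => ⟨σ * τ, fun i => by
        rw [Perm.mul_apply, ← h, ← h']; group⟩
      inv_mem' := fun {x} ⟨σ, h⟩ => ⟨σ⁻¹, fun i => by
        have := h (σ⁻¹ i)
        rw [Perm.coe_inv, apply_symm_apply] at this
        rw [← this, Perm.coe_inv]; group⟩ }
  have hs := syl_KR hq hr (show k ≠ 0 by omega) default default
  have le0 : (Pp (F := F) (k := k) hr).range ≤ N := by
    rintro _ ⟨g, rfl⟩
    refine ⟨g.1.right, fun i => ?_⟩
    rw [tP, tP, ← Psi_neg hr, ← Psi_neg hr]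
    change Pp hr g * Pp hr _ * _ = Pp hr _
    rw [← map_inv, ← map_mul, ← map_mul]
    refine congrArg _ (Subtype.ext ((conj_sg _ _ _).trans (congrArg _ ?_)))
    rw [mul_inv_eq_iff_eq_mul]
    refine Units.ext ?_
    change _ * diagonal (fun _ => (-1 : F)) = diagonal (fun _ => (-1 : F)) * _
    ext a b
    rw [mul_diagonal, diagonal_mul, mul_comm]
  have le := (map_le_range (Pp hr) ((KR r ((default : Sylow 2 (GL (Fin 2) F)) : Subgroup _)
    ((default : Sylow 2 (Perm (Fin k))) : Subgroup _)).subgroupOf (W1 F k r))).trans le0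
  obtain ⟨g, hg, h⟩ := (hs.mono le le_top).exists_conj_le fr.two ((closure_le _).2 (by
    rintro _ ⟨a, b, rfl⟩
    exact ⟨1, fun i => by rw [fr.comm, mul_inv_cancel_right]; rfl⟩))
  have hs' := hs.conj_smul_of_mem_normalizer (g := g⁻¹) (by rw [normalizer_eq_top]; trivial)
  refine ⟨k, l, hs'.toSylowTop, by omega, ?_, fun a b => ?_, fun s h1 i => ?_⟩
  · rintro ⟨i, a⟩ ⟨j, b⟩ e
    have := (eps k r).injective e
    simp_all
  · exact mem_conj_smul.2 (by
      rw [inv_inv]; exact h (conj_mem_conj_smul.2 (subset_closure ⟨a, b, rfl⟩)))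
  · have h2 := mul_mem (mul_mem (inv_mem hg) (le (mem_conj_smul.1 h1))) hg
    obtain ⟨σ, h3⟩ : s ∈ N := by simpa [mul_assoc] using h2
    exact ⟨_, h3 i⟩

theorem sg_mul (i : Fin k) (x y : GL (Fin 2) F) : sg i (x * y) = sg i x * sg i y := by
  rw [sg, sg, sg, ← map_mul, Pi.mulSingle_mul]

theorem sg_one (i : Fin k) : sg i (1 : GL (Fin 2) F) = 1 := by
  rw [sg, Pi.mulSingle_one, map_one]

theorem sg_inv (i : Fin k) (x : GL (Fin 2) F) : sg i x⁻¹ = (sg i x)⁻¹ :=
  eq_inv_of_mul_eq_one_left (by rw [← sg_mul, inv_mul_cancel, sg_one])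

theorem sg_comm {i j : Fin k} (h : i ≠ j) (x y : GL (Fin 2) F) : sg i x * sg j y = sg j y * sg i x := by
  rw [sg, sg, ← map_mul, ← map_mul]
  exact congrArg _ (Pi.mulSingle_commute (f := fun _ => GL (Fin 2) F) h x y).eq

theorem inr_mem (σ : Perm (Fin k)) : SemidirectProduct.inr σ ∈ W1 F k r :=
  ⟨trivial, Or.inr (by change ∏ _i : Fin k, dt F 1 = 1; simp)⟩

theorem sg_KR {R : Subgroup (GL (Fin 2) F)} {P : Subgroup (Perm (Fin k))} {i : Fin k}
    {y : GL (Fin 2) F} (h : sg i y ∈ W1 F k r) (hy : y ∈ R) : sg i y ∈ KR r R P :=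
  ⟨h, one_mem P, fun j => by
    rcases eq_or_ne j i with rfl | e
    · rwa [sg_same]
    · rw [sg_ne e]; exact one_mem R⟩

theorem scS : ScStmt.{v} := by
  intro n hn F _ _ hq T B hB
  obtain ⟨k, r, hr, rfl⟩ : ∃ k r, r < 2 ∧ n = 2 * k + r := ⟨n / 2, n % 2, by omega, by omega⟩
  refine or_iff_not_imp_left.2 fun h0 => ?_
  have h2 := two_ne_of_odd hq
  have ht := inB_t hB h2 hq (by omega) h0
  let C : Sylow 2 (Fin 2 → Fˣ) := default
  obtain ⟨R, hR⟩ := (C.2.map (dg (F := F))).exists_le_sylow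
  let P : Sylow 2 (Perm (Fin k)) := default
  have hs := syl_KR hq hr (show k ≠ 0 by omega) R P
  have hK := two_KR (r := r) R P
  let D : Subgroup (Wr (Fin k) (GL (Fin 2) F)) :=
    { carrier := {g | ∃ h : g ∈ KR r (R : Subgroup (GL (Fin 2) F)) (P : Subgroup (Perm (Fin k))),
        InB B (Pp hr ⟨g, h.1⟩)}
      one_mem' := ⟨one_mem _, 1, by
        rw [show Pp hr ⟨1, _⟩ = 1 from map_one _]; simp⟩
      mul_mem' := fun {x y} ⟨h, h1⟩ ⟨h', h1'⟩ => ⟨mul_mem h h', by
        have := h1.mul hB h1' hs.isPGroup (mem_map_of_mem _ (mem_subgroupOf.2 h))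
          (mem_map_of_mem _ (mem_subgroupOf.2 h'))
        rwa [← map_mul] at this⟩
      inv_mem' := fun {x} ⟨h, z, h1⟩ => ⟨inv_mem h, z, by
        have := inv_mem h1
        rwa [conj_inv, ← map_inv] at this⟩ }
  have real : ∀ {s x}, s ∈ W1 F k r → x ∈ KR r (R : Subgroup (GL (Fin 2) F))
      (P : Subgroup (Perm (Fin k))) → s * s = 1 → s * x * s⁻¹ = x⁻¹ → x ∈ D := by
    intro s x h1 hx e1 e2
    obtain ⟨j, hj⟩ := hK ⟨x, hx⟩
    exact ⟨hx, inB_real hB h2 (by omega) ht (s := Psi hr ⟨s, h1⟩) (x := Psi hr ⟨x, hx.1⟩) (k := j)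
      (by rw [← map_mul, ← map_one (Psi hr)]; exact congrArg _ (Subtype.ext e1))
      (by rw [← map_inv, ← map_inv, ← map_mul, ← map_mul]; exact congrArg _ (Subtype.ext e2))
      (by rw [← map_pow, ← map_one (Psi hr)]
          exact congrArg _ (Subtype.ext (show x ^ 2 ^ j = 1 from congrArg Subtype.val hj)))⟩
  let o : Fin k := ⟨0, by omega⟩
  let o' : Fin k := ⟨1, by omega⟩
  have oo : o ≠ o' := by simp [o, o']
  have b1 : ∀ y ∈ (R : Subgroup (GL (Fin 2) F)), dt F y = 1 → sg o y ∈ D := fun y hy e => by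
    obtain ⟨ρ, r1, r2⟩ := sl2_real y (congrArg Units.val e)
    refine real (s := sg o' ρ * sg o ρ) ⟨trivial, Or.inr ?_⟩ (sg_KR (sg_mem (Or.inr e)) hy) ?_ ?_
    · rw [map_mul, det_sg, det_sg, ← map_mul, r1, map_one]
    · rw [mul_assoc, ← mul_assoc (sg o ρ), sg_comm oo, mul_assoc, ← sg_mul, ← mul_assoc, ← sg_mul,
        r1, sg_one, sg_one, one_mul]
    · rw [show ∀ a b c : Wr (Fin k) (GL (Fin 2) F), a * b * c * (a * b)⁻¹ = a * (b * c * b⁻¹) * a⁻¹
        from fun a b c => by group, ← sg_inv o ρ, ← sg_mul, ← sg_mul, r2, ← sg_comm oo,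
        mul_inv_cancel_right, sg_inv]
  have b2 : ∀ y ∈ (R : Subgroup (GL (Fin 2) F)), sg o y ∈ W1 F k r → sg o y ∈ D := fun y hy e => by
    rcases e.2 with e | e
    swap
    · exact b1 y hy (by rwa [det_sg] at e)
    obtain ⟨j, hj⟩ := R.2 ⟨y, hy⟩
    have hc : dt F y ^ 2 ^ j = 1 := by
      rw [← map_pow, show y ^ 2 ^ j = 1 from congrArg Subtype.val hj, map_one]
    generalize hy' : dt F y = c at hc
    have m1 : dg ![c, 1] ∈ (R : Subgroup (GL (Fin 2) F)) :=
      hR ⟨_, mem_sylow_comm C (k := j) (funext fun a => by fin_cases a <;> simp [hc]), rfl⟩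
    have m2 : dg ![c, c⁻¹] ∈ (R : Subgroup (GL (Fin 2) F)) :=
      hR ⟨_, mem_sylow_comm C (k := j) (funext fun a => by fin_cases a <;> simp [hc]), rfl⟩
    rw [show y = y * (dg ![c, 1])⁻¹ * dg ![c, 1] by simp, sg_mul]
    refine mul_mem (b1 _ (mul_mem hy (inv_mem m1)) (by simp [dt_dg, hy'])) ?_
    obtain ⟨h3, h4⟩ := b1 _ m2 (by simp [dt_dg])
    subst e
    obtain ⟨g, hg⟩ := exists_pmd (F := F) (n := 2 * k + 1) (by omega)
      (swap (eps k 1 (Sum.inl (1, o))) (eps k 1 (Sum.inr 0)))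
    refine ⟨sg_KR (sg_mem (Or.inl rfl)) m1, ?_⟩
    convert h4.conj (g : SL(2 * k + 1, F)) using 1
    refine congrArg QuotientGroup.mk (Subtype.ext ?_ : _ = g * Psi hr _ * g⁻¹)
    change _ = g.1 * (Psi hr _).1 * (g⁻¹).1
    rw [Psi_dg, Psi_dg, hg]
    congr 1
    funext x
    obtain ⟨x, rfl⟩ := (eps k 1).surjective x
    rw [symm_swap, Function.comp_apply, Function.comp_apply, Function.comp_apply,
      (eps k 1).injective.swap_apply, symm_apply_apply, symm_apply_apply]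
    obtain ⟨a, j⟩ | a := x
    · by_cases e : j = o <;> fin_cases a <;> simp [swap_apply_def, e]
    · rw [Subsingleton.elim a 0]; simp
  have b3 : ∀ (s : Finset (Fin k)), ∀ g ∈ KR r (R : Subgroup (GL (Fin 2) F))
      (P : Subgroup (Perm (Fin k))), g.right = 1 → (∀ i ∉ s, i ≠ o → g.left i = 1) → g ∈ D := by
    intro s
    induction s using Finset.induction_on with
    | empty =>
      intro g hg e1 e2
      have e : g = sg o (g.left o) := wr_ext (fun i => by
        rcases eq_or_ne i o with rfl | h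
        · rw [sg_same]
        · rw [sg_ne h, e2 i (by simp) h]) e1
      rw [e]
      exact b2 _ (hg.2.2 o) (e ▸ hg.1)
    | insert i s hi ih =>
      intro g hg e1 e2
      rcases eq_or_ne i o with rfl | h
      · exact ih g hg e1 fun j h1 h2 => e2 j (by simp [h1, h2]) h2
      have hx : sg i (g.left i) * sg o (g.left i)⁻¹ ∈ KR r (R : Subgroup (GL (Fin 2) F))
          (P : Subgroup (Perm (Fin k))) := by
        refine ⟨⟨trivial, Or.inr (by rw [map_mul, det_sg, det_sg, map_inv, mul_inv_cancel])⟩,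
          one_mem _, fun j => ?_⟩
        rw [wr_mul_left]
        exact mul_mem ((sg_KR (r := 1) (P := ⊤) (sg_mem (Or.inl rfl)) (hg.2.2 i)).2.2 _)
          ((sg_KR (r := 1) (P := ⊤) (sg_mem (Or.inl rfl)) (inv_mem (hg.2.2 i))).2.2 _)
      rw [← mul_inv_cancel_left (sg i (g.left i) * sg o (g.left i)⁻¹) g]
      refine mul_mem (real (inr_mem (swap i o)) hx (by rw [← map_mul, Equiv.swap_mul_self, map_one]) ?_)
        (ih _ (mul_mem (inv_mem hx) hg) (by simp [sg_right, e1]) fun j h1 h2 => ?_)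
      · rw [← conj_mul, conj_sg, conj_sg, _root_.mul_inv_rev, ← sg_inv, ← sg_inv, inv_inv,
          sg_comm h.symm]
        simp [sg_comm h]
      · rw [_root_.mul_inv_rev, ← sg_inv, ← sg_inv, wr_mul_left, wr_mul_left]
        simp only [SemidirectProduct.mul_right, sg_right, mul_one, inv_one, Perm.one_apply]
        rw [sg_ne h2, one_mul]
        rcases eq_or_ne j i with rfl | h3
        · rw [sg_same, inv_mul_cancel]
        · rw [sg_ne h3, one_mul, e2 j (by simp [h1, h3]) h2]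
  refine le_antisymm hB.1 fun x hx => ?_
  obtain ⟨z, -, hz⟩ := hs.exists_conj_le T.2 le_top
  obtain ⟨⟨g, h1⟩, hg, e⟩ := hz (conj_mem_conj_smul.2 hx)
  have h3 : SemidirectProduct.inr g.right ∈ KR r (R : Subgroup (GL (Fin 2) F))
    (P : Subgroup (Perm (Fin k))) := ⟨inr_mem _, hg.2.1, fun _ => one_mem _⟩
  obtain ⟨τ, t1, t2⟩ := perm_real g.right
  obtain ⟨h4, h5⟩ : g ∈ D := by
    rw [← inv_mul_cancel_right g (SemidirectProduct.inr g.right)]
    exact mul_mem (b3 Finset.univ _ (mul_mem hg (inv_mem h3)) (by simp) (by simp))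
      (real (inr_mem τ) h3 (by rw [← map_mul, t1, map_one])
        (by rw [← map_inv, ← map_inv, ← map_mul, ← map_mul, t2]))
  have := h5.conj z⁻¹
  rw [show Pp hr ⟨g, h4.1⟩ = _ from e] at this
  exact InB.mem hB (by simpa [mul_assoc] using this) hx

end Cfsg.Agent.H96.FL
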