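import Cfsg.Agent.H1.FuDefs
import Cfsg.Agent.H8.GHODefs
import Cfsg.Agent.H8.SylowIn
import Cfsg.Prelude.Def_TwoFusion

/-!
# Simple groups with the 2-fusion system of `PSL_n(q)`, `n ≥ 6` (S5173): definitions, interfaces

The proofs on paper are in `stubs/notes/h96_fusl.md`.
-/

set_option autoImplicit false

namespace Cfsg.Agent.H96.FL

open Matrix Subgroup Cfsg.Agent.H1.FU Cfsg.Agent.H8.GHO
open scoped MatrixGroups commutatorElement

universe u v

/-! ### diagonal sign matrices -/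

section Mat

variable (E : Type*) [Field E] {m : ℕ}

/-- the diagonal matrix with `-1` on `S` and `1` elsewhere. -/
def dm (S : Finset (Fin m)) : Matrix (Fin m) (Fin m) E :=
  diagonal fun i => if i ∈ S then -1 else 1

theorem dm_sq (S : Finset (Fin m)) : dm E S * dm E S = 1 := by
  rw [dm, diagonal_mul_diagonal, ← diagonal_one]
  congr 1
  funext i
  split_ifs <;> simp

theorem det_dm (S : Finset (Fin m)) : (dm E S).det = (-1) ^ S.card := by
  rw [dm, det_diagonal, Finset.prod_ite, Finset.prod_const_one, mul_one, Finset.prod_const]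
  simp

theorem dm_comm (S T : Finset (Fin m)) : dm E S * dm E T = dm E T * dm E S := by
  rw [dm, dm, diagonal_mul_diagonal, diagonal_mul_diagonal]
  congr 1
  funext i
  exact mul_comm _ _

/-- `-1` at the places `c`, `d` (the identity for `c = d`). -/
def tm (c d : Fin m) : SL(m, E) :=
  ⟨dm E {c} * dm E {d}, by rw [det_mul, det_dm, det_dm]; simp⟩

/-- conjugation by `dm S`. -/
def cjS (S : Finset (Fin m)) : SL(m, E) →* SL(m, E) where
  toFun g := ⟨dm E S * g.1 * dm E S, by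
    rw [det_mul, det_mul, g.2, mul_one, ← det_mul, dm_sq, det_one]⟩
  map_one' := Subtype.ext (by
    change dm E S * 1 * dm E S = 1
    rw [mul_one, dm_sq])
  map_mul' a b := Subtype.ext (by
    change dm E S * (a.1 * b.1) * dm E S = dm E S * a.1 * dm E S * (dm E S * b.1 * dm E S)
    rw [show dm E S * a.1 * dm E S * (dm E S * b.1 * dm E S) =
      dm E S * a.1 * (dm E S * dm E S) * b.1 * dm E S by simp only [mul_assoc], dm_sq]
    simp only [mul_assoc, one_mul])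

theorem cjS_sq (S : Finset (Fin m)) (g : SL(m, E)) : cjS E S (cjS E S g) = g := Subtype.ext (by
  change dm E S * (dm E S * g.1 * dm E S) * dm E S = g.1
  rw [show dm E S * (dm E S * g.1 * dm E S) * dm E S =
    dm E S * dm E S * g.1 * (dm E S * dm E S) by simp only [mul_assoc], dm_sq, one_mul, mul_one])

theorem herm_dm {q : ℕ} (hq : Odd q) (S : Finset (Fin m)) (u v : Fin m → E) :
    hermForm m E q (dm E S *ᵥ u) (dm E S *ᵥ v) = hermForm m E q u v := by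
  refine Finset.sum_congr rfl fun i _ => ?_
  rw [dm, mulVec_diagonal, mulVec_diagonal]
  split_ifs
  · rw [neg_one_mul, neg_one_mul, hq.neg_pow, neg_mul_neg]
  · rw [one_mul, one_mul]

/-- the image of `tm` in `PSL`. -/
def tP (a b : Fin m) : ProjectiveSpecialLinearGroup (Fin m) E := QuotientGroup.mk (tm E a b)

end Mat

/-! ### the groups `SL_m(q)` (`x = q`) and `SU_m(q)` (`x = -q`) -/

/-- the parameters: `x = ε q`. -/
structure Par where
  E : Type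
  [fld : Field E]
  [fin : Fintype E]
  x : ℤ
  odd : Odd x
  card : (0 < x ∧ (Fintype.card E : ℤ) = x) ∨ (x < 0 ∧ (Fintype.card E : ℤ) = x ^ 2)

attribute [instance] Par.fld Par.fin

namespace Par

variable (P : Par) {m : ℕ}

/-- `SL_m(x)` for `x > 0`, `SU_m(-x)` for `x < 0`. -/
def G (m : ℕ) : Subgroup SL(m, P.E) where
  carrier := {g | P.x < 0 → g ∈ SU m P.E P.x.natAbs}
  one_mem' := fun _ => one_mem _
  mul_mem' := fun ha hb h => mul_mem (ha h) (hb h)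
  inv_mem' := fun ha h => inv_mem (ha h)

theorem G_top (h : 0 < P.x) (m : ℕ) : P.G m = ⊤ :=
  eq_top_iff.2 fun _ _ h' => absurd h' h.le.not_gt

theorem G_SU (h : P.x < 0) (m : ℕ) : P.G m = SU m P.E P.x.natAbs :=
  Subgroup.ext fun _ => ⟨fun k => k h, fun k _ => k⟩

variable {P} in
/-- the matrix. -/
def ent (g : P.G m) : Matrix (Fin m) (Fin m) P.E := g.1.1

theorem ent_mul (a b : P.G m) : ent (a * b) = ent a * ent b := rfl

theorem ent_one : ent (1 : P.G m) = 1 := rfl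

theorem ent_inj {a b : P.G m} (h : ent a = ent b) : a = b := Subtype.ext (Subtype.ext h)

/-- `-1` at the places `c`, `d`. -/
def t (c d : Fin m) : P.G m :=
  ⟨tm P.E c d, fun _ u v => by
    change hermForm m P.E _ ((dm P.E {c} * dm P.E {d}) *ᵥ u) ((dm P.E {c} * dm P.E {d}) *ᵥ v) = _
    rw [← mulVec_mulVec, ← mulVec_mulVec, herm_dm _ P.odd.natAbs, herm_dm _ P.odd.natAbs]⟩

theorem cj_mem (S : Finset (Fin m)) {g : SL(m, P.E)} (hg : g ∈ P.G m) : cjS P.E S g ∈ P.G m :=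
  fun h u v => by
    change hermForm m P.E _ ((dm P.E S * g.1 * dm P.E S) *ᵥ u) ((dm P.E S * g.1 * dm P.E S) *ᵥ v) = _
    rw [← mulVec_mulVec, ← mulVec_mulVec, ← mulVec_mulVec, ← mulVec_mulVec, herm_dm _ P.odd.natAbs]
    exact (hg h _ _).trans (herm_dm _ P.odd.natAbs S u v)

/-- conjugation by `dm S`. -/
def cj (S : Finset (Fin m)) : MulAut (P.G m) where
  toFun g := ⟨cjS P.E S g, P.cj_mem S g.2⟩
  invFun g := ⟨cjS P.E S g, P.cj_mem S g.2⟩
  left_inv g := Subtype.ext (cjS_sq _ S g.1)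
  right_inv g := Subtype.ext (cjS_sq _ S g.1)
  map_mul' a b := Subtype.ext (map_mul (cjS P.E S) a.1 b.1)

theorem ent_t (c d : Fin m) : ent (P.t c d) = dm P.E {c} * dm P.E {d} := rfl

theorem ent_cj (S : Finset (Fin m)) (g : P.G m) : ent (P.cj S g) = dm P.E S * ent g * dm P.E S :=
  rfl

/-- the block subgroup on the places in `S`. -/
def K (S : Finset (Fin m)) : Subgroup (P.G m) where
  carrier := {g | ∀ i j, i ∉ S ∨ j ∉ S → ent g i j = (1 : Matrix (Fin m) (Fin m) P.E) i j}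
  one_mem' := fun _ _ _ => rfl
  mul_mem' := fun {a b} ha hb i j h => by
    rw [ent_mul, mul_apply]
    rcases h with h | h
    · simp only [fun k => ha i k (Or.inl h)]
      rw [← mul_apply, Matrix.one_mul, hb i j (Or.inl h)]
    · simp only [fun k => hb k j (Or.inr h)]
      rw [← mul_apply, Matrix.mul_one, ha i j (Or.inr h)]
  inv_mem' := fun {a} ha i j h => by
    rcases h with h | h
    · rw [← P.ent_one, ← mul_inv_cancel a, ent_mul, mul_apply]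
      simp only [fun k => ha i k (Or.inl h)]
      rw [← mul_apply, Matrix.one_mul]
    · rw [← P.ent_one, ← inv_mul_cancel a, ent_mul, mul_apply]
      simp only [fun k => ha k j (Or.inr h)]
      rw [← mul_apply, Matrix.mul_one]

/-- the elements commuting with `dm S`. -/
def Fx (S : Finset (Fin m)) : Subgroup (P.G m) := (P.cj S).toMonoidHom.eqLocus (MonoidHom.id _)

theorem mem_Fx {S : Finset (Fin m)} {g : P.G m} : g ∈ P.Fx S ↔ P.cj S g = g := Iff.rfl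

/-- `S (GL_S × torus)`. -/
def BB (S : Finset (Fin m)) : Subgroup (P.G m) := ⨅ k, ⨅ _ : k ∉ S, P.Fx {k}

/-- generated by the elements of order four of the block on `c`, `d`. -/
def K4 (c d : Fin m) : Subgroup (P.G m) := closure {g | g ∈ P.K {c, d} ∧ g * g = P.t c d}

/-- the 2-adic data of `x` are those of `q`. -/
def Mt (q : ℕ) : Prop :=
  padicValInt 2 (P.x - 1) = padicValInt 2 ((q : ℤ) - 1) ∧
    padicValInt 2 (P.x + 1) = padicValInt 2 ((q : ℤ) + 1)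

end Par

open Par

/-- basic facts on `P.G m`. -/
structure GF1 (P : Par) : Prop where
  emb : ∀ {k m : ℕ} (e : Fin k ↪ Fin m), ∃ φ : P.G k →* P.G m,
    (∀ g a b, ent (φ g) (e a) (e b) = ent g a b) ∧ φ.range = P.K (Finset.univ.map e)
  perf : ∀ m, 3 ≤ m → commutator (P.G m) = ⊤
  qs : ∀ m, 3 ≤ m → ∀ N : Subgroup (P.G m), N.Normal → N ≤ center _ ∨ N = ⊤
  cen : ∀ m, 2 ≤ m → ∀ g : P.G m, g ∈ center (P.G m) ↔ ∃ a : P.E, ent g = a • 1
  cardZ : ∀ m, 2 ≤ m → Nat.card (center (P.G m)) = Int.gcd m (P.x - 1)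
  sl2 : ∃ (F : Type) (_ : Field F) (_ : Fintype F), Fintype.card F = P.x.natAbs ∧
    Nonempty (P.G 2 ≃* SL(2, F))
  sw : ∀ {m : ℕ} (c d : Fin m), c ≠ d → ∃ w ∈ P.K {c, d}, w * w = P.t c d ∧
    (∀ e, w * P.cj {e} w⁻¹ = P.t (Equiv.swap c d e) e) ∧
    (∀ a b, w * P.t a b * w⁻¹ = P.t (Equiv.swap c d a) (Equiv.swap c d b)) ∧
    ∀ S, Nrm w (P.K S) (P.K (S.map (Equiv.swap c d).toEmbedding))

/-- generation by the `2 × 2` blocks. -/
structure GF2 (P : Par) : Prop where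
  gen : ∀ {m : ℕ} (S : Finset (Fin m)) (M : Subgroup (P.G m)),
    (∀ c ∈ S, ∀ d ∈ S, c ≠ d → P.K {c, d} ≤ M) → P.K S ≤ M
  tri : ∀ {m : ℕ} (c d e : Fin m), [c, d, e].Nodup → P.K {c, d} ≤ P.K {c, e} ⊔ P.K {e, d}

/-- centralizers of diagonal involutions. -/
structure GF3 (P : Par) : Prop where
  g1 : ∀ {m : ℕ}, 3 ≤ m → ∀ (S : Finset (Fin m)) (U : Subgroup (P.G m)), OddN U (P.Fx S) →
    U ≤ centralizer (P.Fx S : Set (P.G m))
  g3 : ∀ {m : ℕ} (c d e : Fin m), [c, d, e].Nodup →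
    P.K {c, d} ≤ ⁅P.K {c, d, e} ⊓ P.Fx {e}, P.K {c, d, e} ⊓ P.Fx {e}⁆
  g4 : ∀ {m : ℕ} (S : Finset (Fin m)), ⁅P.BB S, P.BB S⁆ ≤ P.K S
  a3 : ∀ {m : ℕ} (c d k : Fin m), [c, d, k].Nodup → ∀ N : Subgroup (P.G m),
    (∀ g ∈ P.K {c, d}, Nrm g N N) → ∀ ω ∈ N, ω * P.t c d = P.t c d * ω →
    ω * P.t c k * ω⁻¹ = P.t d k → P.K4 c d ≤ N
  a4 : ∀ {m : ℕ}, 4 ≤ m → ∀ c d : Fin m, c ≠ d → ∀ g : P.G m,
    (∀ y ∈ P.K4 c d, g * y = y * g) →
    (∀ e f, [c, d, e, f].Nodup → ∀ y ∈ P.K4 e f, g * y = y * g) →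
    (∀ y ∈ P.K {c, d}, g * y = y * g) ∧ g ^ (Fintype.card P.E - 1) = 1
  a5 : ∀ {m : ℕ} (c d : Fin m), c ≠ d →
    P.K {c, d} ≤ closure {g | g ∈ P.K {c, d} ∧ g ^ ringChar P.E = 1}

/-- all facts on `P.G m`. -/
structure GF (P : Par) : Prop extends GF1 P, GF2 P, GF3 P

/-! ### frames -/

section Frames

variable {G : Type*} [Group G] {n : ℕ}

/-- `g` induces the permutation `π` of the labels. -/
def Pm (t : Fin n → Fin n → G) (g : G) (π : Equiv.Perm (Fin n)) : Prop :=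
  ∀ a b, g * t a b * g⁻¹ = t (π a) (π b)

/-- the involutions `t a b = diag (-1 at a, b)`. -/
structure Fr (t : Fin n → Fin n → G) : Prop where
  self : ∀ a, t a a = 1
  symm : ∀ a b, t a b = t b a
  mul : ∀ a b c, t a b * t b c = t a c
  ne : ∀ a b, a ≠ b → t a b ≠ 1
  ne4 : ∀ a b c d, [a, b, c, d].Nodup → t a b * t c d ≠ 1
  perm : ∀ π, ∃ g, Pm t g π

/-- the frame comes from the standard frame of `PSL_n(F)` along an isomorphism of 2-fusion
systems, for every Sylow subgroup containing the standard frame. -/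
def MF (F : Type*) [Field F] (t : Fin n → Fin n → G) : Prop :=
  ∀ (T : Sylow 2 (ProjectiveSpecialLinearGroup (Fin n) F)) (hT : ∀ a b, tP F a b ∈ T),
    ∃ α : ↥(T : Subgroup (ProjectiveSpecialLinearGroup (Fin n) F)) →* G,
      ME α (T : Subgroup (ProjectiveSpecialLinearGroup (Fin n) F)).subtype ∧
        ∀ a b, α ⟨tP F a b, hT a b⟩ = t a b

/-- generation. -/
def Gen (t : Fin n → Fin n → G) : Prop :=
  ∀ M : Subgroup G, (∀ a b, a ≠ b → C1 (t a b) ≤ M) → (∀ π, ∃ g ∈ M, Pm t g π) → M = ⊤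

/-- `e` lists the labels other than `a`, `b`. -/
structure Lab {m : ℕ} (a b : Fin n) (e : Fin m → Fin n) : Prop where
  ne : a ≠ b
  inj : Function.Injective e
  na : ∀ i, e i ≠ a
  nb : ∀ i, e i ≠ b
  sur : ∀ c, c ≠ a → c ≠ b → ∃ i, e i = c

/-- the normal closure in `C(t a b)` of the `t c d`, `c, d ∉ {a, b}`. -/
def LL (t : Fin n → Fin n → G) (a b : Fin n) : Subgroup G :=
  closure {y | ∃ g ∈ C1 (t a b), ∃ c d, [a, b, c, d].Nodup ∧ y = g * t c d * g⁻¹}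

/-- the elements of `C(t a b)` centralizing `LL t a b` modulo the core. -/
def CC (t : Fin n → Fin n → G) (a b : Fin n) : Set G :=
  {c | c ∈ C1 (t a b) ∧ ∀ l ∈ LL t a b, ⁅c, l⁆ ∈ Oc (t a b)}

/-- elements `w` of "`SL₂` on `c`, `d`". -/
def WP (t : Fin n → Fin n → G) : Prop :=
  ∀ a b c d, [a, b, c, d].Nodup → ∃ w ∈ LL t a b ⊔ Oc (t a b), w ∈ CC t c d ∧
    ∀ k, k ≠ c → k ≠ d → w * t c k * w⁻¹ = t d k

/-- `p` induces `C(u) / O(C(u)) ≃ Y`. -/
structure Pj {Y : Type*} [Group Y] (u : G) (p : G → Y) : Prop where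
  mul : ∀ x ∈ C1 u, ∀ y ∈ C1 u, p (x * y) = p x * p y
  sur : ∀ y, ∃ x ∈ C1 u, p x = y
  ker : ∀ x ∈ C1 u, p x = 1 ↔ x ∈ Oc u

/-- the component of `C(t a b) / O(C(t a b))`. -/
structure L0 (P : Par) {m : ℕ} (t : Fin n → Fin n → G) (a b : Fin n) (e : Fin m → Fin n)
    {Y : Type*} [Group Y] (p : G → Y) (f : P.G m →* Y) : Prop where
  pj : Pj (t a b) p
  nor : f.range.Normal
  ker : f.ker ≤ center _
  odd : Odd (Nat.card f.ker)
  tt : ∀ c d, f (P.t c d) = p (t (e c) (e d))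

/-- with the action of `t a (e k)`. -/
structure L1 (P : Par) {m : ℕ} (t : Fin n → Fin n → G) (a b : Fin n) (e : Fin m → Fin n)
    {Y : Type*} [Group Y] (p : G → Y) (f : P.G m →* Y) : Prop extends L0 P t a b e p f where
  act : ∀ k g, p (t a (e k)) * f g * (p (t a (e k)))⁻¹ = f (P.cj {k} g)

/-- the component of `C(t a b)`. -/
structure L2 (P : Par) {m : ℕ} (t : Fin n → Fin n → G) (a b : Fin n) (e : Fin m → Fin n)
    (f : P.G m →* G) : Prop where
  ran : f.range = LL t a b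
  ker : f.ker ≤ center _
  odd : Odd (Nat.card f.ker)
  tt : ∀ c d, f (P.t c d) = t (e c) (e d)
  act : ∀ k g, t a (e k) * f g * (t a (e k))⁻¹ = f (P.cj {k} g)

/-- local facts for the signalizer functor argument and for generation. -/
structure LD (t : Fin n → Fin n → G) : Prop where
  d1 : ∀ a b c d r s, [a, b, c, d].Nodup → r ≠ s → ∀ x ∈ Oc (t r s), x ∈ C1 (t a b) →
    ⁅t c d, x⁆ ∈ Oc (t a b)
  d2 : ∀ a b c d e, [a, b, c, d, e].Nodup → ∀ x ∈ Oc (t d e), x ∈ Oc (t c d) → x ∈ C1 (t a b) →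
    x ∈ Oc (t a b)
  d3 : ∀ a b d e, [a, b, d, e].Nodup → ∀ x ∈ Oc (t d e), x ∈ Oc (t b d) → x ∈ C1 (t a b) →
    x ∈ Oc (t a b)
  d4 : ∀ a b, a ≠ b → ∀ M : Subgroup G, Oc (t a b) ≤ M →
    (∀ r s v, [r, s, v].Nodup → C1 (t r s) ⊓ C1 (t s v) ≤ M) → C1 (t a b) ≤ M
  d5 : ∀ a b, a ≠ b → ∀ y ∈ C1 (t a b), ∃ l ∈ LL t a b ⊔ Oc (t a b), ∃ c ∈ C1 (t a b),
    (∀ r s, [a, b, r, s].Nodup → c ∈ C1 (t r s)) ∧ y = l * c

/-- the result of the signalizer functor argument. -/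
structure Cor (t : Fin n → Fin n → G) : Prop where
  cen : ∀ a b, a ≠ b → ∀ c d, Oc (t a b) ≤ C1 (t c d)
  inf : ∀ a b c, [a, b, c].Nodup → Oc (t a b) ⊓ Oc (t a c) ⊓ Oc (t b c) = ⊥

/-- the fundamental subgroups. -/
structure Ch (P : Par) (t : Fin n → Fin n → G) (K : Fin n → Fin n → Subgroup G) : Prop where
  top : ∀ M : Subgroup G, (∀ c d, c ≠ d → K c d ≤ M) → M = ⊤
  loc : ∀ l : Fin 4 ↪ Fin n, ∃ f : P.G 4 →* G, Function.Injective f ∧
    (∀ c d, f (P.t c d) = t (l c) (l d)) ∧ ∀ c d, c ≠ d → (P.K {c, d}).map f = K (l c) (l d)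

end Frames

/-- `L0` at every pair. -/
def HL0 (P : Par) (m : ℕ) {G : Type u} [Group G] {n : ℕ} (t : Fin n → Fin n → G) : Prop :=
  ∀ (a b : Fin n) (e : Fin m → Fin n), Lab a b e →
    ∃ (Y : Type u) (_ : Group Y) (_ : Finite Y) (p : G → Y) (f : P.G m →* Y), L0 P t a b e p f

/-- `L1` at every pair. -/
def HL1 (P : Par) (m : ℕ) {G : Type u} [Group G] {n : ℕ} (t : Fin n → Fin n → G) : Prop :=
  ∀ (a b : Fin n) (e : Fin m → Fin n), Lab a b e →
    ∃ (Y : Type u) (_ : Group Y) (_ : Finite Y) (p : G → Y) (f : P.G m →* Y), L1 P t a b e p f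

/-- `L2` at every pair. -/
def HL2 (P : Par) (m : ℕ) {G : Type u} [Group G] {n : ℕ} (t : Fin n → Fin n → G) : Prop :=
  ∀ (a b : Fin n) (e : Fin m → Fin n), Lab a b e → ∃ f : P.G m →* G, L2 P t a b e f

/-- `G` is `L_n(q')` or `U_n(q')` with the 2-adic data of `q`. -/
def IsLU (n : ℕ) (G : Type*) [Group G] (q : ℕ) : Prop :=
  ∃ P : Par, P.Mt q ∧ Nonempty (G ≃* P.G n ⧸ center (P.G n))

/-! ### the local analysis, abstractly -/

/-- no proper nontrivial strongly closed 2-subgroup. -/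
def SCP (H : Type*) [Group H] : Prop :=
  ∀ (T : Sylow 2 H) (B : Subgroup H), IsStronglyClosed B (T : Subgroup H) → B = ⊥ ∨ B = T

/-- the model `H = C(u)` with its component `N`. -/
structure QM {N H : Type*} [Group N] [Group H] (φ : N →* H) : Prop where
  inj : Function.Injective φ
  nor : φ.range.Normal
  perf : commutator N = ⊤
  simple : IsSimpleGroup (N ⧸ center N)
  cen : ∀ z ∈ center N, φ z ∈ center H
  der : commutator H ≤ φ.range ⊔ centralizer (φ.range : Set H)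
  sc : SCP (N ⧸ center N)
  aut : ∀ T : Sylow 2 (N ⧸ center N), IsPGroup 2 (MulAut T)
  nab : ∀ T : Sylow 2 (N ⧸ center N), ¬ IsMulCommutative T

/-- the component of a core-free group with the fusion system of the model. -/
structure AbsC {X Y N H : Type*} [Group X] [Group Y] [Group N] [Group H] (α : X →* Y)
    (β : X →* H) (φ : N →* H) (L : Subgroup Y) : Prop where
  nor : L.Normal
  perf : commutator L = ⊤
  simple : IsSimpleGroup (L ⧸ center L)
  two : IsPGroup 2 (center L)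
  mem : ∀ x, β x ∈ φ.range → α x ∈ L
  cen : ∀ x, β x ∈ centralizer (φ.range : Set H) → α x ∈ centralizer (L : Set Y)
  fe : FE (L ⧸ center L) (N ⧸ center N)
  card : padicValNat 2 (Nat.card (center L)) = padicValNat 2 (Nat.card (center N))
  fus : ∀ R : Set (X × X), (∀ p ∈ R, β p.1 ∈ φ.range) → Cj φ.range β R → Cj L α R

/-! ### facts about the model `PSL_n(F)` -/

section Model

variable (F : Type*) [Field F] {n : ℕ}

/-- the elements `w`, `w'` of the blocks on `c`, `d` and on `a`, `b`. -/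
structure WM (a b c d : Fin n) (N : Subgroup (ProjectiveSpecialLinearGroup (Fin n) F))
    (w w' h : ProjectiveSpecialLinearGroup (Fin n) F) : Prop where
  mem : w ∈ N
  cen : w' ∈ centralizer (N : Set (ProjectiveSpecialLinearGroup (Fin n) F))
  cu : w' ∈ C1 (tP F a b)
  two : IsPGroup 2 (closure ({w, w'} ∪ {y | ∃ r s, y = tP F r s}))
  hw : h * w' * h⁻¹ = w
  ht : Pm (tP F) h (Equiv.swap a c * Equiv.swap b d)
  wt : ∀ k, k ≠ c → k ≠ d → w * tP F c k * w⁻¹ = tP F d k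

/-- fusion of involutions in `PSL_n(F)`. -/
structure GM (n : ℕ) : Prop where
  gm1 : ∀ (k : ℕ) (l : Fin k → Fin 2 → Fin n), 3 ≤ k → Function.Injective (Function.uncurry l) →
    ∀ a b : Fin n, a ≠ b → ∀ y, IsConj (tP F a b) y →
    (∀ i, ∃ j, y * tP F (l i 0) (l i 1) * y⁻¹ = tP F (l j 0) (l j 1)) →
    ∃ i, y ∈ C1 (tP F (l i 0) (l i 1))
  gm2 : ∀ a b c d : Fin n, a ≠ b → c ≠ d → ∀ y, IsConj (tP F a b) y → y ∈ C1 (tP F c d) →
    ∃ h ∈ C1 (tP F c d), ∃ r s, r ≠ s ∧ h * y * h⁻¹ = tP F r s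
  gm3 : ∀ a b c d r s : Fin n, [a, b, c, d].Nodup → r ≠ s → ∀ y,
    IsConj (tP F a b * tP F c d) y → y ∈ C1 (tP F r s) → ∃ h ∈ C1 (tP F r s),
      ∃ a' b' c' d', [a', b', c', d'].Nodup ∧ h * y * h⁻¹ = tP F a' b' * tP F c' d'
  gm4 : ∀ a b c d r s v w : Fin n, [a, b, c, d].Nodup → [r, s, v, w].Nodup → ∀ y,
    IsConj (tP F a b * tP F c d) y → y * tP F r s * y⁻¹ = tP F v w →
      ∃ h ∈ C1 (tP F r s * tP F v w),
      ∃ a' b' c' d', [a', b', c', d'].Nodup ∧ h * y * h⁻¹ = tP F a' b' * tP F c' d'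
  gm5 : ∀ a b c d : Fin n, [a, b, c, d].Nodup → ∀ y z, IsConj (tP F a b) y → IsConj (tP F a b) z →
    y * z = z * y → y ≠ z → IsConj (tP F a b) (y * z) ∨ IsConj (tP F a b * tP F c d) (y * z)
  gm6 : ∀ a b c : Fin n, [a, b, c].Nodup → ∃ w ∈ C1 (tP F a b),
    w * tP F a c * w⁻¹ = tP F b c ∧ IsPGroup 2 (closure ({w} ∪ {y | ∃ r s, y = tP F r s}))
  gm7 : n = 6 → ∀ a b c d e f : Fin n, [a, b, c, d, e, f].Nodup →
    tP F a b * tP F c d = tP F e f

/-- the centralizer of `j = t a b * t c d`. -/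
structure JM (a b c d e f : Fin n)
    (H N₁ N₂ : Subgroup (ProjectiveSpecialLinearGroup (Fin n) F)) : Prop where
  le : H ≤ C1 (tP F a b * tP F c d)
  odd : ∀ x ∈ C1 (tP F a b * tP F c d), Odd (orderOf x) → x ∈ H
  der : ⁅C1 (tP F a b * tP F c d), C1 (tP F a b * tP F c d)⁆ ≤ H
  le1 : N₁ ≤ H
  le2 : N₂ ≤ H
  n1 : ∀ x ∈ H, Nrm x N₁ N₁
  n2 : ∀ x ∈ H, Nrm x N₂ N₂
  cm : ∀ x ∈ N₁, ∀ y ∈ N₂, x * y = y * x
  inf : ∀ z ∈ N₁ ⊓ N₂, ∀ x ∈ H, x * z = z * x
  m1 : tP F a b ∈ N₁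
  m2 : tP F e f ∈ N₂
  sw : ∀ s ∈ C1 (tP F a b * tP F c d), s * tP F a b * s⁻¹ ∈ N₁ ∨ s * tP F a b * s⁻¹ ∈ N₂

end Model

/-! ### interfaces -/

/-- the theorem in dimension `n`. -/
def MainStmt (n : ℕ) : Prop :=
  ∀ (G : Type u) [Group G] [Finite G] [IsSimpleGroup G] (F : Type v) [Field F] [Fintype F],
    Odd (Fintype.card F) → FE G (ProjectiveSpecialLinearGroup (Fin n) F) →
    IsLU n G (Fintype.card F)

/-- **FRAME** -/
def FrameStmt : Prop :=
  ∀ (n : ℕ), 5 ≤ n → ∀ (G : Type u) [Group G] [Finite G] (F : Type v) [Field F] [Fintype F],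
    Odd (Fintype.card F) → FE G (ProjectiveSpecialLinearGroup (Fin n) F) →
    ∃ t : Fin n → Fin n → G, Fr t ∧ MF F t

/-- **DIAG**: commuting involutions are simultaneously diagonalizable. -/
def DiagStmt : Prop :=
  ∀ (n : ℕ), 1 ≤ n → ∀ (F : Type v) [Field F], (2 : F) ≠ 0 →
    ∀ (ι : Type) [Finite ι] (s : ι → Matrix (Fin n) (Fin n) F), (∀ i, s i * s i = 1) →
    (∀ i j, s i * s j = s j * s i) →
    ∃ (g : SL(n, F)) (S : ι → Finset (Fin n)), ∀ i, s i = g.1 * dm F (S i) * (g⁻¹).1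

/-- **BLK**: a Sylow subgroup permuting the `2 × 2` blocks. -/
def BlkStmt : Prop :=
  ∀ (n : ℕ), 6 ≤ n → ∀ (F : Type v) [Field F] [Fintype F], Odd (Fintype.card F) →
    ∃ (k : ℕ) (l : Fin k → Fin 2 → Fin n) (T : Sylow 2 (ProjectiveSpecialLinearGroup (Fin n) F)),
      3 ≤ k ∧ Function.Injective (Function.uncurry l) ∧ (∀ a b, tP F a b ∈ T) ∧
      ∀ s ∈ T, ∀ i, ∃ j, s * tP F (l i 0) (l i 1) * s⁻¹ = tP F (l j 0) (l j 1)

/-- **SC** -/
def ScStmt : Prop :=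
  ∀ (m : ℕ), 4 ≤ m → ∀ (F : Type v) [Field F] [Fintype F], Odd (Fintype.card F) →
    SCP (ProjectiveSpecialLinearGroup (Fin m) F)

/-- **GM** -/
def GmStmt : Prop :=
  ∀ (n : ℕ), 6 ≤ n → ∀ (F : Type v) [Field F] [Fintype F], Odd (Fintype.card F) → GM F n

/-- **JM** -/
def JmStmt : Prop :=
  ∀ (n : ℕ), 7 ≤ n → ∀ (F : Type v) [Field F] [Fintype F], Odd (Fintype.card F) →
    ∀ a b c d e f : Fin n, [a, b, c, d, e, f].Nodup → ∃ H N₁ N₂, JM F a b c d e f H N₁ N₂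

/-- **GENJ** -/
def GenJStmt : Prop :=
  ∀ (n : ℕ), 7 ≤ n → ∀ (G : Type u) [Group G] [Finite G] (F : Type v) [Field F] [Fintype F],
    Odd (Fintype.card F) → ∀ t : Fin n → Fin n → G, Fr t → MF F t → ∀ M : Subgroup G,
    (∀ a b, a ≠ b → ∀ g, g * t a b * g⁻¹ ∈ M ↔ g ∈ M) →
    ∀ a b c d, [a, b, c, d].Nodup → C1 (t a b * t c d) ≤ M

/-- **GEN** -/
def GenStmt : Prop :=
  ∀ (n : ℕ), 6 ≤ n → ∀ (G : Type u) [Group G] [Finite G] [IsSimpleGroup G] (F : Type v) [Field F]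
    [Fintype F], Odd (Fintype.card F) → ∀ t : Fin n → Fin n → G, Fr t → MF F t → Gen t

/-- **MOD** -/
def ModStmt : Prop :=
  ∀ (n m : ℕ), 4 ≤ m → ∀ (F : Type v) [Field F] [Fintype F], Odd (Fintype.card F) →
    ∀ (a b : Fin n) (e : Fin m → Fin n), Lab a b e →
    ∃ φ : SL(m, F) →* C1 (tP F a b), QM φ ∧
      (∀ c d, (φ (tm F c d) : ProjectiveSpecialLinearGroup (Fin n) F) = tP F (e c) (e d)) ∧
      (∀ σ, ∃ g, Pm (tm F : Fin m → Fin m → SL(m, F)) g σ) ∧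
      ∀ c d, c ≠ d → ∃ w w' h, WM F a b (e c) (e d) (φ.range.map (C1 (tP F a b)).subtype) w w' h

/-- **ABS** -/
def AbsStmt : Prop :=
  ∀ (X N H : Type v) (Y : Type u) [Group X] [Group N] [Group H] [Group Y] [Finite H] [Finite Y]
    (α : X →* Y) (β : X →* H) (φ : N →* H), ME α β → pPrimeCore 2 Y = ⊥ → QM φ →
    ∃ L, AbsC α β φ L

/-- **ID** -/
def IdStmt : Prop :=
  ∀ (P : Par) (m : ℕ), 4 ≤ m → ∀ (L : Type u) [Group L] [Finite L], commutator L = ⊤ →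
    IsPGroup 2 (center L) → Nonempty (L ⧸ center L ≃* P.G m ⧸ center (P.G m)) →
    ∃ f : P.G m →* L, Function.Surjective f ∧ f.ker ≤ center _

/-- **LIFT** -/
def LiftStmt : Prop :=
  ∀ (P : Par) (m : ℕ), 4 ≤ m → ¬ (m = 4 ∧ P.x = -3) → ∀ (L Y : Type u) [Group L] [Finite L]
    [Group Y] (π : L →* Y) (f : P.G m →* Y), π.ker ≤ center L → f.range ≤ π.range →
    ∃ g : P.G m →* L, π.comp g = f

/-- **FR**: frames in an image of `P.G m` are conjugate to the standard frame. -/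
def FrStmt : Prop :=
  ∀ (P : Par) (m : ℕ), 4 ≤ m → ∀ (L : Type u) [Group L] (f : P.G m →* L), Function.Surjective f →
    f.ker ≤ center _ → Odd (Nat.card f.ker) → ∀ s : Fin m → Fin m → L, Fr s →
    ∃ g, ∀ c d, s c d = f (g * P.t c d * g⁻¹)

/-- **RIG** -/
def RigStmt : Prop :=
  ∀ (P : Par), P.x = -3 → ∀ θ : MulAut (P.G 4), Odd (orderOf θ) →
    (∀ c d, θ (P.t c d) = P.t c d) → (∀ k g, θ (P.cj {k} g) = P.cj {k} (θ g)) → θ = 1

/-- **LOC** -/
def LocStmt : Prop :=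
  ∀ (m : ℕ), 4 ≤ m → MainStmt.{u, v} m → ∀ (G : Type u) [Group G] [Finite G] (F : Type v)
    [Field F] [Fintype F], Odd (Fintype.card F) → ∀ t : Fin (m + 2) → Fin (m + 2) → G, Fr t →
    MF F t → ∃ P : Par, P.Mt (Fintype.card F) ∧ HL0 P m t ∧ WP t

/-- **ACT** -/
def ActStmt : Prop :=
  ∀ (P : Par) (n m : ℕ), 4 ≤ m → ∀ (G Y : Type u) [Group G] [Finite G] [Group Y] [Finite Y]
    (t : Fin n → Fin n → G), Fr t → WP t → ∀ (a b : Fin n) (e : Fin m → Fin n), Lab a b e →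
    ∀ (p : G → Y) (f : P.G m →* Y), L0 P t a b e p f → L1 P t a b e p f

/-- **LD** -/
def LdStmt : Prop :=
  ∀ (P : Par) (m : ℕ), 4 ≤ m → ∀ (G : Type u) [Group G] [Finite G]
    (t : Fin (m + 2) → Fin (m + 2) → G), Fr t → HL1 P m t → LD t

/-- **CORE** -/
def CoreStmt : Prop :=
  ∀ (n : ℕ), 6 ≤ n → ∀ (G : Type u) [Group G] [Finite G], pPrimeCore 2 G = ⊥ →
    ∀ t : Fin n → Fin n → G, Fr t → Gen t → LD t → Cor t

/-- **BUILD** -/
def BuildStmt : Prop :=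
  ∀ (P : Par) (m : ℕ), 4 ≤ m → ∀ (G : Type u) [Group G] [Finite G]
    (t : Fin (m + 2) → Fin (m + 2) → G), Fr t → HL1 P m t → Cor t → HL2 P m t

/-- **RECA** -/
def RecAStmt : Prop :=
  ∀ (P : Par) (m : ℕ), 4 ≤ m → ∀ (G : Type u) [Group G] [Finite G] [IsSimpleGroup G]
    (t : Fin (m + 2) → Fin (m + 2) → G), Fr t → Gen t → LD t → Cor t → HL2 P m t →
    ∃ K, Ch P t K

/-- **RECB** -/
def RecBStmt : Prop :=
  ∀ (P : Par) (n : ℕ), 6 ≤ n → ∀ (G : Type u) [Group G] [Finite G] [IsSimpleGroup G]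
    (t : Fin n → Fin n → G) (K : Fin n → Fin n → Subgroup G), Ch P t K →
    Nonempty (G ≃* P.G n ⧸ center (P.G n))

end Cfsg.Agent.H96.FL
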