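import Cfsg.Agent.H96.FuLDefs
import Cfsg.Agent.H1.FuAl
import Cfsg.Agent.H6.ZStarPow

/-! Fusion equivalences: centralizers, quotients, Frattini decomposition. -/

set_option autoImplicit false

namespace Cfsg.Agent.H96.FL

open Subgroup Cfsg.Agent.H1.FU Cfsg.Agent.H8.GHO Cfsg.Agent.H8
open scoped Pointwise

theorem mC1 {G : Type*} [Group G] {x y : G} : y ∈ C1 x ↔ y * x = x * y :=
  mem_centralizer_singleton_iff

theorem mC1' {G : Type*} [Group G] {x y : G} : y ∈ C1 x ↔ y * x * y⁻¹ = x := by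
  rw [mC1, mul_inv_eq_iff_eq_mul]

variable {X G H : Type*} [Group X] [Group G] [Group H] {α : X →* G} {β : X →* H}

theorem me_two (h : ME α β) : IsPGroup 2 X := by
  obtain ⟨S, hS⟩ := h.syl1
  exact (hS ▸ S.isPGroup').of_equiv (MonoidHom.ofInjective h.inj1).symm

theorem me_syl [Finite G] (h : ME α β) : IsSylowIn 2 α.range ⊤ := by
  obtain ⟨S, hS⟩ := h.syl1
  exact hS ▸ isSylowIn_top S

/-- one pair. -/
theorem me_conj (h : ME α β) {x y : X} {g : G} (e : g * α x * g⁻¹ = α y) :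
    ∃ k, k * β x * k⁻¹ = β y := by
  obtain ⟨k, -, hk⟩ := (h.fus {(x, y)}).1 ⟨g, mem_top _, by rintro _ rfl; exact e.symm⟩
  exact ⟨k, (hk _ rfl).symm⟩

/-- all pairs at once. -/
theorem me_all (h : ME α β) (g : G) :
    ∃ k, ∀ x y, g * α x * g⁻¹ = α y → k * β x * k⁻¹ = β y := by
  obtain ⟨k, -, hk⟩ := (h.fus {p | g * α p.1 * g⁻¹ = α p.2}).1 ⟨g, mem_top _, fun p hp => hp.symm⟩
  exact ⟨k, fun x y e => (hk (x, y) e).symm⟩

theorem map_C1_le (γ : X →* G) (τ : X) : (C1 τ).map γ ≤ C1 (γ τ) := by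
  rintro _ ⟨x, hx, rfl⟩
  rw [mC1, ← map_mul, mC1.1 hx, map_mul]

/-- a fully centralized element stays fully centralized. -/
theorem me_fc [Finite G] [Finite H] (h : ME α β) {τ : X}
    (hs : IsSylowIn 2 ((C1 τ).map β) (C1 (β τ))) : IsSylowIn 2 ((C1 τ).map α) (C1 (α τ)) := by
  have p2 : ∀ σ : X, IsPGroup 2 (C1 σ) := fun σ => (me_two h).to_subgroup _
  obtain ⟨Q, hQ, hle⟩ := exists_isSylowIn_ge ((p2 τ).map α) (map_C1_le α τ)
  obtain ⟨g, -, hg⟩ := (me_syl h).exists_conj_le hQ.isPGroup le_top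
  obtain ⟨σ, hσ⟩ := hg (conj_mem_conj_smul.2 (hle ⟨τ, mC1.2 rfl, rfl⟩))
  obtain ⟨k, hk⟩ := me_conj h hσ.symm
  refine hQ.of_card_ge ((p2 τ).map α) (map_C1_le α τ) ?_
  have h1 : MulAut.conj g • Q ≤ (C1 σ).map α := fun y hy => by
    obtain ⟨x, rfl⟩ := hg hy
    refine ⟨x, mC1.2 (h.inj1 ?_), rfl⟩
    have := mC1.1 (hQ.le (mem_conj_smul.1 hy))
    rw [map_mul, map_mul, hσ]
    calc α x * (g * α τ * g⁻¹) = g * (g⁻¹ * α x * g * α τ) * g⁻¹ := by group
      _ = _ := by rw [this]; group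
  have h2 : MulAut.conj k⁻¹ • (C1 σ).map β ≤ C1 (β τ) := fun y hy => by
    have := mC1.1 (map_C1_le β σ (mem_conj_smul.1 hy))
    rw [← hk, inv_inv] at this
    rw [mC1]
    calc y * β τ = k⁻¹ * (k * y * k⁻¹ * (k * β τ * k⁻¹)) * k := by group
      _ = _ := by rw [this]; group
  calc Nat.card Q = Nat.card (MulAut.conj g • Q : Subgroup G) := (card_conj_smul _ _).symm
    _ ≤ Nat.card ((C1 σ).map α) := card_le_of_le h1
    _ = Nat.card ((C1 σ).map β) := by rw [card_map_of_injective h.inj1, card_map_of_injective h.inj2]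
    _ = _ := (card_conj_smul _ k⁻¹).symm
    _ ≤ Nat.card ((C1 τ).map β) := hs.card_le (isPGroup_conj_smul ((p2 σ).map β) _) h2
    _ = _ := by rw [card_map_of_injective h.inj1, card_map_of_injective h.inj2]

/-- restriction of `γ` to centralizers. -/
def resC (γ : X →* G) (τ : X) : C1 τ →* C1 (γ τ) :=
  (γ.comp (C1 τ).subtype).codRestrict _ fun x => map_C1_le γ τ ⟨x, x.2, rfl⟩

theorem coe_resC (γ : X →* G) (τ : X) (x : C1 τ) : (resC γ τ x : G) = γ x := rfl

theorem resC_syl [Finite G] {τ : X} (hs : IsSylowIn 2 ((C1 τ).map α) (C1 (α τ))) :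
    ∃ S : Sylow 2 (C1 (α τ)), (S : Subgroup (C1 (α τ))) = (resC α τ).range :=
  ⟨hs.toSylow, by
    ext y
    constructor
    · rintro ⟨x, hx, e⟩
      exact ⟨⟨x, hx⟩, Subtype.ext e⟩
    · rintro ⟨x, rfl⟩
      exact ⟨x, x.2, rfl⟩⟩

theorem resC_one (h : ME α β) (τ : X) (R : Set (C1 τ × C1 τ)) (hR : Cj ⊤ (resC α τ) R) :
    Cj ⊤ (resC β τ) R := by
  obtain ⟨g, -, hg⟩ := hR
  obtain ⟨k, hk⟩ := me_all h (g : G)
  exact ⟨⟨k, mC1'.2 (hk τ τ (mC1'.1 g.2))⟩, mem_top _, fun p hp =>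
    Subtype.ext (hk _ _ (congrArg Subtype.val (hg p hp)).symm).symm⟩

/-- passage to the centralizer of a fully centralized element. -/
theorem me_cent [Finite G] [Finite H] (h : ME α β) {τ : X}
    (hs : IsSylowIn 2 ((C1 τ).map β) (C1 (β τ))) : ME (resC α τ) (resC β τ) :=
  ⟨fun _ _ e => Subtype.ext (h.inj1 (congrArg Subtype.val e)),
    fun _ _ e => Subtype.ext (h.inj2 (congrArg Subtype.val e)), resC_syl (me_fc h hs), resC_syl hs,
    fun R => ⟨resC_one h τ R, resC_one h.symm τ R⟩⟩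

/-- a Sylow subgroup containing a given 2-subgroup of `C(u)` in which `u` is fully centralized. -/
theorem exists_fc [Finite H] {u : H} {Q : Subgroup H} (hQ : IsPGroup 2 Q) (hu : u ∈ Q)
    (hle : Q ≤ C1 u) : ∃ (T : Sylow 2 H) (hT : Q ≤ T), IsSylowIn 2
      ((C1 (⟨u, hT hu⟩ : ↥(T : Subgroup H))).map (T : Subgroup H).subtype) (C1 u) := by
  obtain ⟨R, hR, h1⟩ := exists_isSylowIn_ge hQ hle
  obtain ⟨T, hT⟩ := hR.isPGroup.exists_le_sylow
  refine ⟨T, h1.trans hT, ?_⟩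
  have h2 : R ≤ (C1 (⟨u, hT (h1 hu)⟩ : ↥(T : Subgroup H))).map (T : Subgroup H).subtype :=
    fun x hx => ⟨⟨x, hT hx⟩, mC1.2 (Subtype.ext (mC1.1 (hR.le hx))), rfl⟩
  have h3 := hR.eq_of_le ((T.isPGroup'.to_subgroup _).map _) (map_C1_le _ _) h2
  rw [h3]
  exact hR

section Quot

variable {X' G' H' : Type*} [Group X'] [Group G'] [Group H'] {p : G →* G'} {p' : H →* H'}
  {π : X →* X'} {α' : X' →* G'} {β' : X' →* H'}

/-- a conjugation modulo the kernel lifts. -/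
theorem lift_conj [Finite G] (hs : IsSylowIn 2 α.range ⊤) (g : G) : ∃ g', p g' = p g ∧
    ∀ x, p (g * α x * g⁻¹) ∈ α.range.map p → g' * α x * g'⁻¹ ∈ α.range := by
  let γ : X →* G := (MulAut.conj g).toMonoidHom.comp α
  let Q : Subgroup G := γ.range ⊓ (α.range ⊔ p.ker)
  have hγ : IsPGroup 2 γ.range := by
    rw [← MonoidHom.map_range]
    exact hs.isPGroup.map _
  obtain ⟨k, hk, e⟩ := (hs.mono le_sup_left le_top).exists_conj_le (Q := Q)
    (hγ.to_le inf_le_left) inf_le_right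
  obtain ⟨s, hs', z, hz, rfl⟩ := mem_sup_of_normal_right.1 hk
  refine ⟨z * g, by rw [map_mul, MonoidHom.mem_ker.1 hz, one_mul], fun x hx => ?_⟩
  have h1 : g * α x * g⁻¹ ∈ Q := ⟨⟨x, rfl⟩, by rw [← comap_map_eq]; exact hx⟩
  have h2 := mul_mem (mul_mem (inv_mem hs') (e (conj_mem_conj_smul.2 h1))) hs'
  convert h2 using 1
  group

theorem quot_one [Finite G] (h : ME α β) (hp : Function.Surjective p) (hπ : Function.Surjective π)
    (i1 : Function.Injective α') (c1 : ∀ x, α' (π x) = p (α x)) (c2 : ∀ x, β' (π x) = p' (β x))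
    (R : Set (X' × X')) (hR : Cj ⊤ α' R) : Cj ⊤ β' R := by
  obtain ⟨g, -, hg⟩ := hR
  obtain ⟨g, rfl⟩ := hp g
  obtain ⟨g', e, h1⟩ := lift_conj (p := p) (me_syl h) g
  obtain ⟨k, hk⟩ := me_all h g'
  refine ⟨p' k, mem_top _, ?_⟩
  rintro ⟨a, b⟩ hab
  obtain ⟨x, rfl⟩ := hπ a
  obtain ⟨y, rfl⟩ := hπ b
  have h2 : p (α y) = p g * p (α x) * (p g)⁻¹ := by simpa only [c1] using hg _ hab
  obtain ⟨z, hz⟩ := h1 x ⟨α y, ⟨y, rfl⟩, by rw [h2, map_mul, map_mul, map_inv]⟩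
  have h3 : π y = π z := i1 (by rw [c1, c1, h2, hz, map_mul, map_mul, map_inv, e])
  change β' (π y) = p' k * β' (π x) * (p' k)⁻¹
  rw [h3, c2, c2, ← hk x z hz.symm, map_mul, map_mul, map_inv]

theorem quot_syl [Finite G] (hs : ∃ S : Sylow 2 G, (S : Subgroup G) = α.range)
    (hp : Function.Surjective p) (hπ : Function.Surjective π) (c1 : ∀ x, α' (π x) = p (α x)) :
    ∃ S : Sylow 2 G', (S : Subgroup G') = α'.range := by
  obtain ⟨S, hS⟩ := hs
  refine ⟨S.mapSurjective hp, ?_⟩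
  rw [Sylow.coe_mapSurjective, hS]
  ext y
  constructor
  · rintro ⟨_, ⟨a, rfl⟩, rfl⟩
    exact ⟨π a, c1 a⟩
  · rintro ⟨a, rfl⟩
    obtain ⟨a, rfl⟩ := hπ a
    exact ⟨α a, ⟨a, rfl⟩, (c1 a).symm⟩

/-- passage to quotients by normal subgroups with the same trace on the Sylow subgroup. -/
theorem me_quot [Finite G] [Finite H] (h : ME α β) (hp : Function.Surjective p)
    (hp' : Function.Surjective p') (hπ : Function.Surjective π) (i1 : Function.Injective α')
    (i2 : Function.Injective β') (c1 : ∀ x, α' (π x) = p (α x)) (c2 : ∀ x, β' (π x) = p' (β x)) :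
    ME α' β' :=
  ⟨i1, i2, quot_syl h.syl1 hp hπ c1, quot_syl h.syl2 hp' hπ c2, fun R =>
    ⟨quot_one h hp hπ i1 c1 c2 R, quot_one h.symm hp' hπ i2 c2 c1 R⟩⟩

/-- the same with the quotient of `X` made explicit. -/
theorem me_quot' [Finite G] [Finite H] (h : ME α β) (hp : Function.Surjective p)
    (hp' : Function.Surjective p') (N : Subgroup X) [N.Normal] (h1 : N = (p.comp α).ker)
    (h2 : N = (p'.comp β).ker) :
    ME (QuotientGroup.lift N (p.comp α) h1.le) (QuotientGroup.lift N (p'.comp β) h2.le) :=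
  me_quot h hp hp' (QuotientGroup.mk'_surjective N)
    ((QuotientGroup.injective_lift_iff _ _ _).2 h1) ((QuotientGroup.injective_lift_iff _ _ _).2 h2)
    (fun _ => rfl) fun _ => rfl

/-- quotient by a normal subgroup of odd order. -/
theorem me_odd [Finite G] [Finite H] (h : ME α β) (hp : Function.Surjective p)
    (ho : Odd (Nat.card p.ker)) : ME (p.comp α) β := by
  refine me_quot (π := MonoidHom.id X) (p' := MonoidHom.id H) h hp Function.surjective_id
    Function.surjective_id ?_ h.inj2 (fun _ => rfl) fun _ => rfl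
  rw [injective_iff_map_eq_one]
  intro x hx
  obtain ⟨k, hk⟩ := me_two h x
  have h1 : orderOf (α x) ∣ Nat.card p.ker := Subgroup.orderOf_dvd_natCard _ hx
  have h2 : orderOf (α x) ∣ 2 ^ k := orderOf_dvd_of_pow_eq_one (by rw [← map_pow, hk, map_one])
  have h3 := Nat.eq_one_of_dvd_coprimes (Nat.Coprime.pow_left k (Nat.coprime_two_left.2 ho)) h2 h1
  exact h.inj1 (by rw [orderOf_eq_one_iff.1 h3, map_one])

end Quot

/-- elements of odd order modulo a normal subgroup with a rigid Sylow subgroup. -/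
theorem odd_dec [Finite H] {K P : Subgroup H} [K.Normal] (hP : IsSylowIn 2 P K)
    (hA : ∀ n ∈ normalizer (P : Set H), Odd (orderOf n) → n ∈ centralizer (P : Set H)) {h : H}
    (ho : Odd (orderOf h)) : ∃ k ∈ K, ∃ c ∈ centralizer (P : Set H), h = k * c := by
  obtain ⟨k, hk, n, hn, e⟩ := hP.frattini (g := h) (by rw [normalizer_eq_top]; trivial)
  obtain ⟨r, h1, h2⟩ := exists_pow_odd ho n
  refine ⟨h * (n ^ r)⁻¹, ?_, n ^ r, hA _ (pow_mem hn r) h1, by group⟩
  have h3 : (h : H ⧸ K) = n := by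
    rw [e, QuotientGroup.mk_mul, (QuotientGroup.eq_one_iff k).2 hk, one_mul]
  rw [← QuotientGroup.eq_one_iff, QuotientGroup.mk_mul, QuotientGroup.mk_inv, QuotientGroup.mk_pow,
    ← h3, ← QuotientGroup.mk_pow, h2, mul_inv_cancel]

/-- the `Z*`-theorem for a 2-element that is weakly closed together with its powers. -/
theorem zstar [Finite G] (S : Sylow 2 G) {Z : Subgroup G} (hZ : Z ≤ S)
    (h : ∀ z ∈ Z, ∀ g : G, g * z * g⁻¹ ∈ (S : Subgroup G) → g * z * g⁻¹ = z) :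
    normalClosure (Z : Set G) ≤ pPrimeCore 2 G ⊔ Z :=
  haveI := H6.normal_sup_of_weaklyClosed S hZ h
  normalClosure_le_normal fun _ hz => mem_sup_right hz

theorem zstar_center [Finite G] (hO : pPrimeCore 2 G = ⊥) (S : Sylow 2 G) {Z : Subgroup G}
    (hZ : Z ≤ S) (h : ∀ z ∈ Z, ∀ g : G, g * z * g⁻¹ ∈ (S : Subgroup G) → g * z * g⁻¹ = z) :
    Z ≤ center G := fun z hz => mem_center_iff.2 fun g => by
  have := H6.commutator_mem_of_weaklyClosed S hZ h hz g
  rw [hO, mem_bot, inv_mul_eq_one] at this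
  exact mul_inv_eq_iff_eq_mul.1 this.symm

/-- the odd kernel trick. -/
theorem eq_of_odd_ker {f : G →* H} (hk : f.ker ≤ center G) (ho : Odd (Nat.card f.ker)) {a b : G}
    {k l : ℕ} (ha : a ^ 2 ^ k = 1) (hb : b ^ 2 ^ l = 1) (e : f a = f b) : a = b := by
  have h1 : a⁻¹ * b ∈ f.ker := by rw [MonoidHom.mem_ker, map_mul, map_inv, e, inv_mul_cancel]
  have c : Commute a (a⁻¹ * b) := mem_center_iff.1 (hk h1) a
  have c' : Commute a⁻¹ b := by
    have h2 := (Commute.refl a).inv_left.mul_right c.inv_left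
    rwa [mul_inv_cancel_left] at h2
  have h2 : (a⁻¹ * b) ^ 2 ^ (k + l) = 1 := by
    rw [c'.mul_pow, inv_pow, pow_add, pow_mul a, ha, mul_comm (2 ^ k), pow_mul b, hb]
    simp
  have h3 : orderOf (a⁻¹ * b) ∣ Nat.card f.ker := Subgroup.orderOf_dvd_natCard _ h1
  have h4 := Nat.eq_one_of_dvd_coprimes (Nat.Coprime.pow_left (k + l) (Nat.coprime_two_left.2 ho))
    (orderOf_dvd_of_pow_eq_one h2) h3
  exact inv_mul_eq_one.1 (orderOf_eq_one_iff.1 h4)

/-- commuting with the image of a 2-element. -/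
theorem comm_of_odd_ker {f : G →* H} (hk : f.ker ≤ center G) (ho : Odd (Nat.card f.ker)) {a g : G}
    {k : ℕ} (ha : a ^ 2 ^ k = 1) (e : f g * f a = f a * f g) : g * a = a * g :=
  mul_inv_eq_iff_eq_mul.1 (eq_of_odd_ker hk ho (k := k) (by rw [conj_pow, ha]; group) ha
    (by rw [map_mul, map_mul, map_inv, e, mul_inv_cancel_right]))

end Cfsg.Agent.H96.FL
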