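import Cfsg.Agent.H96.FuLApi

/-! Diagonal involutions in `SL_n(F)`, `PSL_n(F)`; the frame. -/

set_option autoImplicit false

namespace Cfsg.Agent.H96.FL

open Matrix Subgroup Cfsg.Agent.H1.FU Cfsg.Agent.H8.GHO Cfsg.Agent.H8
open scoped Pointwise MatrixGroups symmDiff

universe u v

variable {F : Type*} [Field F] {n : ℕ}

theorem two_ne_of_odd [Fintype F] (h : Odd (Fintype.card F)) : (2 : F) ≠ 0 := fun e => by
  have h2 : ringChar F = 2 := CharP.ringChar_of_prime_eq_zero Nat.prime_two (by exact_mod_cast e)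
  have := FiniteField.even_card_of_char_two h2
  rw [Nat.odd_iff] at h
  omega

theorem neg_one_ne (h : (2 : F) ≠ 0) : (-1 : F) ≠ 1 := fun e => h (by linear_combination -e)

theorem dm_mul (S T : Finset (Fin n)) : dm F S * dm F T = dm F (S ∆ T) := by
  rw [dm, dm, dm, diagonal_mul_diagonal]
  congr 1
  funext i
  by_cases h1 : i ∈ S <;> by_cases h2 : i ∈ T <;> simp [h1, h2, Finset.mem_symmDiff]

theorem dm_empty : dm F (∅ : Finset (Fin n)) = 1 := by simp [dm]

theorem dm_compl (S : Finset (Fin n)) : dm F Sᶜ = -dm F S := by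
  rw [dm, dm, diagonal_neg]
  congr 1
  funext i
  by_cases h1 : i ∈ S <;> simp [h1]

theorem dm_inj (h : (2 : F) ≠ 0) {S T : Finset (Fin n)} (e : dm F S = dm F T) : S = T := by
  ext i
  have := congrFun (congrFun e i) i
  rw [dm_apply, dm_apply, if_pos rfl, if_pos rfl] at this
  by_cases h1 : i ∈ S <;> by_cases h2 : i ∈ T <;> simp_all [neg_one_ne h, (neg_one_ne h).symm]

theorem rank_dm (h : (2 : F) ≠ 0) (S : Finset (Fin n)) : (dm F S - 1).rank = S.card := by
  classical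
  rw [dm, ← diagonal_one, diagonal_sub, rank_diagonal, Fintype.card_subtype]
  congr 1
  ext i
  by_cases h1 : i ∈ S <;> simp [h1, sub_eq_zero, neg_one_ne h]

theorem sl_mul_inv (g : SL(n, F)) : g.1 * (g⁻¹).1 = 1 := congrArg Subtype.val (mul_inv_cancel g)

theorem sl_inv_mul (g : SL(n, F)) : (g⁻¹).1 * g.1 = 1 := congrArg Subtype.val (inv_mul_cancel g)

theorem rank_conj (g : SL(n, F)) (A : Matrix (Fin n) (Fin n) F) :
    (g.1 * A * (g⁻¹).1 - 1).rank = (A - 1).rank := by
  have : g.1 * A * (g⁻¹).1 - 1 = g.1 * (A - 1) * (g⁻¹).1 := by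
    rw [Matrix.mul_sub, Matrix.sub_mul, Matrix.mul_one, sl_mul_inv]
  rw [this, rank_mul_eq_left_of_isUnit_det _ _ (by rw [(g⁻¹).2]; exact isUnit_one),
    rank_mul_eq_right_of_isUnit_det _ _ (by rw [g.2]; exact isUnit_one)]

/-- the number of signs is a class invariant. -/
theorem card_eq_of_conj (h : (2 : F) ≠ 0) {g : SL(n, F)} {S T : Finset (Fin n)}
    (e : g.1 * dm F S * (g⁻¹).1 = dm F T) : S.card = T.card := by
  rw [← rank_dm h, ← rank_dm h, ← e, rank_conj]

/-- the same modulo scalars. -/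
theorem card_of_conj_smul (h : (2 : F) ≠ 0) (hn : 1 ≤ n) {g : SL(n, F)} {S T : Finset (Fin n)}
    {a : F} (e : g.1 * dm F S * (g⁻¹).1 = a • dm F T) :
    (a = 1 ∧ S.card = T.card) ∨ (a = -1 ∧ S.card + T.card = n) := by
  have h1 : (a • dm F T) * (a • dm F T) = 1 := by
    rw [← e, show g.1 * dm F S * (g⁻¹).1 * (g.1 * dm F S * (g⁻¹).1) =
      g.1 * (dm F S * ((g⁻¹).1 * g.1) * dm F S) * (g⁻¹).1 by simp only [Matrix.mul_assoc],
      sl_inv_mul, Matrix.mul_one, dm_sq, Matrix.mul_one, sl_mul_inv]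
  rw [Matrix.smul_mul, Matrix.mul_smul, dm_sq, smul_smul] at h1
  have h2 : a * a = 1 := by simpa using congrFun (congrFun h1 ⟨0, hn⟩) ⟨0, hn⟩
  rcases mul_self_eq_one_iff.1 h2 with rfl | rfl
  · exact .inl ⟨rfl, card_eq_of_conj h (by rwa [one_smul] at e)⟩
  · rw [neg_one_smul, ← dm_compl] at e
    refine .inr ⟨rfl, ?_⟩
    rw [card_eq_of_conj h e, add_comm, Finset.card_add_card_compl, Fintype.card_fin]

/-- an invertible matrix is an element of `SL` times a diagonal matrix. -/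
theorem exists_sl_diag (hn : 1 ≤ n) {A : Matrix (Fin n) (Fin n) F} (h : A.det ≠ 0) :
    ∃ (g : SL(n, F)) (d : Fin n → F), g.1 = A * diagonal d :=
  ⟨⟨A * diagonal (Function.update 1 ⟨0, hn⟩ A.det⁻¹), by
    rw [det_mul, det_diagonal, Finset.prod_update_of_mem (Finset.mem_univ _)]
    simp [h]⟩, _, rfl⟩

theorem conj_of_mul {g : SL(n, F)} {A B : Matrix (Fin n) (Fin n) F} (h : A * g.1 = g.1 * B) :
    A = g.1 * B * (g⁻¹).1 := by
  rw [← h, Matrix.mul_assoc, sl_mul_inv, Matrix.mul_one]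

theorem diag : DiagStmt.{v} := by
  intro n hn F _ h2 ι _ s hs hc
  classical
  haveI := Fintype.ofFinite ι
  have key : ∀ A : Finset ι, ⊤ ≤ Submodule.span F
      {v : Fin n → F | ∀ i ∈ A, s i *ᵥ v = v ∨ s i *ᵥ v = -v} := by
    intro A
    induction A using Finset.induction_on with
    | empty => exact fun v _ => Submodule.subset_span (by simp)
    | insert k A _ ih =>
      refine ih.trans (Submodule.span_le.2 fun v hv => ?_)
      have e : v = (2 : F)⁻¹ • ((v + s k *ᵥ v) + (v - s k *ᵥ v)) := by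
        rw [add_add_sub_cancel, ← two_smul F, smul_smul, inv_mul_cancel₀ h2, one_smul]
      have c : ∀ i, s i *ᵥ s k *ᵥ v = s k *ᵥ s i *ᵥ v := fun i => by
        rw [mulVec_mulVec, hc, mulVec_mulVec]
      have k2 : s k *ᵥ s k *ᵥ v = v := by rw [mulVec_mulVec, hs, one_mulVec]
      rw [SetLike.mem_coe, e]
      refine Submodule.smul_mem _ _ (add_mem (Submodule.subset_span fun i hi => ?_)
        (Submodule.subset_span fun i hi => ?_)) <;> rcases Finset.mem_insert.1 hi with rfl | hi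
      · exact .inl (by rw [mulVec_add, k2, add_comm])
      · refine (hv i hi).imp (fun e => ?_) fun e => ?_
        · rw [mulVec_add, c, e]
        · rw [mulVec_add, c, e, mulVec_neg, neg_add]
      · exact .inr (by rw [mulVec_sub, k2, neg_sub])
      · refine (hv i hi).imp (fun e => ?_) fun e => ?_
        · rw [mulVec_sub, c, e]
        · rw [mulVec_sub, c, e, mulVec_neg]; abel
  let b0 := Module.Basis.ofSpan (key Finset.univ)
  let b := b0.reindex (b0.indexEquiv (Pi.basisFun F (Fin n)))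
  have hb : ∀ j i, s i *ᵥ b j = b j ∨ s i *ᵥ b j = -b j := fun j i =>
    Module.Basis.ofSpan_subset (key Finset.univ) ⟨_, (b0.reindex_apply _ j).symm⟩ i
      (Finset.mem_univ i)
  let A : Matrix (Fin n) (Fin n) F := Matrix.of fun r j => b j r
  have hA : A.det ≠ 0 := ((isUnit_iff_isUnit_det A).1
    (linearIndependent_cols_iff_isUnit.1 b.linearIndependent)).ne_zero
  obtain ⟨g, d, hg⟩ := exists_sl_diag hn hA
  refine ⟨g, fun i => Finset.univ.filter fun j => s i *ᵥ b j = -b j, fun i => conj_of_mul ?_⟩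
  have : s i * A = A * dm F (Finset.univ.filter fun j => s i *ᵥ b j = -b j) := by
    ext r j
    rw [dm, mul_diagonal]
    change (s i *ᵥ b j) r = b j r * _
    by_cases e : s i *ᵥ b j = -b j
    · rw [if_pos (by simpa using e), e]; simp
    · rw [if_neg (by simpa using e), (hb j i).resolve_right e, mul_one]
  rw [hg, ← Matrix.mul_assoc, this, Matrix.mul_assoc, Matrix.mul_assoc, dm, diagonal_mul_diagonal,
    diagonal_mul_diagonal]
  simp only [mul_comm]

theorem diag1 (hn : 1 ≤ n) (h2 : (2 : F) ≠ 0) {s : Matrix (Fin n) (Fin n) F} (hs : s * s = 1) :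
    ∃ (g : SL(n, F)) (S : Finset (Fin n)), s = g.1 * dm F S * (g⁻¹).1 := by
  obtain ⟨g, S, h⟩ := diag n hn F h2 Unit (fun _ => s) (fun _ => hs) fun _ _ => rfl
  exact ⟨g, S (), h ()⟩

theorem diag2 (hn : 1 ≤ n) (h2 : (2 : F) ≠ 0) {s r : Matrix (Fin n) (Fin n) F} (hs : s * s = 1)
    (hr : r * r = 1) (c : s * r = r * s) : ∃ (g : SL(n, F)) (S T : Finset (Fin n)),
      s = g.1 * dm F S * (g⁻¹).1 ∧ r = g.1 * dm F T * (g⁻¹).1 := by
  obtain ⟨g, S, h⟩ := diag n hn F h2 Bool (fun b => bif b then s else r)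
    (fun b => by cases b <;> assumption) fun a b => by cases a <;> cases b <;> simp [c]
  exact ⟨g, S true, S false, h true, h false⟩

/-- signed permutation matrices. -/
theorem exists_pm (hn : 1 ≤ n) (σ : Equiv.Perm (Fin n)) : ∃ g : SL(n, F),
    ∀ S, g.1 * dm F S * (g⁻¹).1 = dm F (S.map σ.toEmbedding) := by
  obtain ⟨g, d, hg⟩ := exists_sl_diag hn (A := (σ⁻¹).permMatrix F) (by
    rw [det_permutation]
    rcases Int.units_eq_one_or (Equiv.Perm.sign σ⁻¹) with e | e <;> simp [e])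
  refine ⟨g, fun S => (conj_of_mul ?_).symm⟩
  rw [hg]
  ext i j
  rw [dm, dm, diagonal_mul, mul_diagonal, mul_diagonal, mul_diagonal]
  by_cases e : i = σ j
  · subst e
    simp only [Finset.mem_map_equiv, Equiv.symm_apply_apply, mul_comm]
  · have : (σ⁻¹).permMatrix F i j = 0 := by
      simp [Equiv.Perm.permMatrix, PEquiv.toMatrix_apply, Equiv.symm_apply_eq, e]
    rw [this, zero_mul, mul_zero, zero_mul]

theorem exists_conj_dm (hn : 1 ≤ n) {S T : Finset (Fin n)} (h : S.card = T.card) :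
    ∃ g : SL(n, F), g.1 * dm F S * (g⁻¹).1 = dm F T := by
  obtain ⟨σ, rfl⟩ := Equiv.Perm.exists_map_finset_eq S T h
  obtain ⟨g, hg⟩ := exists_pm (F := F) hn σ
  exact ⟨g, hg S⟩

theorem coe_tm (c d : Fin n) : (tm F c d).1 = dm F {c} * dm F {d} := rfl

theorem coe_tm' {c d : Fin n} (h : c ≠ d) : (tm F c d).1 = dm F {c, d} := dm_pair F h

theorem tm_self (c : Fin n) : tm F c c = 1 := Subtype.ext (dm_sq _ _)

theorem tm_symm (c d : Fin n) : tm F c d = tm F d c := Subtype.ext (dm_comm _ _ _)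

theorem tm_mul (c d e : Fin n) : tm F c d * tm F d e = tm F c e := Subtype.ext (by
  change dm F {c} * dm F {d} * (dm F {d} * dm F {e}) = dm F {c} * dm F {e}
  rw [Matrix.mul_assoc, ← Matrix.mul_assoc (dm F {d}), dm_sq, Matrix.one_mul])

theorem coe_tm4 {a b c d : Fin n} (h : [a, b, c, d].Nodup) :
    (tm F a b * tm F c d).1 = dm F {a, b, c, d} := by
  simp only [List.nodup_cons, List.mem_cons, not_or] at h
  change (tm F a b).1 * (tm F c d).1 = _
  rw [coe_tm' h.1.1, coe_tm' h.2.2.1.1, dm_mul, Disjoint.symmDiff_eq_sup (by simp; tauto)]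
  congr 1
  ext; simp; tauto

theorem pm_tm (σ : Equiv.Perm (Fin n)) : ∃ g, Pm (tm F : Fin n → Fin n → SL(n, F)) g σ := by
  rcases Nat.eq_zero_or_pos n with rfl | hn
  · exact ⟨1, fun a => a.elim0⟩
  obtain ⟨g, hg⟩ := exists_pm (F := F) hn σ
  refine ⟨g, fun a b => Subtype.ext ?_⟩
  change g.1 * (dm F {a} * dm F {b}) * (g⁻¹).1 = dm F {σ a} * dm F {σ b}
  have h1 := hg {a}
  have h2 := hg {b}
  simp only [Finset.map_singleton, Equiv.coe_toEmbedding] at h1 h2
  rw [← h1, ← h2, show g.1 * dm F {a} * (g⁻¹).1 * (g.1 * dm F {b} * (g⁻¹).1) =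
    g.1 * (dm F {a} * ((g⁻¹).1 * g.1) * dm F {b}) * (g⁻¹).1 by simp only [Matrix.mul_assoc],
    sl_inv_mul, Matrix.mul_one]

/-- equality in `PSL`. -/
theorem mk_eq_iff {g h : SL(n, F)} :
    (g : ProjectiveSpecialLinearGroup (Fin n) F) = h ↔ ∃ a : F, a ^ n = 1 ∧ h.1 = a • g.1 := by
  rw [QuotientGroup.eq, Matrix.SpecialLinearGroup.mem_center_iff, Fintype.card_fin]
  refine exists_congr fun a => and_congr_right fun _ => ⟨fun e => ?_, fun e => ?_⟩
  · have : g.1 * scalar (Fin n) a = h.1 := by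
      rw [e]
      exact congrArg Subtype.val (mul_inv_cancel_left g h)
    rw [← this, scalar_apply, ← smul_one_eq_diagonal, Matrix.mul_smul, Matrix.mul_one]
  · change _ = (g⁻¹).1 * h.1
    rw [e, Matrix.mul_smul, sl_inv_mul, scalar_apply, smul_one_eq_diagonal]

theorem mk_dm_ne (h2 : (2 : F) ≠ 0) {g : SL(n, F)} {S : Finset (Fin n)} (hg : g.1 = dm F S)
    (h0 : 0 < S.card) (h1 : S.card < n) : (g : ProjectiveSpecialLinearGroup (Fin n) F) ≠ 1 := by
  intro e
  obtain ⟨a, -, ha⟩ := mk_eq_iff.1 (e.trans (QuotientGroup.mk_one _).symm)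
  have := card_of_conj_smul h2 (by omega) (g := 1) (S := ∅) (T := S) (a := a) (by
    rw [← hg, ← ha, dm_empty, inv_one]; simp)
  simp only [Finset.card_empty] at this
  omega

theorem card4 {a b c d : Fin n} (h : [a, b, c, d].Nodup) :
    ({a, b, c, d} : Finset (Fin n)).card = 4 := by
  simpa using List.toFinset_card_of_nodup h

theorem fr_tP (h2 : (2 : F) ≠ 0) (hn : 5 ≤ n) : Fr (tP F : Fin n → Fin n → _) := by
  refine ⟨fun a => ?_, fun a b => ?_, fun a b c => ?_, fun a b h => ?_, fun a b c d h => ?_,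
    fun π => ?_⟩
  · rw [tP, tm_self]; rfl
  · rw [tP, tm_symm]; rfl
  · rw [tP, tP, tP, ← tm_mul a b c]; rfl
  · exact mk_dm_ne h2 (coe_tm' h) (by rw [Finset.card_pair h]; omega)
      (by rw [Finset.card_pair h]; omega)
  · exact mk_dm_ne h2 (coe_tm4 h) (by rw [card4 h]; omega) (by rw [card4 h]; omega)
  · obtain ⟨g, hg⟩ := pm_tm (F := F) π
    exact ⟨g, fun a b => congrArg QuotientGroup.mk (hg a b)⟩

theorem frame : FrameStmt.{u, v} := by
  intro n hn G _ _ F _ _ hF h
  have hP := fr_tP (two_ne_of_odd hF) hn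
  obtain ⟨T, hT⟩ := hP.two.exists_le_sylow
  have m : ∀ a b, tP F a b ∈ (T : Subgroup _) := fun a b => hT (subset_closure ⟨a, b, rfl⟩)
  obtain ⟨α, hα⟩ := h.symm.exists_me T
  let τ : Fin n → Fin n → ↥(T : Subgroup _) := fun a b => ⟨tP F a b, m a b⟩
  refine ⟨fun a b => α (τ a b), ⟨fun a => ?_, fun a b => ?_, fun a b c => ?_, fun a b h e => ?_,
    fun a b c d h e => ?_, fun π => ?_⟩, fun T' hT' => ?_⟩
  · exact (congrArg α (Subtype.ext (hP.self a))).trans (map_one α)
  · exact congrArg α (Subtype.ext (hP.symm a b))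
  · exact (map_mul α _ _).symm.trans (congrArg α (Subtype.ext (hP.mul a b c)))
  · exact hP.ne a b h (congrArg Subtype.val (hα.inj2 (e.trans (map_one α).symm)))
  · exact hP.ne4 a b c d h (congrArg Subtype.val
      (hα.inj2 ((map_mul α _ _).trans (e.trans (map_one α).symm))))
  · obtain ⟨g, hg⟩ := hP.perm π
    obtain ⟨k, hk⟩ := me_all hα g
    exact ⟨k, fun a b => hk _ _ (hg a b)⟩
  · obtain ⟨g, hg⟩ := MulAction.exists_smul_eq (ProjectiveSpecialLinearGroup (Fin n) F) T' T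
    let e : T' ≃* T := (T'.equivSMul g).trans (MulEquiv.subgroupCongr (congrArg _ hg))
    have he : ∀ x, (e x : ProjectiveSpecialLinearGroup (Fin n) F) = g * x * g⁻¹ := fun x => rfl
    obtain ⟨k, hk⟩ := me_all hα g⁻¹
    have h1 := ((hα.comp e).map1 (MulAut.conj g⁻¹)).symm.map1 (MulAut.conj k)
    refine ⟨_, by
      convert h1 using 1
      ext x
      change x.1 = g⁻¹ * (e x : ProjectiveSpecialLinearGroup (Fin n) F) * g⁻¹⁻¹
      rw [he]; group, fun a b => hk (e ⟨_, hT' a b⟩) (τ a b) ?_⟩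
    change g⁻¹ * (e ⟨_, hT' a b⟩ : ProjectiveSpecialLinearGroup (Fin n) F) * g⁻¹⁻¹ = tP F a b
    rw [he]; group

end Cfsg.Agent.H96.FL
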