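import Cfsg.Agent.H96.FuLMe
import Cfsg.Agent.H18.SpCoreA
import Cfsg.Agent.H6.Basic

/-! Basic facts on frames, on `LL`, `CC`, `Pj` and on the block subgroups. -/

set_option autoImplicit false

namespace Cfsg.Agent.H96.FL

open Matrix Subgroup Cfsg.Agent.H1.FU Cfsg.Agent.H8.GHO Cfsg.Agent.H8 Cfsg.Agent.H18.SC
open scoped Pointwise commutatorElement

/-! ### block subgroups -/

theorem dm_apply (E : Type*) [Field E] {m : ℕ} (S : Finset (Fin m)) (i j : Fin m) :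
    dm E S i j = if i = j then (if i ∈ S then -1 else 1) else 0 := diagonal_apply _ _ _

theorem dm_pair (E : Type*) [Field E] {m : ℕ} {c d : Fin m} (h : c ≠ d) :
    dm E {c} * dm E {d} = dm E {c, d} := by
  rw [dm, dm, dm, diagonal_mul_diagonal]
  congr 1
  funext i
  by_cases h1 : i = c
  · simp [h1, h]
  · by_cases h2 : i = d <;> simp [h1, h2, h.symm]

namespace Par

variable (P : Par) {m : ℕ}

theorem mem_K {S : Finset (Fin m)} {g : P.G m} : g ∈ P.K S ↔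
    ∀ i j, i ∉ S ∨ j ∉ S → ent g i j = (1 : Matrix (Fin m) (Fin m) P.E) i j := Iff.rfl

theorem mem_BB {S : Finset (Fin m)} {g : P.G m} : g ∈ P.BB S ↔ ∀ k ∉ S, P.cj {k} g = g := by
  simp only [BB, mem_iInf, mem_Fx]

theorem ent_cj_apply (S : Finset (Fin m)) (g : P.G m) (i j : Fin m) : ent (P.cj S g) i j =
    (if i ∈ S then -1 else 1) * ent g i j * (if j ∈ S then -1 else 1) := by
  rw [ent_cj, dm, mul_diagonal, diagonal_mul]

theorem cj_cj (S : Finset (Fin m)) (g : P.G m) : P.cj S (P.cj S g) = g := (P.cj S).left_inv g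

theorem cj_comm (S T : Finset (Fin m)) (g : P.G m) : P.cj S (P.cj T g) = P.cj T (P.cj S g) :=
  P.ent_inj (by ext i j; simp only [ent_cj_apply]; ring)

theorem t_self (c : Fin m) : P.t c c = 1 := P.ent_inj (dm_sq _ _)

theorem t_symm (c d : Fin m) : P.t c d = P.t d c := P.ent_inj (dm_comm _ _ _)

theorem t_mul (c d e : Fin m) : P.t c d * P.t d e = P.t c e := P.ent_inj (by
  rw [ent_mul, ent_t, ent_t, ent_t, mul_assoc, ← mul_assoc (dm P.E {d}), dm_sq, one_mul])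

theorem t_sq (c d : Fin m) : P.t c d * P.t c d = 1 := by
  nth_rw 2 [t_symm]
  rw [t_mul, t_self]

theorem t_inv (c d : Fin m) : (P.t c d)⁻¹ = P.t c d := inv_eq_of_mul_eq_one_right (P.t_sq c d)

theorem t_conj (c d : Fin m) (g : P.G m) : P.t c d * g * (P.t c d)⁻¹ = P.cj {c} (P.cj {d} g) :=
  P.ent_inj (by
    rw [t_inv, ent_mul, ent_mul, ent_cj, ent_cj]
    nth_rw 2 [t_symm]
    simp only [ent_t, mul_assoc])

theorem t_conj' {c d : Fin m} (h : c ≠ d) (g : P.G m) :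
    P.t c d * g * (P.t c d)⁻¹ = P.cj {c, d} g :=
  P.ent_inj (by rw [t_inv, ent_mul, ent_mul, ent_cj, ent_t, dm_pair _ h])

theorem Fx_pair {c d : Fin m} (h : c ≠ d) : P.Fx {c, d} = C1 (P.t c d) := by
  ext g
  rw [mem_Fx, ← P.t_conj' h, mC1, mul_inv_eq_iff_eq_mul, eq_comm]

theorem cj_t (S : Finset (Fin m)) (c d : Fin m) : P.cj S (P.t c d) = P.t c d := P.ent_inj (by
  rw [ent_cj, ent_t, ← mul_assoc, dm_comm _ S, mul_assoc, mul_assoc, dm_comm _ {d},
    ← mul_assoc (dm P.E S), dm_sq, one_mul])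

theorem t_comm (a b c d : Fin m) : P.t a b * P.t c d = P.t c d * P.t a b :=
  mul_inv_eq_iff_eq_mul.1 (by rw [t_conj, cj_t, cj_t])

theorem t_mem_K (c d : Fin m) : P.t c d ∈ P.K {c, d} := fun i j h => by
  rw [ent_t, dm, dm, diagonal_mul_diagonal, diagonal_apply, one_apply]
  split_ifs with e h1 h2 <;> simp_all

theorem K_mono {S T : Finset (Fin m)} (h : S ⊆ T) : P.K S ≤ P.K T := fun _ hg i j k =>
  hg i j (k.imp (fun k e => k (h e)) fun k e => k (h e))

theorem K_univ : P.K (Finset.univ : Finset (Fin m)) = ⊤ :=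
  eq_top_iff.2 fun _ _ i j h => by simp at h

theorem K_le_Fx {S T : Finset (Fin m)} (h : S ⊆ T ∨ Disjoint S T) : P.K S ≤ P.Fx T := fun g hg =>
  P.ent_inj (by
    ext i j
    change ent (P.cj T g) i j = ent g i j
    rw [ent_cj_apply]
    by_cases h1 : i ∈ S ∧ j ∈ S
    · rcases h with h | h
      · simp [h h1.1, h h1.2]
      · simp [Finset.disjoint_left.1 h h1.1, Finset.disjoint_left.1 h h1.2]
    · rw [hg i j (not_and_or.1 h1), one_apply]
      split_ifs <;> simp_all)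

theorem K_le_BB (S : Finset (Fin m)) : P.K S ≤ P.BB S := fun _ hg =>
  P.mem_BB.2 fun _ hk => P.K_le_Fx (Or.inr (Finset.disjoint_singleton_right.2 hk)) hg

theorem cj_mem_K (S : Finset (Fin m)) {T : Finset (Fin m)} {g : P.G m} (hg : g ∈ P.K T) :
    P.cj S g ∈ P.K T := fun i j h => by
  rw [ent_cj_apply, hg i j h, one_apply]
  split_ifs <;> simp_all

theorem K_comm {S T : Finset (Fin m)} (h : Disjoint S T) {a b : P.G m} (ha : a ∈ P.K S)
    (hb : b ∈ P.K T) : a * b = b * a := by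
  have key : ∀ {S T : Finset (Fin m)} {a b : P.G m}, a ∈ P.K S → b ∈ P.K T → ∀ i j,
      (i ∉ S → ent (a * b) i j = ent b i j) ∧ (j ∉ T → ent (a * b) i j = ent a i j) :=
    fun ha hb i j => ⟨fun hi => by
      rw [ent_mul, mul_apply]
      simp only [fun k => ha i k (Or.inl hi)]
      rw [← mul_apply, Matrix.one_mul], fun hj => by
      rw [ent_mul, mul_apply]
      simp only [fun k => hb k j (Or.inr hj)]
      rw [← mul_apply, Matrix.mul_one]⟩
  have d := Finset.disjoint_left.1 h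
  refine P.ent_inj (Matrix.ext fun i j => ?_)
  by_cases hi : i ∈ S
  · rw [(key hb ha i j).1 (d hi)]
    by_cases hj : j ∈ T
    · have hj' : j ∉ S := fun e => d e hj
      rw [ha i j (Or.inr hj'), one_apply_ne (fun e : i = j => hj' (e ▸ hi)), ent_mul, mul_apply]
      refine Finset.sum_eq_zero fun k _ => ?_
      by_cases hk : k ∈ S
      · rw [hb k j (Or.inl (d hk)), one_apply_ne (fun e : k = j => hj' (e ▸ hk)), mul_zero]
      · rw [ha i k (Or.inr hk), one_apply_ne (fun e : i = k => hk (e ▸ hi)), zero_mul]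
    · exact (key ha hb i j).2 hj
  · rw [(key ha hb i j).1 hi]
    by_cases hj : j ∈ S
    · have hj' : j ∉ T := d hj
      rw [hb i j (Or.inr hj'), one_apply_ne (fun e : i = j => hi (e ▸ hj)), ent_mul, mul_apply]
      refine (Finset.sum_eq_zero fun k _ => ?_).symm
      by_cases hk : k ∈ S
      · rw [hb i k (Or.inr (d hk)), one_apply_ne (fun e : i = k => hi (e ▸ hk)), zero_mul]
      · rw [ha k j (Or.inl hk), one_apply_ne (fun e : k = j => hk (e ▸ hj)), mul_zero]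
    · exact ((key hb ha i j).2 hj).symm

theorem K4_le (c d : Fin m) : P.K4 c d ≤ P.K {c, d} := (closure_le _).2 fun _ h => h.1

theorem cj_smul (S : Finset (Fin m)) {g : P.G m} {a : P.E} (h : ent g = a • 1) : P.cj S g = g :=
  P.ent_inj (by rw [ent_cj, h, Matrix.mul_smul, Matrix.smul_mul, Matrix.mul_one, dm_sq])

theorem two_ne : (2 : P.E) ≠ 0 := by
  have h : Odd (Fintype.card P.E) := by
    rw [← Int.odd_coe_nat]
    rcases P.card with h | h <;> rw [h.2]
    exacts [P.odd, P.odd.pow]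
  intro e
  have h2 : ringChar P.E = 2 := CharP.ringChar_of_prime_eq_zero Nat.prime_two (by exact_mod_cast e)
  have := FiniteField.even_card_of_char_two h2
  rw [Nat.odd_iff] at h
  omega

end Par

/-- the odd kernel trick for `cj`. -/
theorem GF1.fx_of {P : Par} (h : GF1 P) {m : ℕ} (hm : 2 ≤ m) {Y : Type*} [Group Y] {f : P.G m →* Y}
    (hk : f.ker ≤ center _) (ho : Odd (Nat.card f.ker)) {S : Finset (Fin m)} {g : P.G m}
    (e : f (P.cj S g) = f g) : g ∈ P.Fx S := by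
  have h1 : g⁻¹ * P.cj S g ∈ f.ker := by
    rw [MonoidHom.mem_ker, map_mul, map_inv, e, inv_mul_cancel]
  obtain ⟨a, ha⟩ := (h.cen m hm _).1 (hk h1)
  have h2 := P.cj_smul S ha
  rw [map_mul, map_inv, P.cj_cj] at h2
  have h3 : (g⁻¹ * P.cj S g) ^ 2 ^ 1 = 1 := by
    rw [pow_one, sq]
    nth_rw 2 [← h2]
    group
  have := eq_of_odd_ker hk ho (l := 0) h3 (b := 1) (by simp) (by rw [map_one]; exact h1)
  exact (inv_mul_eq_one.1 this).symm

/-! ### frames -/

variable {G : Type*} [Group G] {n : ℕ} {t : Fin n → Fin n → G}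

theorem Pm.mul {g h : G} {π σ : Equiv.Perm (Fin n)} (h1 : Pm t g π) (h2 : Pm t h σ) :
    Pm t (g * h) (π * σ) := fun a b => by
  rw [Equiv.Perm.mul_apply, Equiv.Perm.mul_apply, ← h1, ← h2]; group

theorem Pm.inv {g : G} {π : Equiv.Perm (Fin n)} (h : Pm t g π) : Pm t g⁻¹ π⁻¹ := fun a b => by
  have := h (π⁻¹ a) (π⁻¹ b)
  simp only [Equiv.Perm.coe_inv, Equiv.apply_symm_apply] at this ⊢
  rw [← this]; group

theorem Pm.one : Pm t 1 1 := fun a b => by simp

theorem Pm.mC {g : G} {π : Equiv.Perm (Fin n)} (h : Pm t g π) {a b : Fin n} {x : G} :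
    g * x * g⁻¹ ∈ C1 (t (π a) (π b)) ↔ x ∈ C1 (t a b) := h a b ▸ H18.SC.mC (MulAut.conj g)

theorem Pm.mO {g : G} {π : Equiv.Perm (Fin n)} (h : Pm t g π) {a b : Fin n} {x : G} :
    g * x * g⁻¹ ∈ Oc (t (π a) (π b)) ↔ x ∈ Oc (t a b) := h a b ▸ H18.SC.mO (MulAut.conj g)

/-- permutation elements for generators suffice. -/
theorem pm_of_swap {M : Subgroup G} (h : ∀ a b, a ≠ b → ∃ g ∈ M, Pm t g (Equiv.swap a b))
    (π : Equiv.Perm (Fin n)) : ∃ g ∈ M, Pm t g π := by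
  induction π using Equiv.Perm.swap_induction_on with
  | one => exact ⟨1, one_mem _, Pm.one⟩
  | swap_mul f x y hxy ih =>
    obtain ⟨g, hg, e⟩ := h x y hxy
    obtain ⟨k, hk, e'⟩ := ih
    exact ⟨g * k, mul_mem hg hk, e.mul e'⟩

namespace Fr

variable (h : Fr t)
include h

theorem sq (a b : Fin n) : t a b * t a b = 1 := by
  nth_rw 2 [h.symm]
  rw [h.mul, h.self]

theorem inv (a b : Fin n) : (t a b)⁻¹ = t a b := inv_eq_of_mul_eq_one_right (h.sq a b)

theorem comm (a b c d : Fin n) : t a b * t c d = t c d * t a b := by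
  have k : ∀ a b c, t a b * t b c = t b c * t a b := fun a b c => by
    rw [h.mul, h.symm b c, h.symm a b, h.mul, h.symm]
  have k2 : t a b * t b d = t b d * t a b := k a b d
  have k3 : t a b * t c b = t c b * t a b := by rw [h.symm c b, k]
  rw [← h.mul c b d, ← mul_assoc, k3, mul_assoc, k2, mul_assoc]

theorem mem (a b c d : Fin n) : t a b ∈ C1 (t c d) := mC1.2 (h.comm a b c d)

theorem ord {a b : Fin n} (hab : a ≠ b) : orderOf (t a b) = 2 :=
  haveI : Fact (Nat.Prime 2) := ⟨Nat.prime_two⟩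
  orderOf_eq_prime (by rw [pow_two, h.sq]) (h.ne a b hab)

theorem two : IsPGroup 2 (closure {y | ∃ r s, y = t r s}) := by
  rintro ⟨x, hx⟩
  refine ⟨1, Subtype.ext ?_⟩
  change x ^ 2 ^ 1 = 1
  have c : ∀ x ∈ closure {y | ∃ r s, y = t r s}, ∀ r s, x ∈ C1 (t r s) := fun x hx r s =>
    (closure_le _).2 (by rintro _ ⟨a, b, rfl⟩; exact h.mem a b r s) hx
  rw [pow_one, pow_two]
  induction hx using closure_induction_left with
  | one => simp
  | mul_left y hy z hz ih =>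
    obtain ⟨r, s, rfl⟩ := hy
    rw [mul_assoc, ← mul_assoc z, mC1.1 (c z hz r s), mul_assoc, ih, mul_one, h.sq]
  | inv_mul_cancel y hy z hz ih =>
    obtain ⟨r, s, rfl⟩ := hy
    rw [h.inv, mul_assoc, ← mul_assoc z, mC1.1 (c z hz r s), mul_assoc, ih, mul_one, h.sq]

end Fr

/-- a permutation with prescribed values on a list. -/
theorem exists_perm_list {l l' : List (Fin n)} (h : l.Nodup) (h' : l'.Nodup)
    (e : l.length = l'.length) : ∃ π : Equiv.Perm (Fin n), l.map π = l' := by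
  obtain ⟨π, hπ⟩ := Equiv.Perm.exists_extending_pair (f := l.get) (g := fun i => l'.get (i.cast e))
    h.injective_get (h'.injective_get.comp (Fin.cast_injective e))
  refine ⟨π, List.ext_get (by simp [e]) fun i h1 h2 => ?_⟩
  have := hπ ⟨i, by simpa using h1⟩
  simpa using this

theorem Lab.perm {m : ℕ} {a b : Fin n} {e : Fin m → Fin n} (h : Lab a b e)
    (π : Equiv.Perm (Fin n)) : Lab (π a) (π b) (π ∘ e) :=
  ⟨π.injective.ne h.ne, π.injective.comp h.inj, fun i => π.injective.ne (h.na i),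
    fun i => π.injective.ne (h.nb i), fun c h1 h2 => by
      obtain ⟨c, rfl⟩ := π.surjective c
      obtain ⟨i, hi⟩ := h.sur c (fun e => h1 (e ▸ rfl)) fun e => h2 (e ▸ rfl)
      exact ⟨i, congrArg π hi⟩⟩

theorem Lab.symm {m : ℕ} {a b : Fin n} {e : Fin m → Fin n} (h : Lab a b e) : Lab b a e :=
  ⟨h.ne.symm, h.inj, h.nb, h.na, fun c h1 h2 => h.sur c h2 h1⟩

theorem Lab.nodup {m : ℕ} {a b : Fin n} {e : Fin m → Fin n} (h : Lab a b e) {l : List (Fin m)}
    (hl : l.Nodup) : (a :: b :: l.map e).Nodup := by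
  simp only [List.nodup_cons, List.mem_cons, List.mem_map, not_or, not_exists, not_and]
  exact ⟨⟨h.ne, fun i _ => h.na i⟩, fun i _ => h.nb i, hl.map h.inj⟩

theorem lab_std (m : ℕ) : Lab (0 : Fin (m + 2)) 1 fun i : Fin m => i.succ.succ :=
  ⟨Fin.zero_ne_one, (Fin.succ_injective _).comp (Fin.succ_injective _), fun _ => Fin.succ_ne_zero _,
    fun i e => Fin.succ_ne_zero i (Fin.succ_injective _ e), fun c h1 h2 => by
      obtain ⟨c, rfl⟩ := Fin.exists_succ_eq.2 h1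
      obtain ⟨c, rfl⟩ := Fin.exists_succ_eq.2 (show c ≠ 0 from fun e => h2 (e ▸ rfl))
      exact ⟨c, rfl⟩⟩

/-- two labellings differ by a permutation. -/
theorem Lab.exists_perm {m : ℕ} {a b a' b' : Fin n} {e e' : Fin m → Fin n} (h : Lab a b e)
    (h' : Lab a' b' e') : ∃ π : Equiv.Perm (Fin n), π a = a' ∧ π b = b' ∧ π ∘ e = e' := by
  obtain ⟨π, hπ⟩ := exists_perm_list (h.nodup (List.nodup_finRange m))
    (h'.nodup (List.nodup_finRange m)) (by simp)
  simp only [List.map_cons, List.cons.injEq, List.map_map] at hπ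
  exact ⟨π, hπ.1, hπ.2.1, funext fun i => List.map_inj_left.1 hπ.2.2 i (List.mem_finRange i)⟩

/-- a labelling that starts with prescribed labels. -/
theorem exists_lab {m : ℕ} {a b : Fin (m + 2)} {l : List (Fin m)} {l' : List (Fin (m + 2))}
    (hl : l.Nodup) (h : (a :: b :: l').Nodup) (e : l.length = l'.length) :
    ∃ f : Fin m → Fin (m + 2), Lab a b f ∧ l.map f = l' := by
  obtain ⟨π, hπ⟩ := exists_perm_list ((lab_std m).nodup hl) h (by simp [e])
  simp only [List.map_cons, List.cons.injEq, List.map_map] at hπ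
  exact ⟨_, hπ.1 ▸ hπ.2.1 ▸ (lab_std m).perm π, hπ.2.2⟩

/-! ### `LL` and `CC` -/

theorem mem_LL {a b c d : Fin n} (h : [a, b, c, d].Nodup) : t c d ∈ LL t a b :=
  subset_closure ⟨1, one_mem _, c, d, h, by simp⟩

theorem Fr.LL_le (h : Fr t) (a b : Fin n) : LL t a b ≤ C1 (t a b) := (closure_le _).2 (by
  rintro _ ⟨g, hg, c, d, -, rfl⟩
  exact mul_mem (mul_mem hg (h.mem c d a b)) (inv_mem hg))

theorem nrm_LL {a b : Fin n} {g : G} (hg : g ∈ C1 (t a b)) : Nrm g (LL t a b) (LL t a b) :=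
  ((closure_le _).2 (by
    rintro _ ⟨k, hk, c, d, hn, rfl⟩
    exact subset_closure ⟨g * k, mul_mem hg hk, c, d, hn, by simp [mul_assoc]⟩) :
    LL t a b ≤ (LL t a b).comap (MulAut.conj g).toMonoidHom)

theorem Fr.LL_symm (h : Fr t) (a b : Fin n) : LL t a b = LL t b a := by
  have : ∀ a b, LL t a b ≤ LL t b a := fun a b => closure_mono (by
    rintro _ ⟨k, hk, c, d, hn, rfl⟩
    exact ⟨k, h.symm a b ▸ hk, c, d, (List.Perm.swap b a _).nodup_iff.1 hn, rfl⟩)
  exact le_antisymm (this a b) (this b a)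

theorem Pm.LL {g : G} {π : Equiv.Perm (Fin n)} (h : Pm t g π) (a b : Fin n) :
    Nrm g (LL t a b) (LL t (π a) (π b)) :=
  ((closure_le _).2 (by
    rintro _ ⟨k, hk, c, d, hn, rfl⟩
    refine subset_closure ⟨g * k * g⁻¹, h.mC.2 hk, π c, π d, hn.map π.injective, ?_⟩
    rw [← h c d]
    simp [mul_assoc]) : FL.LL t a b ≤ (FL.LL t (π a) (π b)).comap (MulAut.conj g).toMonoidHom)

theorem Pm.CC {g : G} {π : Equiv.Perm (Fin n)} (h : Pm t g π) {a b : Fin n} {c : G}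
    (hc : c ∈ CC t a b) : g * c * g⁻¹ ∈ FL.CC t (π a) (π b) := ⟨h.mC.2 hc.1, fun l hl => by
  have h1 := h.inv.LL _ _ l hl
  simp only [Equiv.Perm.coe_inv, Equiv.symm_apply_apply] at h1
  have := h.mO.2 (hc.2 _ h1)
  convert this using 1
  simp only [commutatorElement_def]
  group⟩

/-- `CC` as a subgroup. -/
def CCs (t : Fin n → Fin n → G) (a b : Fin n) : Subgroup G where
  carrier := CC t a b
  one_mem' := ⟨one_mem _, fun l _ => by simp⟩
  mul_mem' := fun {x y} hx hy => ⟨mul_mem hx.1 hy.1, fun l hl => by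
    have := mul_mem (nrm_O hx.1 _ (hy.2 l hl)) (hx.2 l hl)
    convert this using 1
    simp only [commutatorElement_def]
    group⟩
  inv_mem' := fun {x} hx => ⟨inv_mem hx.1, fun l hl => by
    have := nrm_O (inv_mem hx.1) _ (inv_mem (hx.2 l hl))
    convert this using 1
    simp only [commutatorElement_def]
    group⟩

theorem nrm_CC {a b : Fin n} {g : G} (hg : g ∈ C1 (t a b)) : Nrm g (CCs t a b) (CCs t a b) :=
  fun c hc => ⟨nrm_C hg c hc.1, fun l hl => by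
    have := nrm_O hg _ (hc.2 _ (nrm_LL (inv_mem hg) l hl))
    convert this using 1
    simp only [commutatorElement_def]
    group⟩

/-! ### `Pj` -/

namespace Pj

variable {Y : Type*} [Group Y] {u : G} {p : G → Y} (h : Pj u p)
include h

/-- the homomorphism. -/
def hom : C1 u →* Y := MonoidHom.mk' (fun x => p x) fun x y => h.mul _ x.2 _ y.2

theorem hom_apply (x : C1 u) : h.hom x = p x := rfl

theorem one : p 1 = 1 := h.hom.map_one

theorem inv {x : G} (hx : x ∈ C1 u) : p x⁻¹ = (p x)⁻¹ := h.hom.map_inv ⟨x, hx⟩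

theorem conj {x y : G} (hx : x ∈ C1 u) (hy : y ∈ C1 u) : p (x * y * x⁻¹) = p x * p y * (p x)⁻¹ := by
  rw [h.mul _ (mul_mem hx hy) _ (inv_mem hx), h.mul _ hx _ hy, h.inv hx]

theorem comm {x y : G} (hx : x ∈ C1 u) (hy : y ∈ C1 u) : p ⁅x, y⁆ = ⁅p x, p y⁆ :=
  map_commutatorElement h.hom (⟨x, hx⟩ : C1 u) ⟨y, hy⟩

theorem eq_iff {x y : G} (hx : x ∈ C1 u) (hy : y ∈ C1 u) : p x = p y ↔ x⁻¹ * y ∈ Oc u := by
  rw [← h.ker _ (mul_mem (inv_mem hx) hy), h.mul _ (inv_mem hx) _ hy, h.inv hx, inv_mul_eq_one]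

theorem hom_surj : Function.Surjective h.hom := fun y =>
  let ⟨x, hx, e⟩ := h.sur y
  ⟨⟨x, hx⟩, e⟩

theorem hom_ker : h.hom.ker = pPrimeCore 2 (C1 u) := by
  ext x
  rw [MonoidHom.mem_ker, hom_apply, h.ker _ x.2]
  exact mem_map_iff_mem Subtype.val_injective

theorem central (y : Y) : y * p u = p u * y := by
  obtain ⟨x, hx, rfl⟩ := h.sur y
  rw [← h.mul _ hx _ (mC1.2 rfl), mC1.1 hx, h.mul _ (mC1.2 rfl) _ hx]

/-- the image of a subgroup. -/
def im (X : Subgroup G) : Subgroup Y := (X.subgroupOf (C1 u)).map h.hom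

theorem mem_im {X : Subgroup G} {y : Y} : y ∈ h.im X ↔ ∃ x ∈ X, x ∈ C1 u ∧ p x = y :=
  ⟨fun ⟨x, hx, e⟩ => ⟨x, hx, x.2, e⟩, fun ⟨x, hx, h1, e⟩ => ⟨⟨x, h1⟩, hx, e⟩⟩

theorem mem_im_of {X : Subgroup G} {x : G} (h1 : x ∈ X) (h2 : x ∈ C1 u) : p x ∈ h.im X :=
  h.mem_im.2 ⟨x, h1, h2, rfl⟩

theorem mem_of_im {X : Subgroup G} (hO : Oc u ≤ X) {x : G} (h2 : x ∈ C1 u) (h1 : p x ∈ h.im X) :
    x ∈ X := by
  obtain ⟨y, h3, h4, e⟩ := h.mem_im.1 h1
  simpa using mul_mem h3 (hO ((h.eq_iff h4 h2).1 e))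

variable [Finite G]

theorem odd_ker : Odd (Nat.card h.hom.ker) := by
  rw [hom_ker]
  exact Nat.coprime_two_right.1 (H3.pPrimeCore_coprime 2 _)

theorem core : pPrimeCore 2 Y = ⊥ := by
  have e := (QuotientGroup.quotientMulEquivOfEq h.hom_ker.symm).trans
    (QuotientGroup.quotientKerEquivOfSurjective _ h.hom_surj)
  haveI : Finite Y := Finite.of_surjective _ h.hom_surj
  have h1 : (pPrimeCore 2 Y).comap e.toMonoidHom ≤ ⊥ := by
    rw [← H3.pPrimeCore_quotient_pPrimeCore 2 (C1 u)]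
    refine H3.le_pPrimeCore ?_
    rw [comap_equiv_eq_map_symm', card_map_of_injective e.symm.injective]
    exact H3.pPrimeCore_coprime 2 Y
  refine eq_bot_iff.2 fun y hy => ?_
  obtain ⟨y, rfl⟩ := e.surjective y
  rw [mem_bot.1 (h1 hy), map_one]
  exact one_mem _

theorem ne_one {s : G} (hs : s ∈ C1 u) (h2 : s * s = 1) (h1 : s ≠ 1) : p s ≠ 1 := fun e => by
  have h3 := Subgroup.orderOf_dvd_natCard _ ((h.ker s hs).1 e)
  haveI : Fact (Nat.Prime 2) := ⟨Nat.prime_two⟩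
  rw [orderOf_eq_prime (p := 2) (by rw [pow_two, h2]) h1] at h3
  exact (odd_O u).not_two_dvd_nat h3

/-- centralizers of 2-subgroups lift. -/
theorem lift {Q : Subgroup G} (hQ : IsPGroup 2 Q) (hle : Q ≤ C1 u) {y : Y}
    (hy : ∀ q ∈ Q, y * p q = p q * y) : ∃ x ∈ C1 u, (∀ q ∈ Q, x * q = q * x) ∧ p x = y := by
  haveI : Fact (Nat.Prime 2) := ⟨Nat.prime_two⟩
  obtain ⟨x, hx, e⟩ := (H6.centralizer_map_of_coprime_ker (p := 2) h.hom_surj
    (Nat.coprime_two_right.2 h.odd_ker) (X := Q.subgroupOf (C1 u)) hQ.comap_subtype).le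
    (show y ∈ _ from by rintro _ ⟨q, hq, rfl⟩; exact (hy q hq).symm)
  exact ⟨x, x.2, fun q hq => (congrArg Subtype.val (hx ⟨q, hle hq⟩ hq)).symm, e⟩

theorem lift1 {s : G} (hs : s ∈ C1 u) (h2 : s * s = 1) {y : Y} (hy : y ∈ C1 (p s)) :
    ∃ x ∈ C1 u, x ∈ C1 s ∧ p x = y := by
  haveI : Fact (Nat.Prime 2) := ⟨Nat.prime_two⟩
  obtain ⟨x, hx, e⟩ := (H52.map_centralizer_singleton (p := 2) h.hom_surj
    (Nat.coprime_two_right.2 h.odd_ker) (a := ⟨s, hs⟩) (by
      rintro ⟨_, k, rfl⟩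
      refine ⟨1, Subtype.ext (Subtype.ext ?_)⟩
      change (s ^ k) ^ 2 ^ 1 = 1
      rw [pow_one, ← zpow_natCast, ← _root_.zpow_mul, mul_comm, _root_.zpow_mul, zpow_natCast, pow_two, h2,
        _root_.one_zpow])).ge hy
  exact ⟨x, x.2, mC1.2 (congrArg Subtype.val (mC1.1 hx)), e⟩

/-- odd normal subgroups of `C(u) ⊓ C(s)` map to odd normal subgroups of `C(p s)`. -/
theorem oddN {s : G} (hs : s ∈ C1 u) (h2 : s * s = 1) {X : Subgroup G}
    (hX : OddN X (C1 u ⊓ C1 s)) : OddN (h.im X) (C1 (p s)) := by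
  refine ⟨hX.1.of_dvd_nat ((card_map_dvd _ _).trans (card_comap_dvd_of_injective _ _
    Subtype.val_injective)), fun y hy => ?_, fun c hc y hy => ?_⟩
  · obtain ⟨x, h3, h4, rfl⟩ := h.mem_im.1 hy
    rw [mC1, ← h.mul _ h4 _ hs, mC1.1 (hX.2.1 h3).2, h.mul _ hs _ h4]
  · obtain ⟨x, h3, h4, rfl⟩ := h.mem_im.1 hy
    obtain ⟨c, h5, h6, rfl⟩ := h.lift1 hs h2 hc
    rw [← h.conj h5 h4]
    exact h.mem_im_of (hX.2.2 c ⟨h5, h6⟩ x h3) (nrm_C h5 x h4)

omit [Finite G] in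
/-- transport along a conjugation. -/
theorem tr (g : G) : Pj (g * u * g⁻¹) fun x => p (g⁻¹ * x * g) := by
  have m : ∀ x, x ∈ C1 (g * u * g⁻¹) ↔ g⁻¹ * x * g ∈ C1 u := fun x => by
    rw [← H18.SC.mC (MulAut.conj g) (a := u)]
    simp [mul_assoc]
  refine ⟨fun x hx y hy => ?_, fun y => ?_, fun x hx => ?_⟩
  · rw [← h.mul _ ((m x).1 hx) _ ((m y).1 hy)]
    congr 1
    group
  · obtain ⟨x, hx, rfl⟩ := h.sur y
    exact ⟨g * x * g⁻¹, (m _).2 (by simpa [mul_assoc] using hx), by simp [mul_assoc]⟩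
  · rw [h.ker _ ((m x).1 hx), ← H18.SC.mO (MulAut.conj g) (a := u)]
    simp [mul_assoc]

end Pj

theorem oddN_O [Finite G] (s u : G) : OddN (Oc s ⊓ C1 u) (C1 u ⊓ C1 s) :=
  ⟨(odd_O s).of_dvd_nat (card_dvd_of_le inf_le_left), fun _ hx => ⟨hx.2, O_le s hx.1⟩,
    fun _ hc => nrm_inf (nrm_O hc.2) (nrm_C hc.1)⟩

/-- the projection exists. -/
theorem exists_pj (u : G) : ∃ p : G → C1 u ⧸ pPrimeCore 2 (C1 u), Pj u p := by
  classical
  refine ⟨fun g => if h : g ∈ C1 u then QuotientGroup.mk ⟨g, h⟩ else 1, fun x hx y hy => ?_,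
    fun y => ?_, fun x hx => ?_⟩
  · rw [dif_pos hx, dif_pos hy, dif_pos (mul_mem hx hy)]
    rfl
  · obtain ⟨x, rfl⟩ := QuotientGroup.mk_surjective y
    exact ⟨x, x.2, dif_pos x.2⟩
  · rw [dif_pos hx, QuotientGroup.eq_one_iff]
    exact (mem_map_iff_mem Subtype.val_injective (x := (⟨x, hx⟩ : C1 u))).symm

/-- an odd subgroup centralizing a normal subgroup `L ∋ s` and normalized by `C(s)`. -/
theorem bot_of_cent {Y : Type*} [Group Y] [Finite Y] (hO : pPrimeCore 2 Y = ⊥) {L X : Subgroup Y}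
    [L.Normal] {s : Y} (hs : s ∈ L) (hX : OddN X (C1 s)) : X ⊓ centralizer (L : Set Y) = ⊥ := by
  have h1 : ((X ⊓ centralizer (L : Set Y)).subgroupOf (centralizer (L : Set Y))).Normal :=
    ⟨fun x hx c => ⟨hX.2.2 c (mC1.2 (c.2 s hs).symm) x hx.1, (c * x * c⁻¹).2⟩⟩
  have h2 : (X ⊓ centralizer (L : Set Y)).IsSubnormal :=
    IsSubnormal.step _ _ inf_le_right (Normal.isSubnormal inferInstance) h1
  exact eq_bot_iff.2 (hO ▸ H3.le_pPrimeCore_of_isSubnormal h2
    (Nat.coprime_two_right.2 (hX.1.of_dvd_nat (card_dvd_of_le inf_le_left))))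

section Local

variable {P : Par} {m : ℕ} {a b : Fin n} {e : Fin m → Fin n} {Y : Type*} [Group Y] {p : G → Y}
  {f : P.G m →* Y} {g : G} {π : Equiv.Perm (Fin n)}

theorem L0.tr (h : L0 P t a b e p f) (hg : Pm t g π) :
    L0 P t (π a) (π b) (π ∘ e) (fun x => p (g⁻¹ * x * g)) f :=
  ⟨hg a b ▸ h.pj.tr g, h.nor, h.ker, h.odd, fun c d => by
    rw [h.tt, Function.comp, Function.comp, ← hg]
    simp [mul_assoc]⟩

theorem L1.tr (h : L1 P t a b e p f) (hg : Pm t g π) :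
    L1 P t (π a) (π b) (π ∘ e) (fun x => p (g⁻¹ * x * g)) f :=
  ⟨h.toL0.tr hg, fun k x => by
    rw [← h.act, Function.comp, ← hg]
    simp [mul_assoc]⟩

/-- the image of `LL` lies in the component. -/
theorem L0.im_le (h : L0 P t a b e p f) (hF : Fr t) (hl : Lab a b e) {x : G}
    (hx : x ∈ LL t a b ⊔ Oc (t a b)) : p x ∈ f.range := by
  have : LL t a b ⊔ Oc (t a b) ≤ (f.range.comap h.pj.hom).map (C1 (t a b)).subtype := by
    refine sup_le ((closure_le _).2 ?_) fun y hy => ⟨⟨y, O_le _ hy⟩, ?_, rfl⟩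
    · rintro _ ⟨k, hk, c, d, hn, rfl⟩
      simp only [List.nodup_cons, List.mem_cons, not_or] at hn
      obtain ⟨c, rfl⟩ := hl.sur c (Ne.symm hn.1.2.1) (Ne.symm hn.2.1.1)
      obtain ⟨d, rfl⟩ := hl.sur d (Ne.symm hn.1.2.2.1) (Ne.symm hn.2.1.2.1)
      refine ⟨⟨_, nrm_C hk _ (hF.mem _ _ a b)⟩, ?_, rfl⟩
      change p _ ∈ f.range
      rw [h.pj.conj hk (hF.mem _ _ a b), ← h.tt]
      exact h.nor.conj_mem _ ⟨_, rfl⟩ _
    · change p y ∈ f.range
      rw [(h.pj.ker y (O_le _ hy)).2 hy]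
      exact one_mem _
  obtain ⟨y, hy, rfl⟩ := this hx
  exact hy

end Local

end Cfsg.Agent.H96.FL
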