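import Cfsg.Agent.H96.FuLGm
import Cfsg.Agent.H96.FuLBlk
import Cfsg.Agent.H96.AutLE
import Cfsg.Agent.S0248
import Cfsg.Agent.S0249

/-! The centralizer of `tP a b` in `PSL_n(F)`: `ModStmt`. -/

set_option autoImplicit false

namespace Cfsg.Agent.H96.FL

open Matrix Subgroup Cfsg.Agent.H1.FU Cfsg.Agent.H8.GHO Cfsg.Agent.H8
open scoped Pointwise MatrixGroups commutatorElement

universe u v

variable {F : Type*} [Field F] {n m : ℕ}

theorem fr_tm (h2 : (2 : F) ≠ 0) : Fr (tm F : Fin n → Fin n → SL(n, F)) := by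
  refine ⟨tm_self, tm_symm, tm_mul, fun a b h e => ?_, fun a b c d h e => ?_, pm_tm⟩
  · have := dm_inj h2 (((coe_tm' h).symm.trans (congrArg Subtype.val e)).trans dm_empty.symm)
    simp at this
  · have := dm_inj h2 (((coe_tm4 h).symm.trans (congrArg Subtype.val e)).trans dm_empty.symm)
    simp at this

theorem nab_psl [Finite F] (h2 : (2 : F) ≠ 0) (hn : 3 ≤ n)
    (T : Sylow 2 (ProjectiveSpecialLinearGroup (Fin n) F)) : ¬ IsMulCommutative T := fun hc => by
  obtain ⟨a, b, c, h⟩ : ∃ a b c : Fin n, [a, b, c].Nodup :=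
    ⟨⟨0, by omega⟩, ⟨1, by omega⟩, ⟨2, by omega⟩, by simp⟩
  obtain ⟨w, -, h1, h3⟩ := (fr_tm h2).exists_w h
  obtain ⟨g, -, hg⟩ := (isSylowIn_top T).exists_conj_le (h3.map (QuotientGroup.mk' _)) le_top
  have e := congrArg Subtype.val (hc.1.1
    ⟨_, hg (conj_mem_conj_smul.2 (mem_map_of_mem _ (subset_closure (Or.inl rfl))))⟩
    ⟨_, hg (conj_mem_conj_smul.2 (mem_map_of_mem _ (subset_closure (Or.inr ⟨a, c, rfl⟩))))⟩)
  rw [coe_mul, coe_mul, conj_mul, conj_mul, mul_left_inj, mul_right_inj, ← map_mul,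
    mul_inv_eq_iff_eq_mul.1 h1, map_mul, mul_left_inj, ← tm_mul b a c, map_mul, mul_eq_right] at e
  have ab : b ≠ a := fun e => by simp [e] at h
  exact mk_dm_ne h2 (coe_tm' ab) (by rw [Finset.card_pair ab]; omega)
    (by rw [Finset.card_pair ab]; omega) e

theorem exists_sw {a b : Fin n} (h : a ≠ b) : ∃ w ∈ FixE (1 + dm F {a, b}), w ^ 2 ^ 2 = 1 ∧
    Pm (tm F) w (Equiv.swap a b) := by
  let P := (Equiv.swap a b).permMatrix F
  have p1 : ∀ S, P * dm F S = dm F (S.map (Equiv.swap a b).toEmbedding) * P := fun S => by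
    ext i j
    rw [dm, dm, mul_diagonal, diagonal_mul, mul_comm]
    by_cases e : Equiv.swap a b i = j
    · subst e; simp
    · simp [P, PEquiv.toMatrix_apply, e]
  have p2 : P * P = 1 := Matrix.swap_mul_self a b
  have p3 : P * (1 + dm F {a, b}) = 1 + dm F {a, b} ∧ (1 + dm F {a, b}) * P = 1 + dm F {a, b} := by
    rw [dm, ← diagonal_one, diagonal_add]
    constructor <;> ext i j <;> simp only [mul_diagonal, diagonal_mul, diagonal_apply, P,
      PEquiv.toMatrix_apply, Equiv.toPEquiv_apply, Option.mem_def, Option.some.injEq,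
      Equiv.swap_apply_def, Finset.mem_insert, Finset.mem_singleton] <;> split_ifs <;> simp_all
  have p4 : dm F {a} * (1 + dm F {a, b}) = 1 + dm F {a, b} ∧
      (1 + dm F {a, b}) * dm F {a} = 1 + dm F {a, b} := by
    constructor <;>
    · rw [dm, dm, ← diagonal_one, diagonal_add, diagonal_mul_diagonal]
      congr 1
      funext i
      by_cases h1 : i = a <;> simp [h1]
  let w : SL(n, F) := ⟨P * dm F {a}, by simp [P, det_dm, Equiv.Perm.sign_swap h]⟩
  have p5 : ∀ S, w.1 * dm F S = dm F (S.map (Equiv.swap a b).toEmbedding) * w.1 := fun S => by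
    rw [Matrix.mul_assoc, dm_comm, ← Matrix.mul_assoc, p1, Matrix.mul_assoc]
  refine ⟨w, ⟨by rw [Matrix.mul_assoc, p4.1, p3.1], by rw [← Matrix.mul_assoc, p3.2, p4.2]⟩, ?_,
    fun c d => mul_inv_eq_iff_eq_mul.2 (Subtype.ext ?_)⟩
  · have : w * w = tm F b a := Subtype.ext (by
      change P * dm F {a} * (P * dm F {a}) = dm F {b} * dm F {a}
      nth_rw 1 [p1]
      rw [Matrix.mul_assoc, ← Matrix.mul_assoc P, p2]; simp)
    rw [show 2 ^ 2 = 2 * 2 from rfl, pow_mul, sq w, this, sq, tm_sq]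
  · change w.1 * (dm F {c} * dm F {d}) = dm F {_} * dm F {_} * w.1
    rw [← Matrix.mul_assoc, p5, Matrix.mul_assoc, p5, Matrix.mul_assoc]; simp

theorem FixE.mono (h2 : (2 : F) ≠ 0) {S U : Finset (Fin n)} (h : Disjoint S U) :
    FixE (1 + dm F S) ≤ FixE (1 - dm F U) := fun x hx => by
  have e : (1 + dm F S) * (1 - dm F U) = (1 - dm F U) + (1 - dm F U) ∧
      (1 - dm F U) * (1 + dm F S) = (1 - dm F U) + (1 - dm F U) := by
    constructor <;>
    · rw [dm, dm, ← diagonal_one, diagonal_add, diagonal_sub, diagonal_mul_diagonal, diagonal_add]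
      congr 1
      funext i
      by_cases h1 : i ∈ U
      · simp [h1, Finset.disjoint_right.1 h h1, mul_add]
      · simp [h1]
  exact ⟨two_cancel h2 (by rw [← Matrix.mul_add, ← e.1, ← Matrix.mul_assoc, hx.1]),
    two_cancel h2 (by rw [← Matrix.add_mul, ← e.2, Matrix.mul_assoc, hx.2])⟩

section Emb

variable (U : Matrix (Fin n) (Fin m) F) (V : Matrix (Fin m) (Fin n) F) (h : V * U = 1)

/-- the block embedding. -/
def embU : SL(m, F) →* SL(n, F) where
  toFun g := ⟨1 + U * ((g.1 - 1) * V), by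
    rw [det_one_add_mul_comm, Matrix.mul_assoc, h, Matrix.mul_one, add_sub_cancel, g.2]⟩
  map_one' := Subtype.ext (by simp)
  map_mul' x y := Subtype.ext (by
    change 1 + U * ((x.1 * y.1 - 1) * V) = (1 + U * ((x.1 - 1) * V)) * (1 + U * ((y.1 - 1) * V))
    simp only [Matrix.add_mul, Matrix.mul_add, Matrix.one_mul, Matrix.mul_one, Matrix.mul_assoc,
      ← Matrix.mul_assoc V U, h, Matrix.sub_mul, Matrix.mul_sub]
    abel)

theorem coe_embU (g : SL(m, F)) : (embU U V h g).1 = 1 + U * ((g.1 - 1) * V) := rfl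

/-- the block of an element commuting with the projection. -/
def prU {u : SL(n, F)} (hu : ∀ x ∈ C1 u, U * V * x.1 = x.1 * (U * V)) :
    C1 u →* Matrix (Fin m) (Fin m) F where
  toFun x := V * x.1.1 * U
  map_one' := by simpa using h
  map_mul' x y := by
    change V * (x.1.1 * y.1.1) * U = _
    rw [Matrix.mul_assoc (V * x.1.1), ← Matrix.mul_assoc U, ← Matrix.mul_assoc U, hu _ y.2,
      Matrix.mul_assoc y.1.1, Matrix.mul_assoc U, h]
    simp only [Matrix.mul_assoc, Matrix.mul_one]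

end Emb

theorem modS : ModStmt.{v} := by
  intro n m hm F _ _ hq a b e lab
  have h2 := two_ne_of_odd hq
  have hn : m + 1 < n := by simpa using (lab.nodup (List.nodup_finRange m)).length_le_card
  have fr := fr_tP (F := F) h2 (show 5 ≤ n by omega)
  let U : Matrix (Fin n) (Fin m) F := (1 : Matrix (Fin n) (Fin n) F).submatrix id e
  let V : Matrix (Fin m) (Fin n) F := (1 : Matrix (Fin n) (Fin n) F).submatrix e id
  have VU : V * U = 1 := by
    rw [← submatrix_mul _ _ _ _ _ Function.bijective_id, Matrix.one_mul, submatrix_one _ lab.inj]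
  have dU : ∀ d : Fin m → F, U * (diagonal d * V) = diagonal (Function.extend e d 0) := fun d => by
    ext i j
    rw [mul_apply]
    simp only [U, V, diagonal_mul, submatrix_apply, id, one_apply, diagonal_apply]
    by_cases h : ∃ c, e c = i
    · obtain ⟨c, rfl⟩ := h
      rw [Finset.sum_eq_single c (fun x _ hx => by simp [lab.inj.eq_iff, hx.symm]) (by simp)]
      simp [lab.inj.extend_apply]
    · rw [Function.extend_apply' _ _ _ h]
      simp only [not_exists] at h
      simp [fun c => Ne.symm (h c)]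
  have cs : ∀ i, (∃ c, e c = i) ∨ ((i = a ∨ i = b) ∧ ¬ ∃ c, e c = i) := fun i => by
    by_cases h : ∃ c, e c = i
    · exact .inl h
    · exact .inr ⟨by by_contra! k; exact h (lab.sur i k.1 k.2), h⟩
  generalize hD : dm F {a, b} = D
  have hu : (tm F a b).1 = D := hD ▸ coe_tm' lab.ne
  have UV : U * V + U * V = 1 + D := by
    rw [← Matrix.one_mul V, ← diagonal_one, dU, ← hD, dm, ← diagonal_one, diagonal_add, diagonal_add]
    congr 1
    funext i
    obtain ⟨c, rfl⟩ | h := cs i
    · simp [lab.inj.extend_apply, lab.na, lab.nb]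
    · simp [Function.extend_apply' _ _ _ h.2, h.1]
  have hD' : D = U * V + U * V - 1 := by rw [UV]; abel
  have DU : (1 - D) * U = 0 := by
    simp only [hD', Matrix.sub_mul, Matrix.add_mul, Matrix.mul_assoc, VU]; simp
  have VD : V * (1 - D) = 0 := by
    simp only [hD', Matrix.mul_sub, Matrix.mul_add, ← Matrix.mul_assoc, VU]; simp
  have cu : ∀ z ∈ C1 (tm F a b), z.1 * D = D * z.1 := fun z hz =>
    hu ▸ congrArg Subtype.val (show z * tm F a b = tm F a b * z from mC1.1 hz)
  have cP : ∀ z ∈ C1 (tm F a b), U * V * z.1 = z.1 * (U * V) := fun z hz => two_cancel h2 (by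
    rw [← Matrix.add_mul, ← Matrix.mul_add z.1, UV, Matrix.add_mul, Matrix.mul_add, cu z hz]; simp)
  have e1 : ∀ g, embU U V VU g ∈ FixE (1 - D) := fun g =>
    ⟨by rw [coe_embU, Matrix.add_mul, Matrix.mul_assoc, Matrix.mul_assoc, VD]; simp,
      by rw [coe_embU, Matrix.mul_add, ← Matrix.mul_assoc, DU]; simp⟩
  have e2 : ∀ z ∈ FixE (1 - D), z ∈ C1 (tm F a b) := fun z hz => mC1.2 (Subtype.ext (by
    change z.1 * (tm F a b).1 = (tm F a b).1 * z.1
    rw [hu]
    linear_combination (norm := noncomm_ring) hz.2 - hz.1))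
  have e3 : ∀ z ∈ C1 (tm F a b), (1 + U * ((V * z.1 * U - 1) * V)) * (U * V) = z.1 * (U * V) :=
    fun z hz => by
      have := cP z hz
      simp only [Matrix.add_mul, Matrix.sub_mul, Matrix.mul_sub, Matrix.mul_assoc,
        ← Matrix.mul_assoc V U, VU, Matrix.one_mul] at this ⊢
      rw [← Matrix.mul_assoc U, ← Matrix.mul_assoc (U * V), cP z hz]
      simp only [Matrix.mul_assoc, ← Matrix.mul_assoc V U, VU, Matrix.one_mul]
      abel
  have e4 : ∀ z ∈ FixE (1 - D), ∃ g, embU U V VU g = z := fun z hz => by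
    have : 1 + U * ((V * z.1 * U - 1) * V) = z.1 := two_cancel h2 (by
      have k := e3 z (e2 z hz)
      have k' : (1 + U * ((V * z.1 * U - 1) * V)) * (1 - D) = 1 - D := by
        rw [Matrix.add_mul, Matrix.mul_assoc, Matrix.mul_assoc, VD]; simp
      generalize 1 + U * ((V * z.1 * U - 1) * V) = y at k k'
      linear_combination (norm := noncomm_ring) k + k + k' - hz.1 - y * UV + z.1 * UV)
    refine ⟨⟨V * z.1 * U, ?_⟩, Subtype.ext this⟩
    have k := (congrArg det this).trans z.2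
    rwa [det_one_add_mul_comm, Matrix.mul_assoc _ V, VU, Matrix.mul_one, add_sub_cancel] at k
  let π := QuotientGroup.mk' (center SL(n, F))
  let π' : C1 (tm F a b) →* C1 (tP F a b) := resC π (tm F a b)
  have hπ : Function.Surjective π' := by
    rintro ⟨x, hx⟩
    obtain ⟨x, rfl⟩ := QuotientGroup.mk_surjective x
    exact ⟨⟨x, mC1'.2 (lift_t h2 (by omega) lab.ne lab.ne (mC1'.1 hx))⟩, rfl⟩
  let φ := π'.comp ((embU U V VU).codRestrict _ fun g => e2 _ (e1 g))
  have r1 : ∀ x : C1 (tm F a b), x.1 ∈ FixE (1 - D) → π' x ∈ φ.range := fun x hx => by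
    obtain ⟨g, hg⟩ := e4 _ hx
    exact ⟨g, congrArg π' (Subtype.ext hg)⟩
  have r2 : ∀ x : C1 (tm F a b), x.1 ∈ FixE (1 + D) → π' x ∈ centralizer (φ.range : Set _) := by
    rintro x hx _ ⟨g, rfl⟩
    exact Subtype.ext (congrArg π (FixE.comm h2 hx (e1 g)).symm)
  refine ⟨φ, ⟨(injective_iff_map_eq_one _).2 fun g hg => ?_, ⟨?_⟩, S0248.result m (by omega),
    S0249.result m (by omega), fun z hz => mem_center_iff.2 fun x => ?_, ?_, scS m hm F hq,
    AL.aut_psl hq (by omega) (by omega), nab_psl h2 (by omega)⟩, fun c d => congrArg π (Subtype.ext ?_),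
    pm_tm, fun c d cd => ?_⟩
  · obtain ⟨r, -, hr⟩ := mk_eq_iff.1 (show ((1 : SL(n, F)) : ProjectiveSpecialLinearGroup (Fin n) F) =
      embU U V VU g from (congrArg Subtype.val hg).symm)
    have k := congrFun (congrFun (e1 g).1 a) a
    rw [hr, ← hD] at k
    have r1 : r = 1 := mul_right_cancel₀ h2 (by simpa [dm_apply, one_add_one_eq_two] using k)
    rw [r1, one_smul, coe_embU] at hr
    have := congrArg (fun x => V * x * U) hr
    simp only [Matrix.add_mul, Matrix.mul_add, Matrix.mul_assoc, ← Matrix.mul_assoc V U, VU,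
      Matrix.one_mul, Matrix.mul_one, SpecialLinearGroup.coe_one] at this
    exact Subtype.ext (by simpa [sub_eq_zero, VU] using this)
  · rintro _ ⟨g, rfl⟩ x
    obtain ⟨x, rfl⟩ := hπ x
    exact r1 (x * _ * x⁻¹) (FixE.conj (by rw [Matrix.mul_sub, Matrix.sub_mul, cu _ x.2]; simp) (e1 g))
  · obtain ⟨x, rfl⟩ := hπ x
    obtain ⟨r, -, hr⟩ := Matrix.SpecialLinearGroup.mem_center_iff.1 hz
    refine Subtype.ext (congrArg π (FixE.cen h2 (e1 z) (a := r) ?_ (cu _ x.2)))
    change (embU U V VU z).1 * _ = _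
    rw [← UV, coe_embU, ← hr, scalar_apply, ← smul_one_eq_diagonal]
    simp only [Matrix.add_mul, Matrix.mul_add, Matrix.mul_assoc, ← Matrix.mul_assoc V U, VU,
      Matrix.one_mul, Matrix.sub_mul, Matrix.mul_sub, Matrix.smul_mul, Matrix.mul_smul, smul_add]
    abel
  · rw [_root_.commutator_def, ← map_top_of_surjective π' hπ, ← map_commutator]
    rintro _ ⟨x, hx, rfl⟩
    have k : (prU U V VU cP x).det = 1 := congrArg Units.val
      (Abelianization.commutator_subset_ker (detMonoidHom.comp (prU U V VU cP)).toHomUnits hx)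
    let g : C1 (tm F a b) := ⟨embU U V VU ⟨_, k⟩, e2 _ (e1 _)⟩
    rw [← mul_inv_cancel_left g x, map_mul]
    refine mul_mem_sup (r1 g (e1 _)) (r2 _ ?_)
    have k1 : (g⁻¹ * x).1.1 * (U * V) = U * V := by
      change (g.1⁻¹).1 * x.1.1 * _ = _
      rw [Matrix.mul_assoc, ← e3 _ x.2, ← Matrix.mul_assoc]
      exact (congrArg (· * (U * V)) (sl_inv_mul g.1)).trans (Matrix.one_mul _)
    rw [← UV]
    exact ⟨by rw [Matrix.mul_add, k1], by rw [Matrix.add_mul, cP _ (g⁻¹ * x).2, k1]⟩
  · change 1 + U * ((dm F {c} * dm F {d} - 1) * V) = dm F {e c} * dm F {e d}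
    rw [dm, dm, dm, dm, ← diagonal_one, ← diagonal_one, diagonal_mul_diagonal, diagonal_mul_diagonal,
      diagonal_sub, dU, diagonal_add]
    congr 1
    funext i
    obtain ⟨c, rfl⟩ | h := cs i
    · simp [lab.inj.extend_apply, lab.inj.eq_iff]
    · have := not_exists.1 h.2
      simp [Function.extend_apply' _ _ _ h.2, fun c => Ne.symm (this c)]
  · have h4 := lab.nodup (l := [c, d]) (by simpa)
    simp only [List.map_cons, List.map_nil, List.nodup_cons, List.mem_cons, not_or,
      List.not_mem_nil, not_false_eq_true, and_true, List.nodup_nil] at h4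
    obtain ⟨w, w1, w2, w3⟩ := exists_sw (F := F) lab.ne
    obtain ⟨h, hh⟩ := pm_tm (F := F) (Equiv.swap a (e c) * Equiv.swap b (e d))
    have s1 : (Equiv.swap a (e c) * Equiv.swap b (e d)) a = e c := by
      simp [Equiv.swap_apply_def, h4]
    have s2 : (Equiv.swap a (e c) * Equiv.swap b (e d)) b = e d := by
      simp [Equiv.swap_apply_def, Ne.symm h4.1.2.2, Ne.symm h4.2.2]
    have w4 := (hh.mul w3).mul hh.inv
    rw [← Equiv.swap_apply_apply, s1, s2] at w4
    have w5 : h * w * h⁻¹ ∈ FixE (1 - D) := by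
      rw [← hD]
      refine FixE.mono h2 (S := {e c, e d}) (by simp [h4]) (FixE.conj ?_ w1)
      have := congrArg Subtype.val (show h * _ = _ * h from mul_inv_eq_iff_eq_mul.1 (hh a b))
      rw [s1, s2] at this
      change h.1 * (tm F a b).1 = (tm F _ _).1 * h.1 at this
      rw [coe_tm' lab.ne, coe_tm' h4.2.2] at this
      rw [Matrix.mul_add, Matrix.add_mul, this]; simp
    rw [hD] at w1
    have w6 : w ∈ C1 (tm F a b) := mC1'.2 (by rw [w3]; simp [tm_symm])
    have pp : ∀ {g σ}, Pm (tm F : Fin n → Fin n → SL(n, F)) g σ → Pm (tP F) (π g) σ :=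
      fun h r s => congrArg π (h r s)
    refine ⟨π (h * w * h⁻¹), π w, π h, ⟨_, r1 ⟨_, e2 _ w5⟩ w5, rfl⟩, ?_, (π' ⟨w, w6⟩).2,
      two_sup fr.two ?_ ?_, rfl, pp hh, fun k k1 k2 => by
        rw [pp w4, Equiv.swap_apply_left, Equiv.swap_apply_of_ne_of_ne k1 k2]⟩
    · rintro _ ⟨y, hy, rfl⟩
      exact congrArg Subtype.val (r2 ⟨w, w6⟩ w1 y hy)
    · rw [Set.insert_eq, Subgroup.closure_union, ← zpowers_eq_closure, ← zpowers_eq_closure]
      refine (pg_zpowers (k := 2) (by rw [← map_pow, conj_pow, w2]; simp)).to_sup_of_normal_right'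
        (pg_zpowers (k := 2) (by rw [← map_pow, w2, map_one])) (zpowers_le.2 (centralizer_le_normalizer _ ?_))
      rintro _ ⟨k, rfl⟩
      exact (Commute.zpow_left (show Commute (π w) (π (h * w * h⁻¹)) from
        congrArg π (FixE.comm h2 w1 w5)) k).eq
    · rintro _ (rfl | rfl)
      exacts [⟨_, pp w4⟩, ⟨_, pp w3⟩]

end Cfsg.Agent.H96.FL
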