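import Cfsg.Agent.H96.D4S
import Cfsg.Agent.H96.CpDefs
import Cfsg.Prelude.Def_LieTwisted

/-!
Saturated fusion systems over the Sylow subgroup `U C` of `³D₄(q)`: the interfaces between the parts
of the proof.
-/

set_option autoImplicit false

namespace Cfsg.Agent.H96.DF

open Cfsg.Agent.H97 Cfsg.Agent.H96.VB Cfsg.Agent.H96.CP Subgroup
open scoped commutatorElement

universe u

variable {F K : Type u} [Field F] [Field K] [Algebra F K] {C : Tri F K}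

/-! ### Part A: the essential subgroups -/

/-- The data of an essential subgroup `P` which is maximal among those different from `E` and `Q`. -/
structure Cd (p : ℕ) (P : Subgroup (U C)) (A B : Subgroup (MulAut P)) : Prop extends Cp p P A B where
  g1 : ∀ w ∈ W C, ∀ v ∈ Y C, Rel A w v → v ∈ W C
  hv : (∀ R, P < R → ∃ g ∈ R, NP g) → Iv B (W C) ∧ Iv B (Y C)

/-- All conjugates of `P` carry the data. -/
def Cq (p : ℕ) (P : Subgroup (U C)) : Prop :=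
  ∀ s : U C, ∃ A B, Cd p (P.map (MulAut.conj s).toMonoidHom) A B

theorem Cq.of_eq {p : ℕ} {P R : Subgroup (U C)} (h : Cq p P) (s : U C)
    (e : ∀ g, s * g * s⁻¹ ∈ R ↔ g ∈ P) : ∃ A B, Cd p R A B := by
  have : P.map (MulAut.conj s).toMonoidHom = R := by
    ext g
    rw [mem_map_aut, ← e]
    simp [mul_assoc]
  exact this ▸ h s

theorem Cq.ex {p : ℕ} {P : Subgroup (U C)} (h : Cq p P) : ∃ A B, Cd p P A B :=
  h.of_eq 1 fun g => by simp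

theorem Cq.of_conj {p : ℕ} {P R : Subgroup (U C)} (h : Cq p P) (s : U C)
    (e : ∀ g, s * g * s⁻¹ ∈ R ↔ g ∈ P) : Cq p R := fun k => h.of_eq (k * s) fun g => by
  rw [mem_map_aut, ← e]
  simp [mul_assoc]

/-- the conjugate `s P s⁻¹` -/
theorem Cq.conj {p : ℕ} {P : Subgroup (U C)} (h : Cq p P) (s : U C) :
    ∃ R : Subgroup (U C), Cq p R ∧ ∀ g, s * g * s⁻¹ ∈ R ↔ g ∈ P :=
  have e : ∀ g, s * g * s⁻¹ ∈ P.map (MulAut.conj s).toMonoidHom ↔ g ∈ P := fun _ =>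
    mem_map_iff_mem (f := (MulAut.conj s).toMonoidHom) (MulAut.conj s).injective
  ⟨_, h.of_conj s e, e⟩

/-- `g` is central in `P` -/
def Ce (P : Subgroup (U C)) (g : U C) : Prop := g ∈ P ∧ ∀ x ∈ P, g * x = x * g

/-- Elements outside `B` move `Y / W` off itself. -/
def JP0 (A B : Subgroup (MulAut (J' C))) : Prop :=
  ∀ α ∈ A, α ∉ B → ∀ y ∈ Y C, ext α y ∈ Y C → y ∈ W C

variable (p : ℕ) (C)

def G1Stmt : Prop := ∀ w ∈ W C, ∀ v ∈ Y C, Fc w v → v ∈ W C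

def CQStmt : Prop := ∀ P : Subgroup (U C), Cq p P → P ≤ Q C → P = Q C

def MOStmt : Prop := p ≠ 2 → ∀ P : Subgroup (U C), Cq p P → ∀ g ∈ P, g.t ≠ 0 → g.u ≠ 0 → False

def MTStmt : Prop := p = 2 → ∀ P : Subgroup (U C), Cq p P → ∀ g ∈ P, g.t ≠ 0 → g.u ≠ 0 → False

def E1OStmt : Prop := p ≠ 2 → ∀ P : Subgroup (U C), Cq p P → P ≤ E C → ¬ P ≤ Q C →
  (∀ g, Ce P g → g ∈ Y C) → P = E C ∨ Cq p (J' C)

def E1TStmt : Prop := p = 2 → ∀ P : Subgroup (U C), Cq p P → P ≤ E C → ¬ P ≤ Q C →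
  (∀ g, Ce P g → g * g = 1 → g ∈ Y C) → P = E C ∨ Cq p (J' C)

def E2Stmt : Prop := ∀ P : Subgroup (U C), Cq p P → P ≤ E C → ¬ P ≤ Q C →
  ∀ g, Ce P g → g ∉ Y C → ¬ NP g → (p = 2 → g * g = 1) → False

def E3Stmt : Prop := p ≠ 2 → ∀ P : Subgroup (U C), Cq p P → P ≤ E C → ∀ g, Ce P g → NP g → False

def JPaStmt : Prop := p ≠ 2 → ∀ A B, Cd p (J' C) A B → JP0 A B

def JPbStmt : Prop := p ≠ 2 → ∀ A B, Cd p (J' C) A B → JP0 A B → False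

def JPtStmt : Prop := p = 2 → ∀ A B, Cd p (J' C) A B → False

/-! ### Part B: automorphisms of `U C` and of `E` -/

structure ChS : Prop where
  q : ∀ β : MulAut (U C), ∀ g ∈ Q C, β g ∈ Q C
  e : ∀ β : MulAut (U C), ∀ g ∈ E C, β g ∈ E C
  j : ∀ β : MulAut (U C), ∀ g ∈ J C, β g ∈ J C
  y : ∀ β : MulAut (U C), ∀ g ∈ Y C, β g ∈ Y C
  w : ∀ β : MulAut (U C), ∀ g ∈ W C, β g ∈ W C
  z : ∀ β : MulAut (U C), ∀ g ∈ Z C, β g ∈ Z C
  ew : Ch (E C) (W C)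
  ey : Ch (E C) (Y C)
  qz : Ch (Q C) (Z C)
  np : ∀ g : U C, NP g ↔ g ∈ E C ∧ ∀ w ∈ W C, ∃ y ∈ Y C, ⁅g, y⁆ = w
  ce : centralizer (E C : Set (U C)) ≤ E C
  cq : centralizer (Q C : Set (U C)) ≤ Q C

/-- Linear maps preserving the norm, and a criterion for it. -/
structure Lin : Prop where
  gal : 2 < Nat.card F → ∀ A : K →ₗ[F] K, A 1 = 1 → (∀ t, C.N (A t) = C.N t) →
    ∃ θ : K ≃ₐ[F] K, ∀ t, A t = θ t
  nrm : (2 : F) ≠ 0 → ∀ (A B : K ≃ₗ[F] K) (c : F), (∀ s x, C.T (A s * B x) = c * C.T (s * x)) →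
    (∀ t, B (C.sh t) = C.sh (A t)) → ∃ m : F, ∀ t, C.N (A t) = m * C.N t

/-- `β` acts on `U C / J` like a member of `Λ`. -/
def Lam (β : MulAut (U C)) : Prop := ∃ c φ, ∀ g, (tor C c (fld C φ g))⁻¹ * β g ∈ J C

def AS1Stmt : Prop := 2 < Nat.card F → ∀ β : MulAut (U C), Lam C β

def AS2Stmt : Prop := Nat.card F = 2 → ∀ L : Subgroup (MulAut (U C)), Odd (Nat.card L) →
  ∃ β : MulAut (U C), ∀ l ∈ L, Lam C (β⁻¹ * l * β)

/-- A `p'`-group of diagonal and field automorphisms. -/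
def LL (L : Subgroup (MulAut (U C))) : Prop :=
  ∀ l ∈ L, ∃ c φ, l = tor C c * fld C φ ∧ ¬ p ∣ orderOf φ

def ASStmt : Prop := ∀ A : Subgroup (MulAut (U C)), (∀ s, MulAut.conj s ∈ A) →
  ¬ p ∣ (MulAut.conj : U C →* MulAut (U C)).range.relIndex A →
  ∃ (β : MulAut (U C)) (L : Subgroup (MulAut (U C))), LL C p L ∧
    ∀ γ, β * γ * β⁻¹ ∈ A ↔ ∃ s, ∃ l ∈ L, γ = MulAut.conj s * l

/-- the element of `W` with coordinates `a`, `z` -/
def xw (a z : F) : U C := ⟨0, 0, 0, 0, a, z⟩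

/-- Automorphisms of `E` are semilinear on `W`. -/
def AE1Stmt : Prop := ∀ α : MulAut (E C), ∃ φ : RingAut F, ∃ a b c d : F, a * d ≠ b * c ∧ ∀ s t,
  ext α (xw C s t) = xw C (a * φ s + b * φ t) (c * φ s + d * φ t)

variable {C}

/-- `α` is trivial on `Y / W`. -/
def TrY (α : MulAut (E C)) : Prop := ∀ y ∈ Y C, y⁻¹ * ext α y ∈ W C

/-- `n` acts on `W` and `Y / W` as `wb`. -/
def SwE (n : MulAut (E C)) : Prop := TrY n ∧ ∀ w ∈ W C, ext n w = wb w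

/-- The members of `A` acting trivially on `W` and `Y / W` are inner. -/
def KerE (A : Subgroup (MulAut (E C))) : Prop :=
  ∀ α ∈ A, TrY α → (∀ w ∈ W C, ext α w = w) → ∃ e ∈ E C, Cj α e

/-- `α` acts on `V` as `f`. -/
def Ac (α : MulAut (Q C)) (f : V F K → V F K) : Prop := ∀ g ∈ Q C, br (ext α g) = f (br g)

/-- The members of `A` acting trivially on `V` are inner. -/
def KerQ (A : Subgroup (MulAut (Q C))) : Prop := ∀ α ∈ A, Ac α id → ∃ e ∈ Q C, Cj α e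

variable (C)

def AEStmt : Prop := ∀ A : Subgroup (MulAut (E C)), LA p (E C) A → KerE A ∧
  (∀ n ∈ A, SwE n → Bru A n) ∧
  ((∃ α ∈ A, ¬ Nm α) → (∃ n ∈ A, SwE n) ∧ ∀ c : Fˣ, ∃ δ ∈ A, Nm δ ∧ TrY δ ∧
    ∀ w ∈ W C, ext δ w = tor C (hb c) w)

/-! ### Part B: automorphisms of `Q` -/

/-- Automorphisms of `Q` are semilinear on `V`. -/
def AQ1Stmt : Prop := ∀ α : MulAut (Q C), ∃ (φ : RingAut F) (m : F) (f : V F K ≃+ V F K), m ≠ 0 ∧
  (∀ z, ext α (xz C z) = xz C (m * φ z)) ∧ (∀ (c : F) v, f (c • v) = φ c • f v) ∧ Ac α f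

/-- `d` normalizes the group of the `ρ t`. -/
def NV (d : V F K ≃ₗ[F] V F K) : Prop := ∀ t, ∃ s, d * ρ C t * d⁻¹ = ρ C s

/-- The linear group induced on `V` by the automorphisms acting as `±1` on `Z`. -/
structure DV (D : Subgroup (V F K ≃ₗ[F] V F K)) : Prop where
  rho : ∀ t, ρ C t ∈ D
  form : ∀ d ∈ D, ∃ ε : F, ε * ε = 1 ∧ ∀ v w, om C (d v) (d w) = ε * om C v w
  quad : p = 2 → ∀ d ∈ D, ∀ v, qf C (d v) = qf C v
  ti : ∀ d ∈ D, ∀ t s, t ≠ 0 → d * ρ C t * d⁻¹ = ρ C s → NV C d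
  nm : ∀ d ∈ D, NV C d → ∃ t c θ, d = ρ C t * (torV C c * galV θ) ∧
    (C.N c.1 * (c.2 : F) ^ 2) ^ 2 = 1 ∧ (p = 3 → θ = 1)
  syl : ∀ M ≤ D, IsPGroup p M → (∀ t, ρ C t ∈ M) → ∀ d ∈ M, ∃ t, d = ρ C t
  three : Nat.card F = 3 → torV C (-1, 1) ∈ D

/-- The orbit of the line `F e0`. -/
def Orb (D : Subgroup (V F K ≃ₗ[F] V F K)) : Prop :=
  ∀ d ∈ D, NV C d ∨ ∃ t, ∃ c : F, d e0 = c • ρ C t e3

/-- `n` interchanges opposite root spaces. -/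
def Swp (n : V F K ≃ₗ[F] V F K) : Prop := (∃ c : F, n e0 = c • e3) ∧ (∃ c : F, n e3 = c • e0) ∧
  (∀ k, ∃ l, n (0, k, 0, 0) = (0, 0, l, 0)) ∧ ∀ k, ∃ l, n (0, 0, k, 0) = (0, l, 0, 0)

def AqvStmt : Prop := ∀ D, DV C p D → (∃ d ∈ D, ¬ NV C d) → Orb C D ∧ ∃ n ∈ D, Swp n

def AqTStmt : Prop := p = 2 → AqvStmt C p

/-- `F`-multilinear forms in four variables -/
structure ML4 (m : V F K → V F K → V F K → V F K → F) : Prop where
  l1 : ∀ b c d, IsLinearMap F fun v => m v b c d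
  l2 : ∀ a c d, IsLinearMap F fun v => m a v c d
  l3 : ∀ a b d, IsLinearMap F fun v => m a b v d
  l4 : ∀ a b c, IsLinearMap F fun v => m a b c v

/-- The properties of the invariant form `kap`. -/
structure Kap : Prop where
  ml : ML4 (kap C)
  rho : ∀ t a b c d, kap C (ρ C t a) (ρ C t b) (ρ C t c) (ρ C t d) = kap C a b c d
  tor : ∀ k a b c d, kap C (torV C k a) (torV C k b) (torV C k c) (torV C k d) =
    (C.N k.1 * (k.2 : F) ^ 2) ^ 2 * kap C a b c d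
  gal : ∀ (θ : K ≃ₐ[F] K) a b c d, kap C (galV θ a) (galV θ b) (galV θ c) (galV θ d) = kap C a b c d
  diag : (3 : F) = 0 → ∀ v, kap C v v v v = 0
  e0 : ∀ w, kap C e0 e0 w w = 2 * om C e0 w ^ 2
  crit : (2 : F) ≠ 0 → ∀ (c : F) v, (∀ w, kap C v v w w + c * v.2.2.2 ^ 2 * w.2.2.2 ^ 2 =
    2 * om C v w ^ 2) → (∃ a : F, v = a • DF.e0) ∨ (c = 0 ∧ ∃ t, ∃ a : F, v = a • ρ C t e3)
  tan0 : (2 : F) ≠ 0 → ∀ v, (∀ w, kap C DF.e0 v w w = 2 * om C DF.e0 w * om C v w) ↔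
    v.2.2.1 = 0 ∧ v.2.2.2 = 0
  tan3 : (2 : F) ≠ 0 → ∀ v, (∀ w, kap C e3 v w w = 2 * om C e3 w * om C v w) ↔ v.1 = 0 ∧ v.2.1 = 0

/-- the corrected form -/
def kc (k : F) (a b c d : V F K) : F := kap C a b c d + k * (a.2.2.2 * b.2.2.2 * c.2.2.2 * d.2.2.2)

/-- `D` preserves a corrected form. -/
def KInv (D : Subgroup (V F K ≃ₗ[F] V F K)) : Prop :=
  ∃ k : F, ∀ g ∈ D, ∀ a b c d, kc C k (g a) (g b) (g c) (g d) = kc C k a b c d

def AqKStmt : Prop := p ≠ 2 → ∀ D, DV C p D → KInv C D → (∃ d ∈ D, ¬ NV C d) →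
  Orb C D ∧ ∃ n ∈ D, Swp n

/-- The trace of a multilinear form. -/
def TrcStmt : Prop := 4 < Nat.card F → ∀ m : V F K → V F K → V F K → V F K → F, ML4 m → ∃ k : F,
  ∀ a b c d, ∑ᶠ t, m (ρ C t a) (ρ C t b) (ρ C t c) (ρ C t d) =
    k * (a.2.2.2 * b.2.2.2 * c.2.2.2 * d.2.2.2)

/-- `kap` plus traces of conjugates is invariant. -/
def Tk (D : Subgroup (V F K ≃ₗ[F] V F K)) (m : V F K → V F K → V F K → V F K → F) : Prop :=
  (∃ I : Finset (V F K ≃ₗ[F] V F K), ∀ a b c d, m a b c d =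
    ∑ g ∈ I, ∑ᶠ t, kap C (g (ρ C t a)) (g (ρ C t b)) (g (ρ C t c)) (g (ρ C t d))) ∧
  ∀ g ∈ D, ∀ a b c d, kap C (g a) (g b) (g c) (g d) + m (g a) (g b) (g c) (g d) =
    kap C a b c d + m a b c d

def TkStmt : Prop := ∀ D, DV C p D → ∃ m, Tk C D m

def Inv5Stmt : Prop := 4 < Nat.card F → ∀ D, DV C p D → KInv C D

/-- `q = 3`: the torus contains an element of order `13`. -/
def T13Stmt : Prop := Nat.card F = 3 → ∀ D, DV C p D → (∃ d ∈ D, ¬ NV C d) →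
  ∃ l : Kˣ, orderOf l = 13 ∧ torV C (l, 1) ∈ D

def Inv3Stmt : Prop := Nat.card F = 3 → ∀ D, DV C p D → (∃ l : Kˣ, orderOf l = 13 ∧ torV C (l, 1) ∈ D) →
  KInv C D

def AqeStmt : Prop := ∀ D, DV C p D → Orb C D → (∃ n ∈ D, Swp n) →
  wV ∈ D ∧ ∀ n, torV C (ha C n) ∈ D

/-- The shape of the automizer of `U C`. -/
def Top (A L : Subgroup (MulAut (U C))) : Prop :=
  LL C p L ∧ ∀ γ, γ ∈ A ↔ ∃ s, ∃ l ∈ L, γ = MulAut.conj s * l

def AQStmt : Prop := ∀ (B L : Subgroup (MulAut (U C))) (A : Subgroup (MulAut (Q C))), Top C p B L →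
  LB p B (Q C) A → TI A → (Nat.card F = 3 → tor C (-1, 1) ∈ L) → KerQ A ∧
  (∀ n ∈ A, Ac n wV → Bru A n) ∧
  ((∃ α ∈ A, ¬ Nm α) → (∃ n ∈ A, Ac n wV) ∧ ∀ n : Kˣ, ∃ δ ∈ A, Nm δ ∧ Ac δ (torV C (ha C n)))

/-! ### Rigidity and the realizing group -/

/-- The whole torus lies in `L`. -/
def Rig1Stmt : Prop := ∀ (B L : Subgroup (MulAut (U C))) (AQ : Subgroup (MulAut (Q C)))
  (AE : Subgroup (MulAut (E C))), Top C p B L → LB p B (Q C) AQ → TI AQ → LB p B (E C) AE →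
  (∃ α ∈ AQ, ¬ Nm α) → (∃ α ∈ AE, ¬ Nm α) → ∀ c, tor C c ∈ L

def RigQStmt : Prop := ∀ (B : Subgroup (MulAut (U C))) (A : Subgroup (MulAut (Q C))),
  (∀ c, tor C c ∈ B) → LB p B (Q C) A → KerQ A → (∃ n ∈ A, Ac n wV) →
  ∃ n ∈ A, ∀ g ∈ Q C, ext n g = wa g

def RigEStmt : Prop := ∀ (B : Subgroup (MulAut (U C))) (A : Subgroup (MulAut (E C))),
  (∀ c, tor C c ∈ B) → LB p B (E C) A → KerE A → (∃ n ∈ A, SwE n) →
  ∃ n ∈ A, ∀ g ∈ E C, ext n g = wb g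

/-- A frame for `U C` in a group `X`, with the field automorphisms in `Φ` induced by `X`. -/
structure Fr (Φ : Subgroup (RingAut K)) {X : Type u} [Group X] (ι : U C →* X) : Prop where
  inj : Function.Injective ι
  idx : ¬ p ∣ ι.range.index
  nor : ∀ g ∈ normalizer (ι.range : Set X), ∃ s c, ∃ φ ∈ Φ, ∀ v,
    g * ι v * g⁻¹ = ι (s * tor C c (fld C φ v) * s⁻¹)
  tf : ∀ c, ∀ φ ∈ Φ, ∃ g, ∀ v, g * ι v * g⁻¹ = ι (tor C c (fld C φ v))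
  ga : ∃ g, ∀ v ∈ Q C, g * ι v * g⁻¹ = ι (wa v)
  gb : ∃ g, ∀ v ∈ E C, g * ι v * g⁻¹ = ι (wb v)

/-- The field automorphisms extend to `X`. -/
def Fld {X : Type u} [Group X] (ι : U C →* X) : Prop :=
  ∃ ψ : RingAut K →* MulAut X, ∀ φ v, ψ φ (ι v) = ι (fld C φ v)

def RealStmt : Prop := ∀ (X : Type u) [Group X] [Finite X] (ι : U C →* X), Fr C p ⊥ ι → Fld C ι →
  ∀ Φ : Subgroup (RingAut K), ¬ p ∣ Nat.card Φ →
  ∃ (G : Type u) (_ : Group G) (_ : Finite G) (j : U C →* G), Fr C p Φ j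

def ModelStmt : Prop := ∀ (K : Type u) [Field K] [Fintype K] (p : ℕ) [Fact p.Prime] [CharP K p] (n : ℕ),
  1 ≤ n → Fintype.card K = (p ^ n) ^ 3 →
  ∃ (F : Type u) (_ : Field F) (_ : Algebra F K) (C : Tri F K)
    (ι : U C →* Lie.twistedD4 K (p ^ n)), Fr C p ⊥ ι ∧ Fld C ι

end Cfsg.Agent.H96.DF
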