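import Cfsg.Agent.Lead.PcDefs

/-! Project PL, piece Ord. -/

set_option autoImplicit false

namespace Cfsg.Agent.H96.PlOrd

open Subgroup Cfsg.Agent.Lead.Pc

universe u

theorem key {G : Type u} [Group G] {N : Subgroup G} (hN : N.Normal) (cp : CP G) {x y : G}
    (hx : x ∉ N) (h : ∀ n : ℕ, x ^ n ∈ N ↔ y ^ n ∈ N) {a b : ℕ} (ha : orderOf x = 2 ^ a)
    (hb : orderOf y = 2 ^ b) : a ≤ b := by
  classical
  by_contra c
  obtain ⟨d, rfl⟩ := Nat.exists_eq_add_of_lt (not_le.1 c)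
  have x1 : x ^ 2 ^ (b + d + 1) = 1 := by rw [← ha, pow_orderOf_eq_one]
  have o : orderOf y = orderOf (x ^ 2 ^ (d + 1)) := by
    rw [orderOf_pow_of_dvd (by positivity) (by rw [ha]; exact pow_dvd_pow 2 (by omega)), ha, hb,
      add_assoc, pow_add, Nat.mul_div_cancel _ (by positivity)]
  obtain ⟨g, j, hj⟩ := cp (x ^ 2 ^ (d + 1)) y
    ⟨b, by rw [← pow_mul, ← pow_add, add_comm, ← add_assoc, x1]⟩ o
  have ex : ∃ n, x ^ 2 ^ n ∈ N := ⟨_, by rw [x1]; exact one_mem _⟩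
  have h1 := Nat.find_spec ex
  have h2 := fun m => Nat.find_min ex (m := m)
  generalize Nat.find ex = n at h1 h2
  rcases n with _ | m
  · exact hx (by simpa using h1)
  refine h2 m (Nat.lt_succ_self m) ((h _).2 ?_)
  have e : y ^ 2 ^ m = g⁻¹ * ((x ^ 2 ^ (m + 1)) ^ 2 ^ d) ^ j * g⁻¹⁻¹ := by
    have e1 : (x ^ 2 ^ (m + 1)) ^ 2 ^ d = (x ^ 2 ^ (d + 1)) ^ 2 ^ m := by
      rw [← pow_mul, ← pow_mul, ← pow_add, ← pow_add]; congr 2; omega
    have e2 : (x ^ 2 ^ (d + 1)) ^ j = g * y * g⁻¹ := hj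
    rw [e1, ← zpow_natCast (x ^ 2 ^ (d + 1)), ← zpow_mul, mul_comm _ j, zpow_mul, e2, zpow_natCast,
      conj_pow]
    group
  rw [e]
  exact hN.conj_mem _ (zpow_mem (pow_mem h1 _) j) _

theorem ord : OrdStmt.{u} := by
  intro G _ _ N hN cp x y ⟨k, hk⟩ ⟨l, hl⟩ hx h
  obtain ⟨a, -, ha⟩ := (Nat.dvd_prime_pow Nat.prime_two).1 (orderOf_dvd_of_pow_eq_one hk)
  obtain ⟨b, -, hb⟩ := (Nat.dvd_prime_pow Nat.prime_two).1 (orderOf_dvd_of_pow_eq_one hl)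
  have hy : y ∉ N := fun c => hx (by simpa using (h 1).2 (by simpa using c))
  rw [ha, hb, le_antisymm (key hN cp hx h ha hb) (key hN cp hy (fun n => (h n).symm) hb ha)]

end Cfsg.Agent.H96.PlOrd
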