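import Mathlib
import Cfsg.Agent.H96.OffG
import Cfsg.Agent.H67.Conj

/-! Pairs of abelian essential subgroups. -/

set_option autoImplicit false

namespace Cfsg.Agent.H96

open Subgroup H8 H62 H82
open scoped Pointwise

variable {G : Type*} [Group G]

local notation "N[" H "]" => normalizer ((H : Subgroup G) : Set G)
local notation "C[" H "]" => centralizer ((H : Subgroup G) : Set G)

/-- An abelian essential subgroup. -/
structure AE (S E : Subgroup G) : Prop where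
  two : IsPGroup 2 S
  ess : H7.Ess 2 S E
  comm : IsMulCommutative E

namespace AE

variable {S E E' : Subgroup G} (h : AE S E)
include h

theorem le : E ≤ S := h.ess.le

theorem c {x y : G} (hx : x ∈ E) (hy : y ∈ E) : x * y = y * x := (H7.commute_of_mem h.comm hx hy).eq

theorem mem_cent {t : G} (ht : t ∈ S) : t ∈ C[E] ↔ t ∈ E :=
  ⟨fun e => h.ess.cent ⟨ht, e⟩, fun e _ hx => h.c hx e⟩

theorem eq_of_le (h' : AE S E') (hle : E ≤ E') : E = E' :=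
  le_antisymm hle fun _ hx => (h.mem_cent (h'.le hx)).mp fun _ hy => h'.c (hle hy) hx

theorem conj {y : G} (hy : y ∈ N[S]) : AE S (MulAut.conj y • E) :=
  ⟨h.two, h.ess.conj hy, H7.isMulCommutative_of_forall fun a ha b hb => by
    have := h.c (mem_conj_smul.mp ha) (mem_conj_smul.mp hb)
    calc a * b = y * (y⁻¹ * a * y * (y⁻¹ * b * y)) * y⁻¹ := by group
      _ = _ := by rw [this]; group⟩

theorem exists_loc [Finite G] : ∃ M, Loc N[E] E M ∧ S ⊓ N[E] ≤ M := by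
  obtain ⟨M, h1, h2, h3, h4⟩ := h.ess.spe
  have h5 : E ≤ M := (le_inf h.le le_normalizer).trans h2
  refine ⟨M, ⟨le_rfl, h.comm, h.two.to_le h.le, h3.le, h3.not_ge, inf_le_right.trans h1,
    fun g hg t ht t2 t1 e => h4 g hg (E ⊔ zpowers t) (IsPGroup.to_sup_of_normal_left'
      (h.two.to_le h.le) t2.isPGroup_zpowers (zpowers_le.mpr (h3.le ht))) (lt_of_le_not_ge le_sup_left
      fun hle => t1 fun x hx => h.c hx (hle (mem_sup_right (mem_zpowers t))))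
      (sup_le h5 (zpowers_le.mpr ht)) ?_⟩, h2⟩
  rw [smul_sup, mem_normalizer_iff_conj_smul_eq.mp hg, ← H67.cj_eq_smul, H67.cj_zpowers]
  exact sup_le h5 (zpowers_le.mpr e)

end AE

/-- Two abelian essential subgroups normalizing each other, `F` an offender on `E`. -/
structure Blk (S E F M : Subgroup G) : Prop where
  aE : AE S E
  aF : AE S F
  FN : F ≤ N[E]
  EN : E ≤ N[F]
  ne : E ≠ F
  loc : Loc N[E] E M
  PM : S ⊓ N[E] ≤ M
  off : OffG E F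

theorem exists_blk [Finite G] {S E F : Subgroup G} (aE : AE S E) (aF : AE S F) (FN : F ≤ N[E])
    (EN : E ≤ N[F]) (ne : E ≠ F) (hc : Nat.card E ≤ Nat.card F) : ∃ M, Blk S E F M := by
  obtain ⟨M, h1, h2⟩ := aE.exists_loc
  have key : ∀ {E F : Subgroup G}, AE S E → AE S F → C[F].relIndex E = F.relIndex E := fun aE aF => by
    refine (inf_relIndex_right _ _).symm.trans (Eq.trans ?_ (inf_relIndex_right _ _))
    congr 1
    ext x
    exact and_congr_left fun hx => aF.mem_cent (aE.le hx)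
  refine ⟨M, aE, aF, FN, EN, ne, h1, h2, aF.two.to_le aF.le, fun hle => ne (aF.eq_of_le aE
    fun x hx => (aE.mem_cent (aF.le hx)).mp (hle hx)).symm, fun f hf w hw _ hx => aF.c hx ?_, ?_⟩
  · rw [mul_assoc, mul_assoc, ← mul_assoc w]
    exact F.mul_mem hf (conj_mem_of_norm (EN hw) (F.inv_mem hf))
  · rw [key aE aF, key aF aE]
    rw [← H7.card_inf_mul_relIndex F E, ← H7.card_inf_mul_relIndex E F, inf_comm] at hc
    exact Nat.le_of_mul_le_mul_left hc Nat.card_pos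

namespace Blk

variable [Finite G] {S E F M M' E' : Subgroup G} (h : Blk S E F M)
include h

theorem FM : F ≤ M := (le_inf h.aF.le h.FN).trans h.PM

theorem exists_g : ∃ g ∈ N[E], g ∉ M := SetLike.not_le_iff_exists.mp h.loc.ne

theorem exists_f : ∃ f ∈ F, f ∉ E :=
  SetLike.not_le_iff_exists.mp fun hle => h.ne (h.aF.eq_of_le h.aE hle).symm

theorem exists_e : ∃ e ∈ E, e ∉ F :=
  SetLike.not_le_iff_exists.mp fun hle => h.ne (h.aE.eq_of_le h.aF hle)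

theorem dec {p : G} (hp : p ∈ S) (hpN : p ∈ N[E]) : ∃ f ∈ F, ∃ e ∈ E, p = f * e := by
  obtain ⟨f, hf, e⟩ := h.loc.le_of_two h.off h.FM (h.aE.two.to_le inf_le_left)
    (le_inf h.aF.le h.FN) h.PM ⟨hp, hpN⟩
  exact ⟨f, hf, _, (h.aE.mem_cent (S.mul_mem (S.inv_mem (h.aF.le hf)) hp)).mp e, by simp⟩

theorem normF {p : G} (hp : p ∈ S) (hpN : p ∈ N[E]) : p ∈ N[F] := by
  obtain ⟨f, hf, e, he, rfl⟩ := h.dec hp hpN
  exact mul_mem (le_normalizer hf) (h.EN he)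

theorem cent {p d : G} (hp : p ∈ S) (hpN : p ∈ N[E]) (hE : d ∈ E) (hF : d ∈ F) : p * d = d * p := by
  obtain ⟨f, hf, e, he, rfl⟩ := h.dec hp hpN
  rw [mul_assoc, h.aE.c he hE, ← mul_assoc, h.aF.c hf hF, mul_assoc]

theorem brE {p e : G} (hpN : p ∈ N[E]) (he : e ∈ E) : p * e * p⁻¹ * e⁻¹ ∈ E :=
  E.mul_mem (conj_mem_of_norm hpN he) (E.inv_mem he)

theorem br_eq {f a e : G} (ha : a ∈ E) (he : e ∈ E) :
    f * a * e * (f * a)⁻¹ * e⁻¹ = f * e * f⁻¹ * e⁻¹ := by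
  rw [mul_assoc f, h.aE.c ha he]; group

theorem brF {p e : G} (hp : p ∈ S) (hpN : p ∈ N[E]) (he : e ∈ E) : p * e * p⁻¹ * e⁻¹ ∈ F := by
  obtain ⟨f, hf, a, ha, rfl⟩ := h.dec hp hpN
  rw [h.br_eq ha he, mul_assoc, mul_assoc, ← mul_assoc e]
  exact F.mul_mem hf (conj_mem_of_norm (h.EN he) (F.inv_mem hf))

theorem inj {g p e : G} (hg : g ∈ N[E]) (hgM : g ∉ M) (hp : p ∈ S) (hpN : p ∈ N[E]) (hpE : p ∉ E)
    (he : e ∈ E) (hF : g⁻¹ * (p * e * p⁻¹ * e⁻¹) * g ∈ F) : e ∈ F := by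
  obtain ⟨f, hf, a, ha, rfl⟩ := h.dec hp hpN
  rw [h.br_eq ha he] at hF
  exact (h.aF.mem_cent (h.aE.le he)).mp (h.loc.inj h.off h.FM hg hgM hf (fun e => hpE (E.mul_mem
    ((h.aE.mem_cent (h.aF.le hf)).mp e) ha)) he fun _ hx => h.aF.c hx hF)

theorem half {e : G} (he : e ∈ E) : ∃ d ∈ E, d ∈ F ∧ e * e = d * d := by
  obtain ⟨d, hd, h1, h2⟩ := h.loc.half h.off h.FM he
  exact ⟨d, hd, (h.aF.mem_cent (h.aE.le hd)).mp h1, h2⟩

theorem inj_sq {p e d : G} (hp : p ∈ S) (hpN : p ∈ N[E]) (hpE : p ∉ E) (he : e ∈ E) (hd : d ∈ E)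
    (hsq : p * e * p⁻¹ * e⁻¹ = d * d) : e ∈ F := by
  obtain ⟨g, hg, hgM⟩ := h.exists_g
  obtain ⟨c, -, h1, h2⟩ := h.half (conj_mem_of_norm' hg hd)
  refine h.inj hg hgM hp hpN hpE he ?_
  rw [hsq, show g⁻¹ * (d * d) * g = g⁻¹ * d * g * (g⁻¹ * d * g) by group, h2]
  exact F.mul_mem h1 h1

theorem exists_invol {e : G} (he : e ∈ E) : ∃ u ∈ E, u * u = 1 ∧ u⁻¹ * e ∈ F := by
  obtain ⟨d, hd, h1, h2⟩ := h.half he
  refine ⟨e * d⁻¹, E.mul_mem he (E.inv_mem hd), ?_, by simpa using h1⟩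
  rw [mul_assoc, ← mul_assoc d⁻¹, h.aE.c (E.inv_mem hd) he, ← mul_assoc, ← mul_assoc, h2]; group

theorem cE {e y : G} (he : e ∈ E) (heF : e ∉ F) (hy : y ∈ S) (hc : y * e = e * y) : y ∈ E := by
  by_contra hne
  obtain ⟨p, hp, hpE⟩ := SetLike.exists_of_lt (lt_inf_normalizer_of_lt
    (h.aE.two.to_le (inf_le_left (b := centralizer {e}))) (lt_of_le_not_ge (le_inf h.aE.le
    fun x hx => mem_cent1.mpr (h.aE.c hx he)) fun hle => hne (hle ⟨hy, mem_cent1.mpr hc⟩)))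
  exact heF (h.inj_sq hp.1.1 hp.2 hpE he E.one_mem (by rw [mem_cent1.mp hp.1.2]; simp))

theorem eq_of_mem (h' : AE S E') {e : G} (he : e ∈ E) (heF : e ∉ F) (he' : e ∈ E') : E' = E :=
  h'.eq_of_le h.aE fun _ hx => h.cE he heF (h'.le hx) (h'.c hx he')

theorem conj_comm {e p : G} (he : e ∈ E) (heF : e ∉ F) (hp : p ∈ S)
    (hc : p * e * p⁻¹ * e = e * (p * e * p⁻¹)) : p ∈ N[E] := by
  have h1 := h.cE he heF (S.mul_mem (S.mul_mem hp (h.aE.le he)) (S.inv_mem hp)) hc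
  refine inv_mem_iff.mp (mem_normalizer_of_forall fun a ha => h.cE he heF
    (S.mul_mem (S.mul_mem (S.inv_mem hp) (h.aE.le ha)) (S.inv_mem (S.inv_mem hp))) ?_)
  calc _ = p⁻¹ * (a * (p * e * p⁻¹)) * p := by group
    _ = _ := by rw [h.aE.c ha h1]; group

theorem conj_memF {k d : G} (hk : k ∈ M) (hE : d ∈ E) (hF : d ∈ F) : k⁻¹ * d * k ∈ F := by
  refine (h.aF.mem_cent (h.aE.le (conj_mem_of_norm' (h.loc.le hk) hE))).mp fun f hf => ?_
  obtain ⟨a, ha, e⟩ := h.loc.conj_mem h.off h.FM hk hf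
  calc _ = k⁻¹ * a * (a⁻¹ * (k * f * k⁻¹) * d) * k := by group
    _ = k⁻¹ * (a * d) * (a⁻¹ * (k * f * k⁻¹)) * k := by rw [← e d hE]; group
    _ = _ := by rw [h.aF.c ha hF]; group

theorem rad {g k d : G} (hg : g ∈ N[E]) (hgM : g ∉ M) (hk : k ∈ N[E]) (hE : d ∈ E) (hF : d ∈ F)
    (e : g⁻¹ * d * g ∈ F) : k⁻¹ * d * k ∈ F := by
  by_cases hkM : k ∈ M
  · exact h.conj_memF hkM hE hF
  obtain ⟨a, ha, h1⟩ := h.loc.trans h.off h.FM hg hgM hk hkM
  have := h.conj_memF (M.inv_mem h1) (conj_mem_of_norm' hg hE) e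
  rwa [show (k⁻¹ * (a * g))⁻¹⁻¹ * (g⁻¹ * d * g) * (k⁻¹ * (a * g))⁻¹ = k⁻¹ * (a * d) * a⁻¹ * k by group,
    h.aF.c ha hF, mul_assoc _ (d * a), mul_inv_cancel_right] at this

theorem nrm {k : G} (hk : k ∈ M) :
    ∃ n ∈ N[S ⊓ N[E]], n ∈ N[E] ∧ ∀ e ∈ E, k * e * k⁻¹ = n * e * n⁻¹ := by
  have h1 : S ⊓ N[E] ≤ N[C[E]] := inf_le_right.trans (H7.normalizer_le_normalizer_centralizer E)
  have h2 : k ∈ N[S ⊓ N[E] ⊔ C[E]] := by
    refine mem_normalizer_of_conj_smul_le ?_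
    rw [smul_sup, mem_normalizer_iff_conj_smul_eq.mp
      (H7.normalizer_le_normalizer_centralizer E (h.loc.le hk))]
    refine sup_le (fun x hx => ?_) le_sup_right
    have hx := mem_conj_smul.mp hx
    obtain ⟨f, hf, e, he, h3⟩ := h.dec hx.1 hx.2
    obtain ⟨a, ha, h4⟩ := h.loc.conj_mem h.off h.FM hk hf
    have h5 := conj_mem_of_norm (h.loc.le hk) he
    rw [show x = a * (a⁻¹ * (k * f * k⁻¹)) * (k * e * k⁻¹) by
      rw [mul_inv_cancel_left, conj_mul, ← h3]; group]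
    exact mul_mem (mul_mem (mem_sup_left ⟨h.aF.le ha, h.FN ha⟩) (mem_sup_right h4))
      (mem_sup_left ⟨h.aE.le h5, le_normalizer h5⟩)
  obtain ⟨y, hy, n, hn, rfl⟩ := (h.aE.ess.syl.mono le_sup_left
    (sup_le inf_le_right (centralizer_le_normalizer _))).frattini h2
  obtain ⟨p, hp, c, hc, rfl⟩ := (H67.mem_sup_of_le_normalizer h1).mp hy
  have h3 : n ∈ N[E] := (mul_mem_cancel_left (N[E].mul_mem hp.2 (centralizer_le_normalizer _ hc))).mp
    (h.loc.le hk)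
  refine ⟨p * n, mul_mem (le_normalizer hp) hn, mul_mem hp.2 h3, fun e he => ?_⟩
  calc _ = p * (c * (n * e * n⁻¹)) * c⁻¹ * p⁻¹ := by group
    _ = _ := by rw [← hc _ (conj_mem_of_norm h3 he)]; group

theorem fus {g : G} (hg : g ∈ N[E]) (hgM : g ∉ M) :
    ∃ k ∈ N[E], k ∉ M ∧ ∃ t ∈ F, ∃ n ∈ M, g = k * t * k⁻¹ * n := by
  obtain ⟨f, hf, hfE⟩ := h.exists_f
  have h1 := mul_mem (h.FN hf) hg
  have h2 : f * g ∉ M := by rwa [mul_mem_cancel_left (h.FM hf)]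
  obtain ⟨a, ha, e⟩ := h.loc.trans h.off h.FM (inv_mem h1) (by rwa [inv_mem_iff])
    (mul_mem (inv_mem h1) hg) fun e => hgM (inv_mem_iff.mp (h.loc.se _ (inv_mem hg) f (h.FM hf)
      (is2_of_mem h.off.two hf) (mt (h.aE.mem_cent (h.aF.le hf)).mp hfE)
      (by simpa [mul_assoc] using M.inv_mem e)))
  exact ⟨_, h1, h2, a, ha, _, M.inv_mem e, by group⟩

variable (h' : Blk S F E M')
include h'

theorem mem_or {x d : G} (hx : x ∈ S) (hxN : x ∈ N[E]) (hE : d ∈ E) (hF : d ∈ F)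
    (hsq : x * x = d * d) : x ∈ E ∨ x ∈ F := by
  obtain ⟨f, hf, e, he, rfl⟩ := h.dec hx hxN
  by_cases hfE : f ∈ E
  · exact .inl (E.mul_mem hfE he)
  obtain ⟨a, ha, ha', h1⟩ := h.half he
  obtain ⟨b, hb', hb, h2⟩ := h'.half hf
  refine .inr (F.mul_mem hf (h.inj_sq (S.inv_mem (h.aF.le hf)) (inv_mem (h.FN hf))
    (by rwa [inv_mem_iff]) he (E.mul_mem (E.mul_mem (E.inv_mem hb) hE) (E.inv_mem ha)) ?_))
  calc _ = (f * f)⁻¹ * (f * e * (f * e)) * (e * e)⁻¹ := by group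
    _ = b⁻¹ * ((b⁻¹ * d) * (d * a⁻¹)) * a⁻¹ := by rw [hsq, h1, h2]; group
    _ = b⁻¹ * d * (b⁻¹ * a⁻¹) * d * a⁻¹ := by
      rw [congrArg₂ (· * ·) (h.aE.c (E.inv_mem hb) hE) (h.aE.c hE (E.inv_mem ha))]; group
    _ = _ := by rw [h.aE.c (E.inv_mem hb) (E.inv_mem ha)]; group

theorem eq_or (hc : Nat.card F ≤ Nat.card E) (a : AE S E') (hN : E' ≤ N[E]) : E' = E ∨ E' = F := by
  by_contra! hne
  have h1 : ∀ d ∈ E, d ∈ F → d ∈ E' := fun d hE hF =>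
    (a.mem_cent (h.aE.le hE)).mp fun x hx => h.cent (a.le hx) (hN hx) hE hF
  have h2 : ∀ d ∈ E, d ∈ E' → d ∈ F := fun d hE hE' =>
    by_contra fun hF => hne.1 (h.eq_of_mem a hE hF hE')
  have h3 : ∀ d ∈ F, d ∈ E' → d ∈ E := fun d hF hE' =>
    by_contra fun hE => hne.2 (h'.eq_of_mem a hF hE hE')
  obtain ⟨M'', b⟩ := exists_blk a h.aE (fun e he => mem_normalizer_of_forall fun x hx => by
    have := E'.mul_mem (E'.inv_mem (h1 _ (h.brE (hN hx) he) (h.brF (a.le hx) (hN hx) he))) hx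
    simpa [mul_assoc] using this) hN hne.1 (by
    rw [← H7.card_inf_mul_relIndex E E']
    refine le_trans ?_ hc
    rw [← H7.card_inf_mul_relIndex E F, ← H67.relIndex_sup_of_le_normalizer h.FN]
    refine Nat.mul_le_mul (card_le_of_le fun x hx => ⟨hx.1, h2 x hx.1 hx.2⟩)
      (relIndex_le_of_le_right (fun x hx => ?_) FiniteIndex.index_ne_zero)
    obtain ⟨f, hf, e, he, rfl⟩ := h.dec (a.le hx) (hN hx)
    exact mul_mem (mem_sup_left hf) (mem_sup_right he))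
  obtain ⟨x, hx, hxE⟩ := b.exists_e
  obtain ⟨d, hd', hd, e⟩ := b.half hx
  exact hxE ((h.mem_or h' (a.le hx) (hN hx) hd (h2 d hd hd') e).elim id fun hF => h3 x hF hx)

end Blk

end Cfsg.Agent.H96
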