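import Mathlib
import Cfsg.Agent.H96.AbEss

/-! Non-normal abelian essential subgroups. -/

set_option autoImplicit false
set_option linter.unusedSectionVars false

namespace Cfsg.Agent.H96

open Subgroup H8 H62 H82
open scoped Pointwise

variable {G : Type*} [Group G]

local notation "N[" H "]" => normalizer ((H : Subgroup G) : Set G)
local notation "C[" H "]" => centralizer ((H : Subgroup G) : Set G)

theorem focal_le [Finite G] (S : Sylow 2 G) {K : Subgroup G}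
    (hN : ∀ y ∈ N[S], ∀ a ∈ S, a⁻¹ * (y * a * y⁻¹) ∈ K)
    (hE : ∀ H, H7.Ess 2 S H → ∀ x ∈ N[H], ∀ a ∈ H, a⁻¹ * (x * a * x⁻¹) ∈ K) :
    commutator G ⊓ (S : Subgroup G) ≤ K := by
  refine commutator_inf_le_of_fusion S fun x hx g hg => ?_
  have := H7.invariant_of_ess S (fun a => (a : G ⧸ K))
    (fun y hy a ha => (QuotientGroup.eq.mpr (by simpa using hN _ (inv_mem hy) a ha)).symm)
    (fun H y hy a ha => (QuotientGroup.eq.mpr (by
      simpa using hE H hy.1 _ (inv_mem (hy.mem_normalizer S.2)) a ha)).symm)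
    (a := x⁻¹) (g := g⁻¹) (inv_mem hx) (by simpa [mul_assoc] using inv_mem hg)
  simpa [mul_assoc] using QuotientGroup.eq.mp this.symm

/-- `E ∩ F` has index at most two in `E`. -/
def Two (E F : Subgroup G) : Prop := ∀ a ∈ E, a ∉ F → ∀ b ∈ E, b ∉ F → a * b ∈ F

theorem Two.of_invol {S E F M : Subgroup G} [Finite G] (b : Blk S E F M)
    (h : ∀ u ∈ E, u ∉ F → u * u = 1 → ∀ v ∈ E, v ∉ F → v * v = 1 → u * v ∈ F) : Two E F := by
  intro x hx hxF y hy hyF
  obtain ⟨u, hu, u2, h1⟩ := b.exists_invol hx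
  obtain ⟨v, hv, v2, h2⟩ := b.exists_invol hy
  have := F.mul_mem (F.mul_mem (h u hu (fun e => hxF ((mul_mem_cancel_left (F.inv_mem e)).mp h1)) u2
    v hv (fun e => hyF ((mul_mem_cancel_left (F.inv_mem e)).mp h2)) v2) h1) h2
  rwa [mul_assoc u, b.aE.c hv (E.mul_mem (E.inv_mem hu) hx), ← mul_assoc u, mul_inv_cancel_left,
    mul_assoc, mul_inv_cancel_left] at this

/-- A non-normal abelian essential subgroup `E` and its conjugate `F`. -/
structure NN (S E F : Subgroup G) (s : G) : Prop where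
  aE : AE S E
  hs : s ∈ S
  sE : MulAut.conj s • E = F
  sF : MulAut.conj s • F = E
  FN : F ≤ N[E]
  ne : E ≠ F

theorem conj_P {S : Subgroup G} (E : Subgroup G) {y : G} (hy : y ∈ N[S]) :
    MulAut.conj y • (S ⊓ N[E]) = S ⊓ N[MulAut.conj y • E] := by
  rw [smul_inf, mem_normalizer_iff_conj_smul_eq.mp hy, normalizer_conj_smul]

theorem exists_nn [Finite G] {S E : Subgroup G} (a : AE S E) (h : ¬ S ≤ N[E]) : ∃ F s, NN S E F s := by
  obtain ⟨s, ⟨hs, h1⟩, h2⟩ := SetLike.exists_of_lt (lt_inf_normalizer_of_lt a.two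
    (inf_lt_left.mpr h))
  have h3 := mem_normalizer_iff_conj_smul_eq.mp h1
  have key : ∀ K : Subgroup G, K ≤ S → K ≤ N[E] → MulAut.conj s • K ≤ N[E] := fun K h4 h5 =>
    (pointwise_smul_le_pointwise_smul_iff.mpr (le_inf h4 h5)).trans (h3.le.trans inf_le_right)
  have a' := a.conj (le_normalizer hs)
  have FN := key E a.le le_normalizer
  rw [conj_P E (le_normalizer hs)] at h3
  have EN : E ≤ N[MulAut.conj s • E] := (le_inf a.le le_normalizer).trans (h3.ge.trans inf_le_right)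
  have ne : E ≠ MulAut.conj s • E := fun e => h2 ⟨hs, mem_normalizer_iff_conj_smul_eq.mpr e.symm⟩
  obtain ⟨M, b⟩ := exists_blk a a' FN EN ne (card_conj_smul E s).ge
  obtain ⟨M', b'⟩ := exists_blk a' a EN FN ne.symm (card_conj_smul E s).le
  refine ⟨_, s, a, hs, rfl, (b.eq_or b' (card_conj_smul E s).le (a'.conj (le_normalizer hs))
    (key _ a'.le FN)).resolve_right fun e => h2 ⟨hs, ?_⟩, FN, ne⟩
  exact b'.normF hs (mem_normalizer_iff_conj_smul_eq.mpr e)

namespace NN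

variable {S E F E' : Subgroup G} {s : G} (h : NN S E F s)
include h

theorem symm : NN S F E s where
  aE := h.sE ▸ h.aE.conj (le_normalizer h.hs)
  hs := h.hs
  sE := h.sF
  sF := h.sE
  FN := by
    have := pointwise_smul_le_pointwise_smul_iff (a := MulAut.conj s).mpr h.FN
    rwa [← normalizer_conj_smul, h.sE, h.sF] at this
  ne := h.ne.symm

theorem conj {y : G} (hy : y ∈ N[S]) :
    NN S (MulAut.conj y • E) (MulAut.conj y • F) (y * s * y⁻¹) where
  aE := h.aE.conj hy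
  hs := conj_mem_of_norm hy h.hs
  sE := by rw [conj_smul_conj_smul, inv_mul_cancel_right, ← conj_smul_conj_smul, h.sE]
  sF := by rw [conj_smul_conj_smul, inv_mul_cancel_right, ← conj_smul_conj_smul, h.sF]
  FN := by rw [normalizer_conj_smul]; exact pointwise_smul_le_pointwise_smul_iff.mpr h.FN
  ne e := h.ne (MulAction.injective _ e)

theorem card : Nat.card F = Nat.card E := h.sE ▸ card_conj_smul E s

theorem not_mem : s ∉ N[E] := fun e => h.ne ((mem_normalizer_iff_conj_smul_eq.mp e).symm.trans h.sE)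

theorem two (t : Two E F) : Two F E := fun a ha haE b hb hbE => by
  rw [← h.sE, mem_conj_smul] at ha hb
  rw [← h.sF, mem_conj_smul] at haE hbE ⊢
  simpa [mul_assoc] using t _ ha haE _ hb hbE

variable [Finite G]

theorem blk : ∃ M, Blk S E F M := exists_blk h.aE h.symm.aE h.FN h.symm.FN h.ne h.card.ge

theorem P_eq : S ⊓ N[F] = S ⊓ N[E] := by
  obtain ⟨M, b⟩ := h.blk
  obtain ⟨M', b'⟩ := h.symm.blk
  exact le_antisymm (fun _ hx => ⟨hx.1, b'.normF hx.1 hx.2⟩) fun _ hx => ⟨hx.1, b.normF hx.1 hx.2⟩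

theorem eq_or (a : AE S E') (hN : E' ≤ N[E]) : E' = E ∨ E' = F := by
  obtain ⟨M, b⟩ := h.blk
  obtain ⟨M', b'⟩ := h.symm.blk
  exact b.eq_or b' h.card.le a hN

theorem mem_normP {y : G} (hy : y ∈ N[S]) (e : MulAut.conj y • E = E ∨ MulAut.conj y • E = F) :
    y ∈ N[S ⊓ N[E]] := by
  rw [mem_normalizer_iff_conj_smul_eq, conj_P E hy]
  rcases e with e | e <;> rw [e]
  exact h.P_eq

theorem swap {x : G} (hx : x ∈ N[S]) (h1 : x ∈ N[S ⊓ N[E]]) (h2 : x ∉ N[E]) :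
    MulAut.conj x • E = F ∧ MulAut.conj x • F = E := by
  have key : ∀ K : Subgroup G, AE S K → K ≤ N[E] → MulAut.conj x • K = E ∨ MulAut.conj x • K = F :=
    fun K a h5 => h.eq_or (a.conj hx) ((pointwise_smul_le_pointwise_smul_iff.mpr (le_inf a.le h5)).trans
      ((mem_normalizer_iff_conj_smul_eq.mp h1).le.trans inf_le_right))
  have h3 := (key E h.aE le_normalizer).resolve_left (mt mem_normalizer_iff_conj_smul_eq.mpr h2)
  exact ⟨h3, (key F h.symm.aE h.FN).resolve_right fun e => h.ne (MulAction.injective _ (h3.trans e.symm))⟩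

theorem mul_mem_of_swap {x y : G} (hx : x ∈ S) (h1 : x ∈ N[S ⊓ N[E]]) (h2 : x ∉ N[E])
    (hy : y ∈ S) (h3 : y ∈ N[S ⊓ N[E]]) (h4 : y ∉ N[E]) : x * y ∈ N[E] := by
  rw [mem_normalizer_iff_conj_smul_eq, ← conj_smul_conj_smul, (h.swap (le_normalizer hy) h3 h4).1,
    (h.swap (le_normalizer hx) h1 h2).2]

theorem mul_mem_of_two (t : Two E F) {p q : G} (hp : p ∈ S) (hpN : p ∈ N[E]) (hpE : p ∉ E)
    (hq : q ∈ S) (hqN : q ∈ N[E]) (hqE : q ∉ E) : p * q ∈ E := by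
  obtain ⟨M, b⟩ := h.blk
  obtain ⟨f, hf, e, he, rfl⟩ := b.dec hp hpN
  obtain ⟨f', hf', e', he', rfl⟩ := b.dec hq hqN
  rw [show f * e * (f' * e') = f * f' * (f'⁻¹ * e * f') * e' by group]
  exact E.mul_mem (E.mul_mem (h.two t f hf (fun e => hpE (E.mul_mem e he)) f' hf'
    fun e => hqE (E.mul_mem e he')) (conj_mem_of_norm' (h.FN hf') he)) he'

theorem eq_or_big (hq : ¬ Two E F) (a : AE S E') (hN : E' ≤ N[S ⊓ N[E]]) : E' = E ∨ E' = F := by
  by_contra! hne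
  obtain ⟨M, b⟩ := h.blk
  obtain ⟨M', b'⟩ := h.symm.blk
  obtain ⟨e1, he1, e1F, e1s, e2, he2, e2F, e2s, e3F⟩ : ∃ u ∈ E, u ∉ F ∧ u * u = 1 ∧
      ∃ v ∈ E, v ∉ F ∧ v * v = 1 ∧ u * v ∉ F := by
    by_contra! hc
    exact hq (Two.of_invol b hc)
  by_cases hn : S ≤ N[E']
  · obtain ⟨x, hx, hxN⟩ := SetLike.not_le_iff_exists.mp fun hle => (h.eq_or a hle).elim hne.1 hne.2
    have hxS := a.le hx
    obtain ⟨s1, s2⟩ := h.swap (le_normalizer hxS) (hN hx) hxN
    have key : ∀ e ∈ E, e ∉ F → e * e = 1 → x * e * x ∈ E := fun e he heF e2 => by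
      have hS := b.aE.le he
      refine b.cE he heF (S.mul_mem (S.mul_mem hxS hS) hxS) ?_
      have := a.c hx (conj_mem_of_norm (hn hS) hx)
      rw [inv_eq_of_sq e2] at this
      calc _ = x * (e * x * e) := by group
        _ = _ := by rw [this]; group
    have h1 := E.mul_mem (key e1 he1 e1F e1s) (E.inv_mem (key e2 he2 e2F e2s))
    rw [← s2, mem_conj_smul, ← inv_eq_of_sq e2s] at h1
    exact e3F (by simpa [mul_assoc] using h1)
  obtain ⟨F', s', n'⟩ := exists_nn a hn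
  obtain ⟨M'', c⟩ := n'.blk
  have k1 : ∀ u ∈ E', u ∉ F' → u * u = 1 → u ∉ N[E] := fun u hu huF u2 hN' => by
    rcases b.mem_or b' (a.le hu) hN' E.one_mem F.one_mem (by rw [u2, one_mul]) with h1 | h1
    · exact hne.1 (c.eq_of_mem b.aE hu huF h1).symm
    · exact hne.2 (c.eq_of_mem b.aF hu huF h1).symm
  have k2 : Two E' F' := Two.of_invol c fun u hu huF u2 v hv hvF v2 => by_contra fun hc =>
    k1 _ (E'.mul_mem hu hv) hc (by rw [mul_assoc, ← mul_assoc v, ← a.c hu hv, mul_assoc, v2, mul_one, u2])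
      (h.mul_mem_of_swap (a.le hu) (hN hu) (k1 u hu huF u2) (a.le hv) (hN hv) (k1 v hv hvF v2))
  obtain ⟨y, hy, hyF⟩ := c.exists_e
  obtain ⟨x, hx, x2, h1⟩ := c.exists_invol hy
  have hxF : x ∉ F' := fun e => hyF ((mul_mem_cancel_left (F'.inv_mem e)).mp h1)
  have hxS := a.le hx
  obtain ⟨s1, s2⟩ := h.swap (le_normalizer hxS) (hN hx) (k1 x hx hxF x2)
  have xi := inv_eq_of_sq x2
  have hf : ∀ e ∈ E, x * e * x ∈ F := fun e he => by
    have := s1 ▸ conj_mem_conj_smul (g := x).mpr he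
    rwa [xi] at this
  have key : ∀ e ∈ E, e ∉ F → e * e = 1 → ∀ r, r = e * (x * e * x) → r ∈ S ∧ r ∈ N[E] ∧ r ∈ N[E'] ∧
      r ∉ E' ∧ x * r * x = r⁻¹ ∧ ∀ d ∈ E, r * r ≠ d * d := fun e he heF e2 r hr => by
    have ei := inv_eq_of_sq e2
    have f1 := hf e he
    have f2 := b.aF.le f1
    have f3 : x * e * x ∉ E := fun e => heF (by
      rw [← s2, mem_conj_smul, xi] at e
      simpa [mul_assoc, ← mul_assoc x x, x2] using e)
    have r1 : r ∈ S := hr ▸ S.mul_mem (b.aE.le he) f2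
    have r2 : x * r * x = r⁻¹ := by
      simp [hr, xi, ei, mul_assoc, x2]
    have r3 : x * e * x * e * (x * e * x)⁻¹ * e⁻¹ = r * r := by
      have := b.aE.c he (b.brE (h.FN f1) he)
      calc _ = e * (x * e * x * e * (x * e * x)⁻¹ * e⁻¹) * e⁻¹ := by rw [this, mul_inv_cancel_right]
        _ = _ := by simp [hr, xi, ei, mul_assoc, e2]
    have r4 : ∀ d ∈ E, r * r ≠ d * d := fun d hd e =>
      heF (b.inj_sq f2 (h.FN f1) f3 he hd (r3.trans e))
    have r5 : r * r * (r * r) = 1 := by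
      nth_rw 1 [← r3]
      simp [hr, xi, ei, mul_assoc, ← mul_assoc x x, ← mul_assoc e e, x2, e2]
    have r6 : x * r = r⁻¹ * x := by rw [← r2, mul_assoc, x2, mul_one]
    have r7 : r * x * r⁻¹ * x = r * r := by
      rw [← inv_inj, mul_inv_rev, mul_inv_rev, mul_inv_rev, xi, inv_inv, ← mul_assoc x, r6,
        mul_assoc, ← mul_assoc x, x2, one_mul, mul_inv_rev]
    refine ⟨r1, hr ▸ mul_mem (le_normalizer he) (h.FN f1), c.conj_comm hx hxF r1 ?_, fun e => r4 1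
      E.one_mem ?_, r2, r4⟩
    · rw [r7, ← inv_eq_of_sq r5, ← mul_assoc, ← mul_assoc, r6, mul_assoc r⁻¹, x2]; group
    · rw [← r7, a.c e hx, mul_inv_cancel_right, x2, one_mul]
  obtain ⟨a1, a2, a3, a4, a5, -⟩ := key e1 he1 e1F e1s _ rfl
  obtain ⟨b1, b2, b3, b4, b5, -⟩ := key e2 he2 e2F e2s _ rfl
  obtain ⟨c1, c2, c3, c4, -, c6⟩ := key _ (E.mul_mem he1 he2) e3F (by
    rw [mul_assoc, ← mul_assoc e2, ← b.aE.c he1 he2, mul_assoc, e2s, mul_one, e1s]) _ rfl
  generalize hr1 : e1 * (x * e1 * x) = r1 at *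
  generalize hr2 : e2 * (x * e2 * x) = r2 at *
  generalize hr3 : e1 * e2 * (x * (e1 * e2) * x) = r3 at *
  obtain ⟨d, hd, hdF, hd3⟩ : ∃ d ∈ E, d ∈ F ∧ r3 = r1 * r2 * d := by
    have f1 := hf e1 he1
    have d1 := b.brE (h.FN f1) he2
    have d2 := b.brF (b.aF.le f1) (h.FN f1) he2
    refine ⟨_, E.inv_mem d1, F.inv_mem d2, ?_⟩
    rw [b.cent (S.mul_mem a1 b1) (mul_mem a2 b2) (E.inv_mem d1) (F.inv_mem d2), ← hr1, ← hr2, ← hr3,
      ← mul_assoc _ (e1 * _), ← mul_assoc _ e1 (x * e1 * x), ← b.aE.c he1 (E.inv_mem d1)]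
    simp [xi, mul_assoc, ← mul_assoc x x, x2]
  have h12 := n'.mul_mem_of_two k2 a1 a3 a4 b1 b3 b4
  have hdN : d ∈ N[E'] := (mul_mem_cancel_left (N[E'].mul_mem a3 b3)).mp (hd3 ▸ c3)
  have hdE : d ∉ E' := fun e => c4 (hd3 ▸ E'.mul_mem h12 e)
  have h13 := a.c (n'.mul_mem_of_two k2 a1 a3 a4 (b.aE.le hd) hdN hdE)
    (n'.mul_mem_of_two k2 b1 b3 b4 (b.aE.le hd) hdN hdE)
  have d1 := b.cent a1 a2 hd hdF
  have d2 := b.cent b1 b2 hd hdF
  rw [mul_assoc, mul_assoc, ← mul_assoc d, ← mul_assoc d, ← d1, ← d2, ← mul_assoc, ← mul_assoc,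
    ← mul_assoc, ← mul_assoc, mul_left_inj, mul_left_inj] at h13
  have h14 : r1 * r2 * (r1 * r2) = 1 := by
    have : x * (r1 * r2) * x = (r1 * r2)⁻¹ := by
      rw [congrArg Inv.inv h13, mul_inv_rev, ← a5, ← b5]
      simp [mul_assoc, ← mul_assoc x x, x2]
    rw [a.c hx h12, mul_assoc, x2, mul_one] at this
    nth_rw 1 [this]
    simp
  refine c6 d hd ?_
  rw [hd3, mul_assoc, ← mul_assoc d, ← b.cent (S.mul_mem a1 b1) (mul_mem a2 b2) hd hdF, ← mul_assoc,
    ← mul_assoc, h14, one_mul]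

theorem le_normP (hq : ¬ Two E F) : S ≤ N[S ⊓ N[E]] := by
  by_contra hn
  obtain ⟨t, ⟨ht, h1⟩, h2⟩ := SetLike.exists_of_lt (lt_inf_normalizer_of_lt h.aE.two
    (inf_lt_left.mpr hn))
  refine h2 ⟨ht, h.mem_normP (le_normalizer ht) (h.eq_or_big hq (h.aE.conj (le_normalizer ht)) ?_)⟩
  refine le_trans ?_ ((mem_normalizer_iff_conj_smul_eq.mp h1).le.trans inf_le_right)
  exact pointwise_smul_le_pointwise_smul_iff.mpr (le_inf h.aE.le
    ((le_inf h.aE.le le_normalizer).trans le_normalizer))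

end NN

theorem NN.focal_big [Finite G] {S : Sylow 2 G} {E F : Subgroup G} {s : G}
    (h : NN (S : Subgroup G) E F s) (hq : ¬ Two E F)
    (hab : ∀ H, H7.Ess 2 (S : Subgroup G) H → IsMulCommutative H) :
    commutator G ⊓ (S : Subgroup G) ≤ N[E] := by
  have h1 := h.le_normP hq
  have h2 : ∀ H, AE S H → H = E ∨ H = F := fun H a => h.eq_or_big hq a (a.le.trans h1)
  refine focal_le S (fun y hy a ha => ?_) fun H hH x hx a ha => ?_
  · have h3 := h.mem_normP hy (h2 _ (h.aE.conj hy))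
    by_cases h4 : a ∈ N[E]
    · exact mul_mem (inv_mem h4) (conj_mem_of_norm h3 ⟨ha, h4⟩).2
    have h5 := conj_mem_of_norm hy ha
    exact h.mul_mem_of_swap (inv_mem ha) (inv_mem (h1 ha)) (by rwa [inv_mem_iff]) h5 (h1 h5)
      fun e => h4 (mem_of_conj_mem_of_norm h3 ⟨h5, e⟩).2
  · have h3 := H.mul_mem (H.inv_mem ha) (conj_mem_of_norm hx ha)
    rcases h2 H ⟨S.2, hH, hab H hH⟩ with rfl | rfl
    exacts [le_normalizer h3, h.FN h3]

end Cfsg.Agent.H96
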