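import Mathlib
import Cfsg.Agent.H96.OffG

/-! A set of involutions generating a dihedral group. -/

set_option autoImplicit false
set_option linter.unusedSectionVars false

namespace Cfsg.Agent.H96

open Subgroup H8 H62 H82
open scoped Pointwise IsMulCommutative

variable {G : Type*} [Group G]

theorem eq_one_of_conj_eq_mul {h x u : G} (ho : Odd (orderOf h)) (hu : Is2 u) (e : h * x * h⁻¹ = x * u)
    (hc : h * u = u * h) : u = 1 := by
  have key : ∀ i : ℕ, h ^ i * x * (h ^ i)⁻¹ = x * u ^ i := fun i => by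
    induction i with
    | zero => simp
    | succ i ih =>
      calc _ = h * (h ^ i * x * (h ^ i)⁻¹) * h⁻¹ := by rw [pow_succ']; group
        _ = h * x * h⁻¹ * (h * u ^ i * h⁻¹) := by rw [ih]; group
        _ = _ := by rw [e, (Commute.pow_right hc i).eq, pow_succ']; group
  have h1 := key (orderOf h)
  rw [pow_orderOf_eq_one, one_mul, inv_one, mul_one, left_eq_mul] at h1
  exact eq_one_of_odd_of_is2 (ho.of_dvd_nat (orderOf_dvd_of_pow_eq_one h1)) hu

theorem cent_of_cent_invol {W : Subgroup G} (hc : IsMulCommutative W) (hW : IsPGroup 2 W) {h : G}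
    (hh : h ∈ normalizer (W : Set G)) (ho : Odd (orderOf h))
    (e : ∀ u ∈ W, u * u = 1 → h * u * h⁻¹ = u) {w : G} (hw : w ∈ W) : h * w * h⁻¹ = w :=
  congrArg (fun v : Additive W => (v.toMul : G)) (fix_of_fix_omega (V := Additive W)
    (c := W.normalizerMonoidHom ⟨h, hh⟩) (fun v => hW v.toMul)
    (ho.of_dvd_nat ((orderOf_map_dvd _ _).trans (orderOf_coe _).symm.dvd))
    (fun v hv => Additive.toMul.injective (Subtype.ext (e _ v.toMul.2 (by
      rw [two_nsmul] at hv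
      exact congrArg (fun v : Additive W => (v.toMul : G)) hv)))) (Additive.ofMul ⟨w, hw⟩))

theorem invol_mul_pow {e f : G} (e2 : e * e = 1) (f2 : f * f = 1) (i : ℕ) :
    e * (e * f) ^ i = ((e * f) ^ i)⁻¹ * e ∧ f * (e * f) ^ i = ((e * f) ^ i)⁻¹ * f := by
  constructor <;>
  · rw [← inv_pow, ← mul_inv_eq_iff_eq_mul, ← conj_pow]
    simp [inv_eq_of_sq e2, inv_eq_of_sq f2, mul_assoc, ← mul_assoc e e, e2, f2]

theorem exists_root {e f : G} (e2 : e * e = 1) (f2 : f * f = 1) (h2 : Is2 (e * f))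
    (hc : e * f ≠ f * e) : ∃ i : ℕ, ∃ v, v = (e * f) ^ i ∧ v * v ≠ 1 ∧ v * v * (v * v) = 1 := by
  obtain ⟨i, h3, h4⟩ := h2.mul_self.exists_invol fun h => hc (by
    rw [← inv_eq_of_sq h, mul_inv_rev, inv_eq_of_sq e2, inv_eq_of_sq f2])
  rw [(Commute.refl _).mul_pow] at h3 h4
  exact ⟨i, _, rfl, h4, h3⟩

/-- A set of involutions in which only `e` and `ez` commute with `e`. -/
structure Dih (S : Subgroup G) (Γ : Set G) (z : G) : Prop where
  two : IsPGroup 2 S
  le : ∀ e ∈ Γ, e ∈ S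
  conj : ∀ s ∈ S, ∀ e ∈ Γ, s * e * s⁻¹ ∈ Γ
  sq : ∀ e ∈ Γ, e * e = 1
  comm : ∀ e ∈ Γ, ∀ f ∈ Γ, e * f = f * e → f = e ∨ f = e * z
  nsq : ∀ e ∈ Γ, ∀ w ∈ S, w * e = e * w → w * w ≠ z

namespace Dih

variable {S : Subgroup G} {Γ : Set G} {z e f : G} (h : Dih S Γ z) (he : e ∈ Γ) (hf : f ∈ Γ)
include h he hf

theorem pow (i : ℕ) : e * (e * f) ^ i ∈ Γ := by
  obtain ⟨j, rfl | rfl⟩ := Nat.even_or_odd' i
  · have := h.conj _ (S.inv_mem (S.pow_mem (S.mul_mem (h.le e he) (h.le f hf)) j)) e he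
    rwa [inv_inv, ← (invol_mul_pow (h.sq e he) (h.sq f hf) j).1, mul_assoc, ← pow_add, ← two_mul] at this
  · have := h.conj _ (S.inv_mem (S.pow_mem (S.mul_mem (h.le e he) (h.le f hf)) j)) f hf
    rw [inv_inv, ← (invol_mul_pow (h.sq e he) (h.sq f hf) j).2, mul_assoc, ← pow_add, ← two_mul] at this
    rwa [pow_succ', ← mul_assoc, ← mul_assoc, h.sq e he, one_mul]

theorem is2 : Is2 (e * f) := is2_of_mem h.two (S.mul_mem (h.le e he) (h.le f hf))

theorem eq_z {i : ℕ} (h1 : (e * f) ^ i ≠ 1) (h2 : (e * f) ^ i * (e * f) ^ i = 1) : (e * f) ^ i = z := by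
  rcases h.comm e he _ (h.pow he hf i) (by
    rw [mul_assoc, mul_right_inj, (invol_mul_pow (h.sq e he) (h.sq f hf) i).1, inv_eq_of_sq h2])
    with h3 | h3
  · exact absurd (mul_eq_left.mp h3) h1
  · exact mul_left_cancel h3

theorem z_mem (h1 : e * f ≠ 1) : z ∈ zpowers (e * f) := by
  obtain ⟨i, h2, h3⟩ := (h.is2 he hf).exists_invol h1
  exact h.eq_z he hf h3 h2 ▸ npow_mem_zpowers _ i

theorem root (hc : e * f ≠ f * e) : ∃ i : ℕ, (e * f) ^ i * (e * f) ^ i = z := by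
  obtain ⟨i, v, rfl, h1, h2⟩ := exists_root (h.sq e he) (h.sq f hf) (h.is2 he hf) hc
  rw [← pow_add] at h1 h2
  exact ⟨i, by rw [← pow_add]; exact h.eq_z he hf h1 h2⟩

variable [Finite G]

theorem step {g : G} (hg : g ∈ Γ) (h1 : e * g ≠ 1)
    (h2 : (e * f) ^ 2 ∈ zpowers ((e * g) ^ 2)) : e * f ∈ zpowers (e * g) := by
  obtain ⟨i, hi⟩ := mem_powers_iff_mem_zpowers.mpr h2
  have hg' := h.pow he hg i
  have hf' := h.pow he hf 1
  have h3 : ∀ {k : G} (j : ℕ), k ∈ Γ → e * (e * k) ^ j * e * (e * (e * k) ^ j) = e * ((e * k) ^ 2) ^ j :=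
    fun {k} j hk => by
      rw [mul_assoc, ← mul_assoc e, h.sq e he, one_mul, mul_assoc, ← pow_add, ← pow_mul, two_mul]
  have h4 := (h3 i hg).trans ((congrArg _ (hi.trans (pow_one _).symm)).trans (h3 1 hf).symm)
  have h5 := npow_mem_zpowers (e * g) i
  rw [pow_one] at hf' h4
  generalize (e * g) ^ i = b at *
  generalize e * f = a at *
  by_cases hc : e * b * (e * a) = e * a * (e * b)
  · rcases h.comm _ hg' _ hf' hc with h6 | h6
    · rwa [mul_left_cancel h6]
    · rw [mul_assoc] at h6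
      rw [mul_left_cancel h6]
      exact mul_mem h5 (h.z_mem he hg h1)
  obtain ⟨j, hj⟩ := h.root hg' hf' hc
  refine absurd hj (h.nsq e he _ (S.pow_mem (S.mul_mem (h.le _ hg') (h.le _ hf')) j)
    (Commute.pow_left ?_ j))
  calc _ = e * b * (e * a * e) * (e * a * (e * a)) := by rw [h.sq _ hf']; group
    _ = e * b * (e * a * e * (e * a)) * (e * a) := by group
    _ = e * b * (e * b) * e * (e * b * (e * a)) := by rw [← h4]; group
    _ = _ := by rw [h.sq _ hg', one_mul]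

theorem chain {g : G} (hg : g ∈ Γ) : e * f ∈ zpowers (e * g) ∨ e * g ∈ zpowers (e * f) := by
  obtain ⟨k, hk⟩ := h.is2 he hf
  induction k generalizing f g with
  | zero => left; rw [pow_zero, pow_one] at hk; rw [hk]; exact one_mem _
  | succ k ih =>
    by_cases h1 : e * f = 1
    · left; rw [h1]; exact one_mem _
    by_cases h2 : e * g = 1
    · right; rw [h2]; exact one_mem _
    have := ih (h.pow he hf 2) (h.pow he hg 2) (by
      rw [← mul_assoc, h.sq e he, one_mul, ← pow_mul, ← pow_succ', hk])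
    rw [← mul_assoc, ← mul_assoc, h.sq e he, one_mul, one_mul] at this
    exact this.imp (h.step he hf hg h2) (h.step he hg hf h1)

omit hf in
theorem exists_gen : ∃ f ∈ Γ, ∀ g ∈ Γ, e * g ∈ zpowers (e * f) := by
  obtain ⟨f, hf, hm⟩ := Set.exists_max_image Γ (fun f => Nat.card (zpowers (e * f))) Γ.toFinite ⟨e, he⟩
  refine ⟨f, hf, fun g hg => (h.chain he hg hf).elim id fun h1 => ?_⟩
  rw [eq_of_le_of_card_ge (zpowers_le.mpr h1) (hm g hg)]
  exact mem_zpowers _

omit hf in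
theorem cent_of_odd {k : G} (ho : Odd (orderOf k)) (hk : ∀ e ∈ Γ, k * e * k⁻¹ ∈ Γ)
    (hz : k * z * k⁻¹ = z) : k * e = e * k := by
  obtain ⟨f, hf, hm⟩ := h.exists_gen he
  have h1 : k ∈ normalizer (zpowers (e * f) : Set G) := mem_normalizer_of_conj_smul_le (by
    rw [← map_conj_eq_smul', MonoidHom.map_zpowers, zpowers_le]
    have := mul_mem (inv_mem (hm _ (hk e he))) (hm _ (hk f hf))
    rw [mul_inv_rev, mul_assoc, inv_mul_cancel_left, inv_eq_of_sq (h.sq _ (hk e he)), conj_mul] at this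
    exact this)
  have h2 := hm _ (hk e he)
  have h3 := cent_of_cent_invol inferInstance (h.is2 he hf).isPGroup_zpowers h1 ho (fun u hu u2 => by
    obtain ⟨i, rfl⟩ := mem_powers_iff_mem_zpowers.mpr hu
    by_cases u1 : (e * f) ^ i = 1
    · simp [u1]
    · simp only [h.eq_z he hf u1 u2, hz]) h2
  have h4 := eq_one_of_conj_eq_mul (x := e) ho (h.is2 he (hk e he))
    (by rw [← mul_assoc, h.sq e he, one_mul]) (mul_inv_eq_iff_eq_mul.mp h3)
  rw [mul_eq_one_iff_eq_inv', inv_eq_of_sq (h.sq e he)] at h4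
  exact mul_inv_eq_iff_eq_mul.mp h4

end Dih

end Cfsg.Agent.H96
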