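import Mathlib
import Cfsg.Agent.H96.AbInt1
import Cfsg.Agent.H96.Dih
import Cfsg.Agent.S0206

/-! Abelian essential subgroups with automizer of order twice odd. -/

set_option autoImplicit false
set_option linter.unusedSectionVars false

namespace Cfsg.Agent.H96

open Subgroup H8 H62 H82
open scoped Pointwise commutatorElement

variable {G : Type*} [Group G] [Finite G]

local notation "N[" H "]" => normalizer ((H : Subgroup G) : Set G)
local notation "C[" H "]" => centralizer ((H : Subgroup G) : Set G)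

theorem NN.br_eq {S E F : Subgroup G} {s : G} (h : NN S E F s) (t : Two E F) {p q e f : G}
    (hp : p ∈ S) (hpN : p ∈ N[E]) (hpE : p ∉ E) (hq : q ∈ S) (hqN : q ∈ N[E]) (hqE : q ∉ E)
    (he : e ∈ E) (heF : e ∉ F) (hf : f ∈ E) (hfF : f ∉ F) :
    q * f * q⁻¹ * f⁻¹ = p * e * p⁻¹ * e⁻¹ := by
  obtain ⟨M, b⟩ := h.blk
  have h1 := h.mul_mem_of_two t (inv_mem hp) (inv_mem hpN) (by rwa [inv_mem_iff]) hq hqN hqE
  have h2 := b.cent hp hpN (E.mul_mem (E.inv_mem he) hf) (t _ (inv_mem he) (by rwa [inv_mem_iff]) _ hf hfF)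
  rw [← mul_inv_cancel_left p q, b.br_eq h1 hf]
  calc _ = p * e * (e⁻¹ * f * p⁻¹) * f⁻¹ := by group
    _ = _ := by rw [(Commute.inv_left h2).eq.symm]; group

theorem NN.br_eq_of {S E F E' F' : Subgroup G} {s s' : G} (h : NN S E F s) (t : Two E F)
    (h' : NN S E' F' s') (t' : Two E' F') {p q e f : G}
    (hp : p ∈ S) (hpN : p ∈ N[E]) (hpE : p ∉ E) (hq : q ∈ S) (hqN : q ∈ N[E']) (hqE : q ∉ E')
    (he : e ∈ E) (heF : e ∉ F) (hf : f ∈ E') (hfF : f ∉ F') :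
    q * f * q⁻¹ * f⁻¹ = p * e * p⁻¹ * e⁻¹ := by
  obtain ⟨M, b⟩ := h.blk
  obtain ⟨M', b'⟩ := h'.blk
  obtain ⟨u, hu, u2, h1⟩ := b.exists_invol he
  obtain ⟨v, hv, v2, h2⟩ := b'.exists_invol hf
  have uF : u ∉ F := fun e => heF ((mul_mem_cancel_left (F.inv_mem e)).mp h1)
  have vF : v ∉ F' := fun e => hfF ((mul_mem_cancel_left (F'.inv_mem e)).mp h2)
  have hS := S.mul_mem (b.aE.le hu) (b'.aE.le hv)
  by_cases hc : u * v = v * u
  · obtain rfl := b'.eq_of_mem b.aE hv vF (b.cE hu uF (b'.aE.le hv) hc.symm)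
    refine h.br_eq t hp hpN hpE hq hqN hqE he heF hf fun e => hfF (b'.inj_sq hq hqN hqE hf E.one_mem ?_)
    rw [b.cent hq hqN hf e]; simp
  obtain ⟨i, w, hw, w1, w2⟩ := exists_root u2 v2 (is2_of_mem b.aE.two hS) hc
  have hwS : w ∈ S := hw ▸ S.pow_mem hS i
  have key : ∀ {E F M : Subgroup G} {u : G}, Blk S E F M → u ∈ E → u ∉ F → u * u = 1 →
      u * w = w⁻¹ * u → w ∈ N[E] ∧ w ∉ E ∧ w * u * w⁻¹ * u⁻¹ = w * w := fun {E F M u} b hu uF u2 e => by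
    have e1 : w * u * w⁻¹ = w * w * u := by
      rw [mul_assoc, mul_assoc, mul_right_inj, mul_inv_eq_iff_eq_mul, mul_assoc, e, mul_inv_cancel_left]
    refine ⟨b.conj_comm hu uF hwS ?_, fun hE => w1 ?_, by rw [e1, mul_inv_cancel_right]⟩
    · rw [e1, ← mul_assoc, ← mul_assoc u, e, mul_assoc _ u w, e, ← mul_assoc, ← mul_inv_rev,
        inv_eq_of_sq w2]
    · rwa [← b.aE.c hu hE, mul_inv_cancel_right, right_eq_mul] at e1
  obtain ⟨a1, a2, a3⟩ := key b hu uF u2 (hw ▸ (invol_mul_pow u2 v2 i).1)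
  obtain ⟨b1, b2, b3⟩ := key b' hv vF v2 (hw ▸ (invol_mul_pow u2 v2 i).2)
  rw [h'.br_eq t' hwS b1 b2 hq hqN hqE hv vF hf hfF, h.br_eq t hwS a1 a2 hp hpN hpE hu uF he heF, a3, b3]

/-- All non-normal essential subgroups are of the small type, with commutator `z`. -/
structure Sm (S : Subgroup G) (z : G) : Prop where
  ab : ∀ H, H7.Ess 2 S H → IsMulCommutative H
  nrm : ∀ H, H7.Ess 2 S H → N[S ⊓ N[H]] ≤ N[S]
  two : ∀ E F s, NN S E F s → Two E F
  ex : ∃ E F s, NN S E F s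
  br : ∀ E F s, NN S E F s → ∀ p ∈ S, p ∈ N[E] → p ∉ E → ∀ e ∈ E, e ∉ F → p * e * p⁻¹ * e⁻¹ = z

theorem exists_sm {S E F : Subgroup G} {s : G} (n : NN S E F s)
    (ab : ∀ H, H7.Ess 2 S H → IsMulCommutative H) (nrm : ∀ H, H7.Ess 2 S H → N[S ⊓ N[H]] ≤ N[S])
    (two : ∀ E F s, NN S E F s → Two E F) : ∃ z, Sm S z := by
  obtain ⟨M, b⟩ := n.blk
  obtain ⟨p, hp, hpE⟩ := b.exists_f
  obtain ⟨e, he, heF⟩ := b.exists_e
  exact ⟨_, ab, nrm, two, ⟨E, F, s, n⟩, fun E' F' s' n' q hq hqN hqE f hf hfF => n.br_eq_of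
    (two _ _ _ n) n' (two _ _ _ n') (b.aF.le hp) (n.FN hp) hpE hq hqN hqE he heF hf hfF⟩

/-- The conjugates of `z` under normalizers of non-normal essential subgroups. -/
def Gam (S : Subgroup G) (z : G) : Set G :=
  {e | e ≠ z ∧ ∃ E F s, NN S E F s ∧ ∃ g ∈ N[E], e = g * z * g⁻¹}

/-- The common radical. -/
def C0 (S : Subgroup G) : Subgroup G where
  carrier := {x | ∀ E F s, NN S E F s → x ∈ E ∧ ∀ g ∈ N[E], g⁻¹ * x * g ∈ F}
  one_mem' _ _ _ _ := ⟨one_mem _, by simp⟩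
  mul_mem' ha hb E F s n := ⟨mul_mem (ha E F s n).1 (hb E F s n).1, fun g hg => by
    simpa [mul_assoc] using mul_mem ((ha E F s n).2 g hg) ((hb E F s n).2 g hg)⟩
  inv_mem' ha E F s n := ⟨inv_mem (ha E F s n).1, fun g hg => by
    simpa [mul_assoc] using inv_mem ((ha E F s n).2 g hg)⟩

theorem conj_mem_C0 {S : Subgroup G} {y a : G} (hy : y ∈ N[S]) (ha : a ∈ C0 S) :
    y * a * y⁻¹ ∈ C0 S := fun E F s n => by
  obtain ⟨h1, h2⟩ := ha _ _ _ (n.conj (inv_mem hy))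
  refine ⟨by simpa using mem_conj_smul.mp h1, fun g hg => ?_⟩
  have := h2 _ (by rw [normalizer_conj_smul]; exact conj_mem_conj_smul.mpr hg)
  simpa [mul_assoc] using mem_conj_smul.mp this

namespace Sm

variable {S E F M : Subgroup G} {z s : G} (h : Sm S z)
include h

theorem exists_br (n : NN S E F s) : ∃ p ∈ S, p ∈ N[E] ∧ p ∉ E ∧ ∃ e ∈ E, e ∉ F ∧
    p * e * p⁻¹ * e⁻¹ = z := by
  obtain ⟨M, b⟩ := n.blk
  obtain ⟨p, hp, hpE⟩ := b.exists_f
  obtain ⟨e, he, heF⟩ := b.exists_e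
  exact ⟨p, b.aF.le hp, n.FN hp, hpE, e, he, heF, h.br _ _ _ n p (b.aF.le hp) (n.FN hp) hpE e he heF⟩

theorem br_or (n : NN S E F s) {p e : G} (hp : p ∈ S) (hpN : p ∈ N[E]) (he : e ∈ E) :
    p * e * p⁻¹ * e⁻¹ = 1 ∨ p * e * p⁻¹ * e⁻¹ = z := by
  obtain ⟨M, b⟩ := n.blk
  by_cases hpE : p ∈ E
  · left; rw [n.aE.c hpE he]; simp
  by_cases heF : e ∈ F
  · left; rw [b.cent hp hpN he heF]; simp
  exact .inr (h.br _ _ _ n p hp hpN hpE e he heF)

theorem z_mem (n : NN S E F s) : z ∈ E ∧ z ∈ F := by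
  obtain ⟨M, b⟩ := n.blk
  obtain ⟨p, hp, hpN, -, e, he, -, rfl⟩ := h.exists_br n
  exact ⟨b.brE hpN he, b.brF hp hpN he⟩

theorem nsq (n : NN S E F s) {w : G} (hw : w ∈ E) : w * w ≠ z := fun e => by
  obtain ⟨M, b⟩ := n.blk
  obtain ⟨p, hp, hpN, hpE, a, ha, haF, h1⟩ := h.exists_br n
  exact haF (b.inj_sq hp hpN hpE ha hw (h1.trans e.symm))

theorem z_sq : z * z = 1 := by
  obtain ⟨E, F, s, n⟩ := h.ex
  obtain ⟨M, b⟩ := n.blk
  obtain ⟨p, hp, hpN, -, e, he, heF, h1⟩ := h.exists_br n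
  have h2 := b.cent hp hpN (E.mul_mem he he) (h.two _ _ _ n e he heF e he heF)
  calc z * z = z * (e * z * e⁻¹) := by rw [n.aE.c he (h.z_mem n).1, mul_inv_cancel_right]
    _ = p * (e * e) * p⁻¹ * (e * e)⁻¹ := by rw [← h1]; group
    _ = 1 := by rw [h2]; group

theorem z_fix {y : G} (hy : y ∈ N[S]) : y * z * y⁻¹ = z := by
  obtain ⟨E, F, s, n⟩ := h.ex
  obtain ⟨p, hp, hpN, hpE, e, he, heF, h1⟩ := h.exists_br n
  refine Eq.trans ?_ (h.br _ _ _ (n.conj hy) _ (conj_mem_of_norm hy hp) (by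
    rw [normalizer_conj_smul]; exact conj_mem_conj_smul.mpr hpN) (mt conj_mem_conj_smul.mp hpE) _
    (conj_mem_conj_smul.mpr he) (mt conj_mem_conj_smul.mp heF))
  rw [← h1]; group

theorem act_M (b : Blk S E F M) {g : G} (hg : g ∈ M) :
    ∃ n ∈ N[S], ∀ e ∈ E, g * e * g⁻¹ = n * e * n⁻¹ := by
  obtain ⟨n, h1, -, h2⟩ := b.nrm hg
  exact ⟨n, h.nrm E b.aE.ess h1, h2⟩

theorem fix_M (n : NN S E F s) (b : Blk S E F M) {g : G} (hg : g ∈ M) : g * z * g⁻¹ = z := by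
  obtain ⟨k, h1, h2⟩ := h.act_M b hg
  rw [h2 z (h.z_mem n).1, h.z_fix h1]

theorem notMem_F (n : NN S E F s) (b : Blk S E F M) {g : G} (hg : g ∈ N[E]) (hgM : g ∉ M) :
    g * z * g⁻¹ ∉ F := fun e => by
  obtain ⟨p, hp, hpN, hpE, a, ha, haF, h1⟩ := h.exists_br n
  exact haF (b.inj (inv_mem hg) (by rwa [inv_mem_iff]) hp hpN hpE ha (by rwa [h1, inv_inv]))

theorem mem_gam (n : NN S E F s) (b : Blk S E F M) {g : G} (hg : g ∈ N[E]) (hgM : g ∉ M) :
    g * z * g⁻¹ ∈ Gam S z :=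
  ⟨fun e => h.notMem_F n b hg hgM (e.symm ▸ (h.z_mem n).2), E, F, s, n, g, hg, rfl⟩

theorem exists_gam (n : NN S E F s) : ∃ e ∈ Gam S z, e ∈ E ∧ e ∉ F := by
  obtain ⟨M, b⟩ := n.blk
  obtain ⟨g, hg, hgM⟩ := b.exists_g
  exact ⟨_, h.mem_gam n b hg hgM, conj_mem_of_norm hg (h.z_mem n).1, h.notMem_F n b hg hgM⟩

theorem gam_spec {e : G} (he : e ∈ Gam S z) : ∃ E F s M, NN S E F s ∧ Blk S E F M ∧ e ∈ E ∧ e ∉ F ∧
    ∃ g ∈ N[E], g ∉ M ∧ e = g * z * g⁻¹ := by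
  obtain ⟨h1, E, F, s, n, g, hg, rfl⟩ := he
  obtain ⟨M, b⟩ := n.blk
  have hM : g ∉ M := fun e => h1 (h.fix_M n b e)
  exact ⟨E, F, s, M, n, b, conj_mem_of_norm hg (h.z_mem n).1, h.notMem_F n b hg hM, g, hg, hM, rfl⟩

theorem conj_gam {y e : G} (hy : y ∈ N[S]) (he : e ∈ Gam S z) : y * e * y⁻¹ ∈ Gam S z := by
  obtain ⟨h1, E, F, s, n, g, hg, rfl⟩ := he
  refine ⟨fun e => h1 ?_, _, _, _, n.conj hy, y * g * y⁻¹, ?_, ?_⟩
  · simpa using e.trans (h.z_fix hy).symm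
  · rw [normalizer_conj_smul]; exact conj_mem_conj_smul.mpr hg
  · nth_rw 2 [← h.z_fix hy]; group

theorem dih : Dih S (Gam S z) z where
  two := by obtain ⟨E, F, s, n⟩ := h.ex; exact n.aE.two
  le e he := by obtain ⟨E, F, s, M, n, -, h1, -⟩ := h.gam_spec he; exact n.aE.le h1
  conj s hs e he := h.conj_gam (le_normalizer hs) he
  sq e he := by obtain ⟨-, E, F, s, -, g, -, rfl⟩ := he; rw [conj_mul, h.z_sq]; simp
  comm e he f hf hc := by
    obtain ⟨E, F, s, M, n, b, h1, h2, g, hg, hgM, h3⟩ := h.gam_spec he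
    obtain ⟨E', F', s', M', n', b', h4, h5, k, hk, -, h6⟩ := h.gam_spec hf
    obtain rfl := b'.eq_of_mem b.aE h4 h5 (b.cE h1 h2 (b'.aE.le h4) hc.symm)
    obtain ⟨a, ha, h7⟩ := b.loc.trans b.off b.FM hg hgM hk fun e => hf.1 (h6.trans (h.fix_M n b e))
    have h8 : f = a * e * a⁻¹ * e⁻¹ * e := by
      rw [h3, h6]
      nth_rw 1 [← h.fix_M n b h7]
      group
    rcases h.br_or n (b.aF.le ha) (n.FN ha) h1 with h9 | h9 <;> rw [h8, h9]
    exacts [.inl (one_mul e), .inr (n.aE.c (h.z_mem n).1 h1)]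
  nsq e he w hw hc := by
    obtain ⟨E, F, s, M, n, b, h1, h2, -⟩ := h.gam_spec he
    exact h.nsq n (b.cE h1 h2 hw hc)

theorem exists_nn {H : Subgroup G} (hH : H7.Ess 2 S H) : ∃ F s, NN S H F s := by
  have a : AE S H := ⟨h.dih.two, hH, h.ab H hH⟩
  refine H96.exists_nn a fun hn => ?_
  obtain ⟨E, F, s, n⟩ := h.ex
  obtain ⟨M, b⟩ := n.blk
  obtain ⟨e, he, heE, heF⟩ := h.exists_gam n
  have h1 : H ≠ E := by rintro rfl; exact n.not_mem (hn n.hs)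
  obtain ⟨x, hx, hxN⟩ := SetLike.not_le_iff_exists.mp fun hle => (n.eq_or a hle).elim h1 (by
    rintro rfl; exact n.symm.not_mem (hn n.hs))
  have eS := n.aE.le heE
  have e2 := h.dih.sq e he
  have key : ∀ x ∈ H, e * (x * e * x⁻¹) = e * x * e⁻¹ * x⁻¹ := fun x _ => by
    rw [inv_eq_of_sq e2]; group
  obtain ⟨i, hi⟩ := h.dih.root he (h.dih.conj x (a.le hx) e he)
    fun e => hxN (b.conj_comm heE heF (a.le hx) e.symm)
  obtain ⟨M', l, hM'⟩ := a.exists_loc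
  obtain ⟨w, hw, h2, h3⟩ := l.transv (hM' ⟨eS, hn eS⟩) (by rw [e2]; exact one_mem _)
    (fun e => h1 (b.eq_of_mem a heE heF ((a.mem_cent eS).mp e))) (H.pow_mem (by
      rw [key x hx]; exact H.mul_mem (conj_mem_of_norm (hn eS) hx) (H.inv_mem hx)) i) hi
    (n.aE.c heE (h.z_mem n).1) h.z_sq fun u hu u2 => by
      have h4 := h.dih.conj u (a.le hu) e he
      have h5 := a.c (conj_mem_of_norm (hn eS) hu) (H.inv_mem hu)
      rw [← key u hu]
      rcases h.dih.comm e he _ h4 (by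
        rw [key u hu, h5, inv_eq_of_sq u2, inv_eq_of_sq e2]; group) with h6 | h6 <;> rw [h6]
      exacts [.inl e2, .inr (by rw [← mul_assoc, e2, one_mul])]
  exact h.dih.nsq e he w (a.le hw) h2.symm h3

theorem fus (b : Blk S E F M) {g : G} (hg : g ∈ N[E]) : ∃ n ∈ N[S], ∃ k ∈ N[E], k ∉ M ∧ ∃ t ∈ F,
    ∀ e ∈ E, n * e * n⁻¹ ∈ E ∧ g * e * g⁻¹ = k * t * k⁻¹ * (n * e * n⁻¹) * (k * t * k⁻¹)⁻¹ := by
  by_cases hgM : g ∈ M
  · obtain ⟨n, h1, h2⟩ := h.act_M b hgM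
    obtain ⟨k, hk, hkM⟩ := b.exists_g
    exact ⟨n, h1, k, hk, hkM, 1, one_mem _, fun e he =>
      ⟨h2 e he ▸ conj_mem_of_norm hg he, by simp [h2 e he]⟩⟩
  obtain ⟨k, hk, hkM, t, ht, m, hm, rfl⟩ := b.fus hg hgM
  obtain ⟨n, h1, h2⟩ := h.act_M b hm
  exact ⟨n, h1, k, hk, hkM, t, ht, fun e he =>
    ⟨h2 e he ▸ conj_mem_of_norm (b.loc.le hm) he, by rw [← h2 e he]; group⟩⟩

theorem C0_le (n : NN S E F s) : C0 S ≤ E := fun _ hx => (hx E F s n).1

theorem cent_gam (h0 : C0 S = ⊥) {k : G} (hk : k ∈ N[S]) (ho : Odd (orderOf k)) : k ∈ C[S] := by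
  have h1 : ∀ e ∈ Gam S z, k * e = e * k := fun e he =>
    h.dih.cent_of_odd he ho (fun _ he => h.conj_gam hk he) (h.z_fix hk)
  have h2 : ∀ d ∈ S, (∀ e ∈ Gam S z, d * e = e * d) → k * d = d * k := fun d hd hc => by
    have h3 : ∀ e ∈ Gam S z, k * d * k⁻¹ * e = e * (k * d * k⁻¹) := fun e he =>
      ((Commute.mul_left (h1 e he) (hc e he)).mul_left (Commute.inv_left (h1 e he))).eq
    suffices d⁻¹ * (k * d * k⁻¹) ∈ C0 S by
      rw [h0, mem_bot, inv_mul_eq_one] at this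
      exact mul_inv_eq_iff_eq_mul.mp this.symm
    intro E F s n
    obtain ⟨M, b⟩ := n.blk
    obtain ⟨M', b'⟩ := n.symm.blk
    obtain ⟨e, he, heE, heF⟩ := h.exists_gam n
    obtain ⟨f, hf, hfF, hfE⟩ := h.exists_gam n.symm
    have h4 := conj_mem_of_norm hk hd
    have hN : k ∈ N[E] := mem_normalizer_of_forall fun a ha => b.cE heE heF
      (conj_mem_of_norm hk (n.aE.le ha)) ((Commute.mul_left (h1 e he) (n.aE.c ha heE)).mul_left
        (Commute.inv_left (h1 e he))).eq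
    have d1 := b.cE heE heF hd (hc e he)
    have d2 := b'.cE hfF hfE hd (hc f hf)
    have d3 := b.cE heE heF h4 (h3 e he)
    have d4 := b'.cE hfF hfE h4 (h3 f hf)
    refine ⟨mul_mem (inv_mem d1) d3, fun g hg => ?_⟩
    obtain ⟨g0, hg0, hM⟩ := b.exists_g
    refine b.rad hg0 hM hg (mul_mem (inv_mem d1) d3) (mul_mem (inv_mem d2) d4) ?_
    rw [show g0⁻¹ * (d⁻¹ * (k * d * k⁻¹)) * g0 = (g0⁻¹ * d * g0)⁻¹ * (g0⁻¹ * (k * d * k⁻¹) * g0) by group]
    by_cases h5 : g0⁻¹ * d * g0 ∈ F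
    · refine mul_mem (inv_mem h5) ?_
      simpa [mul_assoc] using b.rad hg0 hM (mul_mem (inv_mem hN) hg0) d1 d2 h5
    refine h.two _ _ _ n _ (inv_mem (conj_mem_of_norm' hg0 d1)) (by rwa [inv_mem_iff]) _
      (conj_mem_of_norm' hg0 d3) fun e => h5 ?_
    simpa [mul_assoc] using b.rad hg0 hM (mul_mem hN hg0) d3 d4 e
  intro y hy
  have h3 := S.mul_mem (S.inv_mem hy) (conj_mem_of_norm hk hy)
  have h4 := eq_one_of_conj_eq_mul (x := y) ho (is2_of_mem h.dih.two h3) (by group)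
    (h2 _ h3 fun e he => by
      have := h1 _ (h.dih.conj y hy e he)
      calc _ = y⁻¹ * k * y * (k⁻¹ * e) := by group
        _ = y⁻¹ * (k * (y * e * y⁻¹)) * y * k⁻¹ := by rw [(Commute.inv_left (h1 e he)).eq]; group
        _ = _ := by rw [this]; group)
  rw [inv_mul_eq_one] at h4
  exact (mul_inv_eq_iff_eq_mul.mp h4.symm).symm

end Sm

namespace Sm

variable {S : Sylow 2 G} {z : G} (h : Sm (S : Subgroup G) z)
include h

theorem stronglyClosed : IsStronglyClosed (C0 (S : Subgroup G)) S := by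
  obtain ⟨E, F, s, n⟩ := h.ex
  refine ⟨(h.C0_le n).trans n.aE.le, fun x hx g hg => ?_⟩
  have key : ∀ H, H7.Ess 2 (S : Subgroup G) H → ∀ y ∈ N[H], ∀ a ∈ C0 (S : Subgroup G),
      y * a * y⁻¹ ∈ C0 (S : Subgroup G) := fun H hH y hy a ha => by
    obtain ⟨F, s, n⟩ := h.exists_nn hH
    obtain ⟨M, b⟩ := n.blk
    obtain ⟨m, hm, k, hk, -, t, ht, h1⟩ := h.fus b hy
    have h2 := conj_mem_C0 hm ha
    rw [(h1 a (h.C0_le n ha)).2]
    convert h2 using 1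
    calc _ = k * (t * (k⁻¹ * (m * a * m⁻¹) * k)) * t⁻¹ * k⁻¹ := by group
      _ = _ := by rw [b.aF.c ht ((h2 _ _ _ n).2 k hk)]; group
  have := H7.invariant_of_ess S (fun a => a ∈ C0 (S : Subgroup G))
    (fun y hy a _ => propext ⟨fun e => by simpa [mul_assoc] using conj_mem_C0 hy e,
      fun e => by simpa using conj_mem_C0 (inv_mem hy) e⟩)
    (fun H y hy a _ => propext ⟨fun e => by
      simpa [mul_assoc] using key H hy.1 y (hy.mem_normalizer S.2) _ e,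
      fun e => by simpa using key H hy.1 _ (inv_mem (hy.mem_normalizer S.2)) _ e⟩)
    (a := x) (g := g⁻¹) (n.aE.le (h.C0_le n hx)) (by rw [inv_inv]; exact hg)
  simpa using this.mpr hx

theorem focal (h0 : C0 (S : Subgroup G) = ⊥) :
    commutator G ⊓ (S : Subgroup G) ≤ closure (Gam S z) ⊔ ⁅(S : Subgroup G), (S : Subgroup G)⁆ := by
  have key : ∀ y ∈ N[S], ∀ a ∈ S, a⁻¹ * (y * a * y⁻¹) ∈ ⁅(S : Subgroup G), (S : Subgroup G)⁆ :=
    fun y hy a ha => by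
      obtain ⟨u, v, hu, hv, rfl, h1, h2⟩ := exists_pPart_mul_pPrimePart 2 y
      have h3 := h.cent_gam h0 (zpowers_le.mpr hy hv) (Nat.coprime_two_right.mp h2) a ha
      rw [show a⁻¹ * (u * v * a * (u * v)⁻¹) = ⁅a⁻¹, u⁆ by
        rw [mul_assoc u, ← h3, commutatorElement_def]; group]
      exact commutator_mem_commutator (inv_mem ha)
        (mem_of_is2_of_norm (isSylowIn_top S) h1 (mem_top _) (zpowers_le.mpr hy hu))
  refine focal_le S (fun y hy a ha => mem_sup_right (key y hy a ha)) fun H hH x hx a ha => ?_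
  obtain ⟨F, s, n⟩ := h.exists_nn hH
  obtain ⟨M, b⟩ := n.blk
  obtain ⟨m, hm, k, hk, hkM, t, ht, h1⟩ := h.fus b hx
  obtain ⟨h2, h3⟩ := h1 a ha
  have h4 := conj_mem_of_norm' hk h2
  have h5 : a⁻¹ * (x * a * x⁻¹) = a⁻¹ * (m * a * m⁻¹) * (k * (t * (k⁻¹ * (m * a * m⁻¹) * k) * t⁻¹ *
      (k⁻¹ * (m * a * m⁻¹) * k)⁻¹) * k⁻¹) := by
    rw [n.aE.c (conj_mem_of_norm (n.FN ht) h4) (inv_mem h4), h3]; group
  rw [h5]
  refine mul_mem (mem_sup_right (key m hm a (hH.le ha))) (mem_sup_left ?_)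
  rcases h.br_or n (b.aF.le ht) (n.FN ht) h4 with h6 | h6 <;> rw [h6]
  · simp
  · exact subset_closure (h.mem_gam n b hk hkM)

theorem dihedral (hG : commutator G = ⊤) (h0 : C0 (S : Subgroup G) = ⊥) :
    ∃ m : ℕ, 2 ≤ m ∧ Nonempty ((S : Subgroup G) ≃* DihedralGroup m) := by
  obtain ⟨E, F, s, n⟩ := h.ex
  obtain ⟨e, he, heE, heF⟩ := h.exists_gam n
  obtain ⟨f, hf, hm⟩ := h.dih.exists_gen he
  have e2 := h.dih.sq e he
  have f2 := h.dih.sq f hf
  have h1 : e * f ≠ 1 := fun e1 => by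
    obtain ⟨g, hg, hgF, -⟩ := h.exists_gam n.symm
    have := hm g hg
    rw [e1, zpowers_one_eq_bot, mem_bot, mul_eq_one_iff_eq_inv] at this
    exact heF (this ▸ inv_mem hgF)
  have h2 : closure {e, f} = (S : Subgroup G) := by
    by_contra hne
    have h3 : closure {e, f} ≤ (S : Subgroup G) := by
      rw [closure_le, Set.insert_subset_iff, Set.singleton_subset_iff]
      exact ⟨h.dih.le e he, h.dih.le f hf⟩
    obtain ⟨K, hK, h4, h5⟩ := H7.exists_le_index_eq (p := 2) S.2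
      (H := (closure {e, f}).subgroupOf S) fun e => hne (le_antisymm h3 (subgroupOf_eq_top.mp e))
    have h6 := h.focal h0
    rw [hG, top_inf_eq] at h6
    have h7 : (S : Subgroup G) ≤ K.map (S : Subgroup G).subtype := h6.trans (sup_le ?_ ?_)
    · rw [show K = ⊤ from eq_top_iff.mpr fun x _ => by
        obtain ⟨y, hy, e⟩ := h7 x.2
        exact (Subtype.ext e : y = x) ▸ hy, index_top] at h5
      omega
    · refine (closure_le _).mpr fun g hg => ⟨⟨g, h.dih.le g hg⟩, h4 ?_, rfl⟩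
      have h8 : e ∈ closure {e, f} := subset_closure (by simp)
      exact (mul_mem_cancel_left h8).mp (zpowers_le.mpr (mul_mem h8 (subset_closure (by simp))) (hm g hg))
    · rw [← (S : Subgroup G).map_subtype_commutator]
      exact map_mono (H7.commutator_le_of_index_prime (by rw [h5]; exact Nat.prime_two))
  have hone : ∀ g ∈ Gam (S : Subgroup G) z, orderOf g = 2 := fun g hg => orderOf_two_of_sq (h.dih.sq g hg) (by
    obtain ⟨E, F, s, M, -, -, -, h3, -⟩ := h.gam_spec hg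
    rintro rfl
    exact h3 (one_mem _))
  refine ⟨orderOf (e * f), ?_, by
    rw [← h2]; exact S0206.result e f (hone e he) (hone f hf) fun e => h1 (e ▸ e2)⟩
  have := orderOf_pos (e * f)
  have := mt orderOf_eq_one_iff.mp h1
  omega

end Sm

end Cfsg.Agent.H96
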