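import Mathlib
import Cfsg.Agent.H79.WreathSyl

/-! Abstract model of a Sylow `2`-subgroup of `GL₂(q)`, `q` odd, and of the Sylow `2`-subgroups of
`PSL_n(q)` as sections of wreath products. -/

set_option autoImplicit false
set_option linter.unusedSectionVars false
open Subgroup

namespace Cfsg.Agent.H96.AL

/-- `R = A ∪ A j` with `A` abelian, `c` generating `[A, j]`, scalars `ζ` and determinant `δ`. -/
structure RS {R A C : Type*} [Group R] [CommGroup A] [CommGroup C] (e : A →* R) (b : A →* A)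
    (j : R) (c a1 : A) (ζ : C →* A) (δ : R →* C) : Prop where
  two : IsPGroup 2 R
  inj : Function.Injective e
  cov : ∀ x, (∃ a, x = e a) ∨ ∃ a, x = e a * j
  cj : ∀ a, j * e a * j⁻¹ = e (b a)
  cm : ∀ a, a⁻¹ * b a ∈ zpowers c
  a1c : a1⁻¹ * b a1 = c
  bc : b c = c⁻¹
  c2 : c ^ 2 ≠ 1
  dc : δ (e c) = 1
  dj : δ j = 1
  bz : ∀ l, b (ζ l) = ζ l
  fix : ∀ a, b a = a → ∃ l, ζ l = a
  zinj : Function.Injective ζ
  dz : ∀ l, δ (e (ζ l)) = l ^ 2
  uniq : ∀ l, l ^ 2 = 1 → ζ l ∈ zpowers c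
  four : c ^ 4 = 1 → ∀ l : C, l ^ 4 = 1
  ker : ∀ a, δ (e a) = 1 → a ∈ zpowers c

theorem eq_one_of_odd {X : Type*} [Group X] (h : IsPGroup 2 X) {x : X} {n : ℕ} (hn : Odd n)
    (hx : x ^ n = 1) : x = 1 := by
  obtain ⟨k, hk⟩ := h x
  have h1 := orderOf_dvd_of_pow_eq_one hx
  have h2 := orderOf_dvd_of_pow_eq_one hk
  have h3 : Nat.Coprime n (2 ^ k) := Nat.Coprime.pow_right _ (Nat.coprime_two_right.2 hn)
  exact orderOf_eq_one_iff.1 (Nat.eq_one_of_self_dvd_coprime h1 h2 h3)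
where Nat.eq_one_of_self_dvd_coprime {a b c : ℕ} (h1 : a ∣ b) (h2 : a ∣ c) (h3 : Nat.Coprime b c) :
    a = 1 := Nat.dvd_one.1 (h3 ▸ Nat.dvd_gcd h1 h2)

/-- An automorphism of odd order fixing the involutions of an invariant abelian `2`-subgroup
fixes the subgroup. -/
theorem fix_of_pow {X : Type*} [Group X] (h : IsPGroup 2 X) {α : MulAut X} {n : ℕ} (hn : Odd n)
    (hα : α ^ n = 1) {t : X} (ht : α (t⁻¹ * α t) = t⁻¹ * α t) : α t = t := by
  have key : ∀ m : ℕ, (α ^ m) t = t * (t⁻¹ * α t) ^ m := by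
    intro m
    induction m with
    | zero => simp
    | succ m ih =>
      rw [pow_succ', MulAut.mul_apply, ih, map_mul, map_pow, ht, pow_succ', ← mul_assoc,
        mul_inv_cancel_left]
  have h1 := key n
  rw [hα, MulAut.one_apply, left_eq_mul] at h1
  have := eq_one_of_odd h hn h1
  exact (inv_mul_eq_one.1 this).symm

theorem fix_of_omega {X : Type*} [Group X] (h : IsPGroup 2 X) {α : MulAut X} {n : ℕ} (hn : Odd n)
    (hα : α ^ n = 1) {H : Subgroup X} (hc : ∀ s ∈ H, ∀ t ∈ H, s * t = t * s)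
    (hi : ∀ t ∈ H, α t ∈ H) (ho : ∀ t ∈ H, t * t = 1 → α t = t) : ∀ t ∈ H, α t = t := by
  have key : ∀ s : ℕ, ∀ t ∈ H, t ^ 2 ^ s = 1 → α t = t := by
    intro s
    induction s with
    | zero => intro t _ h1; rw [pow_zero, pow_one] at h1; rw [h1, map_one]
    | succ s ih =>
      intro t ht h1
      have h2 := ih (t * t) (mul_mem ht ht) (by rw [← pow_two, ← pow_mul, ← pow_succ', h1])
      refine fix_of_pow h hn hα (ho _ (mul_mem (inv_mem ht) (hi t ht)) ?_)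
      rw [map_mul] at h2
      have h3 := hc _ (hi t ht) _ (inv_mem ht)
      calc t⁻¹ * α t * (t⁻¹ * α t) = t⁻¹ * (α t * t⁻¹) * α t := by group
        _ = t⁻¹ * t⁻¹ * (α t * α t) := by rw [h3]; group
        _ = 1 := by rw [h2]; group
  intro t ht
  obtain ⟨k, hk⟩ := h t
  exact key k t ht hk

variable {R A C : Type*} [Group R] [CommGroup A] [CommGroup C] {e : A →* R} {b : A →* A}
  {j : R} {c a1 : A} {ζ : C →* A} {δ : R →* C}

/-- the commutator with `j` -/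
def kap (b : A →* A) : A →* A := (MonoidHom.id A)⁻¹ * b

theorem kap_apply (a : A) : kap b a = a⁻¹ * b a := rfl

open Classical in
/-- the action of `R` on `A` -/
noncomputable def ac (e : A →* R) (b : A →* A) (x : R) : A →* A :=
  if x ∈ e.range then MonoidHom.id A else b

theorem ac_in {x : R} (hx : x ∈ e.range) (a : A) : ac e b x a = a := by
  rw [ac, if_pos hx]; rfl

theorem ac_out {x : R} (hx : x ∉ e.range) (a : A) : ac e b x a = b a := by
  rw [ac, if_neg hx]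

namespace RS
variable (h : RS e b j c a1 ζ δ)
include h

theorem twoA : IsPGroup 2 A := h.two.of_injective e h.inj

theorem twoC : IsPGroup 2 C := h.twoA.of_injective ζ h.zinj

theorem kz (l : C) : kap b (ζ l) = 1 := by rw [kap_apply, h.bz, inv_mul_cancel]

theorem kc : kap b c = c⁻¹ ^ 2 := by rw [kap_apply, h.bc, pow_two]

theorem k1 : kap b a1 = c := h.a1c

theorem cen_of {a : A} (ha : kap b a = 1) : ∃ l, ζ l = a :=
  h.fix a (inv_mul_eq_one.1 ha).symm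

theorem c_ne {l : C} : ζ l ≠ c := fun e1 => by
  have := h.kz l
  rw [e1, h.kc, inv_pow, inv_eq_one] at this
  exact h.c2 this

theorem ci_ne {l : C} : ζ l ≠ c⁻¹ := fun e1 => h.c_ne (l := l⁻¹) (by rw [map_inv, e1, inv_inv])

theorem c1 : c ≠ 1 := fun e1 => h.c2 (by rw [e1, one_pow])

theorem j_not : j ∉ e.range := by
  rintro ⟨a, ha⟩
  have h1 := h.cj c
  rw [← ha, ← map_inv, ← map_mul, ← map_mul, mul_inv_cancel_comm, h.bc] at h1
  exact h.c2 (by rw [pow_two]; nth_rewrite 2 [h.inj h1]; exact mul_inv_cancel c)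

theorem jj : ∃ l, l ^ 2 = 1 ∧ j * j = e (ζ l) := by
  rcases h.cov (j * j) with ⟨a, ha⟩ | ⟨a, ha⟩
  · have h1 := h.cj a
    rw [← ha, show j * (j * j) * j⁻¹ = j * j by group, ha] at h1
    obtain ⟨l, rfl⟩ := h.fix a (h.inj h1).symm
    refine ⟨l, ?_, ha⟩
    rw [← h.dz, ← ha, map_mul, h.dj, one_mul]
  · exact absurd ⟨a, (mul_right_cancel ha).symm⟩ h.j_not

theorem z_comm (l : C) (x : R) : x * e (ζ l) * x⁻¹ = e (ζ l) := by
  rcases h.cov x with ⟨a, rfl⟩ | ⟨a, rfl⟩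
  · rw [← map_inv, ← map_mul, ← map_mul, mul_inv_cancel_comm]
  · rw [show e a * j * e (ζ l) * (e a * j)⁻¹ = e a * (j * e (ζ l) * j⁻¹) * (e a)⁻¹ by group,
      h.cj, h.bz, ← map_inv, ← map_mul, ← map_mul, mul_inv_cancel_comm]

theorem bb (a : A) : b (b a) = a := by
  obtain ⟨l, -, hl⟩ := h.jj
  apply h.inj
  rw [← h.cj, ← h.cj, show j * (j * e a * j⁻¹) * j⁻¹ = (j * j) * e a * (j * j)⁻¹ by group, hl,
    ← map_inv, ← map_mul, ← map_mul, mul_inv_cancel_comm]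

theorem conj_in {x : R} (hx : x ∈ e.range) (a : A) : x * e a * x⁻¹ = e a := by
  obtain ⟨y, rfl⟩ := hx
  rw [← map_inv, ← map_mul, ← map_mul, mul_inv_cancel_comm]

theorem conj_out {x : R} (hx : x ∉ e.range) (a : A) : x * e a * x⁻¹ = e (b a) := by
  rcases h.cov x with ⟨y, rfl⟩ | ⟨y, rfl⟩
  · exact absurd ⟨y, rfl⟩ hx
  · rw [show e y * j * e a * (e y * j)⁻¹ = e y * (j * e a * j⁻¹) * (e y)⁻¹ by group,
      h.cj, ← map_inv, ← map_mul, ← map_mul, mul_inv_cancel_comm]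

theorem out_mul {x y : R} (hx : x ∉ e.range) (hy : y ∉ e.range) : x * y⁻¹ ∈ e.range := by
  rcases h.cov x with ⟨a, rfl⟩ | ⟨a, rfl⟩
  · exact absurd ⟨a, rfl⟩ hx
  rcases h.cov y with ⟨a', rfl⟩ | ⟨a', rfl⟩
  · exact absurd ⟨a', rfl⟩ hy
  exact ⟨a * a'⁻¹, by rw [map_mul, map_inv]; group⟩

theorem normal : e.range.Normal := ⟨by
  rintro _ ⟨a, rfl⟩ x
  by_cases hx : x ∈ e.range
  · rw [h.conj_in hx]; exact ⟨a, rfl⟩
  · rw [h.conj_out hx]; exact ⟨_, rfl⟩⟩

theorem conj_j_not (x : R) : x * j * x⁻¹ ∉ e.range := fun h1 => by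
  have := h.normal.conj_mem _ h1 x⁻¹
  rw [show x⁻¹ * (x * j * x⁻¹) * x⁻¹⁻¹ = j by group] at this
  exact h.j_not this

theorem a1_not : a1 ∉ zpowers c := by
  rintro ⟨k, hk⟩
  have h1 := h.k1
  rw [← hk, map_zpow, h.kc] at h1
  have h2 : c ^ (2 * k + 1) = 1 := by
    have : c ^ (2 * k + 1) = ((c⁻¹ ^ 2) ^ k)⁻¹ * c := by
      rw [← zpow_natCast, ← zpow_mul, inv_zpow', ← zpow_neg, zpow_add_one]; simp
    rw [this, h1, inv_mul_cancel]
  have h3 : c ^ (2 * k + 1).natAbs = 1 := by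
    rw [← zpow_natCast]
    rcases Int.natAbs_eq (2 * k + 1) with e1 | e1
    · rw [← e1, h2]
    · rw [← neg_neg ((2 * k + 1).natAbs : ℤ), ← e1, zpow_neg, h2, inv_one]
  exact h.c1 (eq_one_of_odd h.twoA (Int.natAbs_odd.2 (odd_two_mul_add_one k)) h3)

theorem db (a : A) : δ (e (b a)) = δ (e a) := by
  rw [← h.cj, map_mul, map_mul, map_inv, mul_inv_cancel_comm]

theorem kb (a : A) : kap b (b a) = (kap b a)⁻¹ := by
  rw [kap_apply, kap_apply, h.bb, mul_inv_rev, inv_inv]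

theorem ba1 : b a1 = a1 * c := by rw [← h.a1c, mul_inv_cancel_left]

theorem conj_ac (x : R) (a : A) : x * e a * x⁻¹ = e (ac e b x a) := by
  by_cases hx : x ∈ e.range
  · rw [h.conj_in hx, ac_in hx]
  · rw [h.conj_out hx, ac_out hx]

theorem dac (x : R) (a : A) : δ (e (ac e b x a)) = δ (e a) := by
  rw [← h.conj_ac, map_mul, map_mul, map_inv, mul_inv_cancel_comm]

theorem ac_c (x : R) : ac e b x c = c ∨ ac e b x c = c⁻¹ := by
  by_cases hx : x ∈ e.range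
  · exact Or.inl (ac_in hx c)
  · exact Or.inr ((ac_out hx c).trans h.bc)

theorem zone {l : C} (hl : ζ l = 1) : l = 1 := h.zinj (hl.trans (map_one ζ).symm)

theorem c_ne_inv : c ≠ c⁻¹ := fun e1 => h.c2 (by rw [pow_two]; nth_rewrite 2 [e1]; exact mul_inv_cancel c)

theorem d4 (h4 : c ^ 4 = 1) {u : A} {l : C} (hu : kap b u = ζ l) : δ (e u) ^ 2 = 1 := by
  have hm : kap b u ∈ zpowers c := h.cm u
  have hf : IsOfFinOrder c := isOfFinOrder_iff_pow_eq_one.2 ⟨4, by norm_num, h4⟩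
  obtain ⟨n, hn⟩ := hf.mem_powers_iff_mem_zpowers.2 hm
  change c ^ n = _ at hn
  rw [← Nat.div_add_mod n 4, pow_add, pow_mul, h4, one_pow, one_mul] at hn
  have hlt : n % 4 < 4 := Nat.mod_lt _ (by norm_num)
  have c3 : c ^ 3 = c⁻¹ := eq_inv_of_mul_eq_one_left (by rw [← pow_succ, h4])
  generalize n % 4 = r at hn hlt
  interval_cases r
  · obtain ⟨r, rfl⟩ := h.cen_of (hn.symm.trans (pow_zero c))
    rw [h.dz, ← pow_mul, h.four h4]
  · exact absurd (hu.symm.trans (hn.symm.trans (pow_one c))) h.c_ne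
  · obtain ⟨r, hr⟩ := h.cen_of (a := u * c) (by
      rw [map_mul, ← hn, h.kc, inv_pow, mul_inv_cancel])
    rw [show u = ζ r * c⁻¹ by rw [hr, mul_inv_cancel_right], map_mul, map_mul, map_inv, map_inv, h.dc, h.dz,
      inv_one, mul_one, ← pow_mul, h.four h4]
  · exact absurd (hu.symm.trans (hn.symm.trans c3)) h.ci_ne

end RS

end Cfsg.Agent.H96.AL
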