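import Cfsg.Agent.H96.AutLA

/-! The model of a Sylow `2`-subgroup of `PSL_n(q)`: the abelian subgroup `A` is characteristic. -/

set_option autoImplicit false
set_option linter.unusedSectionVars false
set_option linter.unusedVariables false
set_option linter.unusedSimpArgs false
open Subgroup Equiv

namespace Cfsg.Agent.H96.AL

open H79 (Wr wr_mul_left)

variable {R A C : Type*} [Group R] [CommGroup A] [CommGroup C] {ι : Type*} [Fintype ι] [DecidableEq ι]

/-- The determinant on the wreath product. -/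
def Det (ι : Type*) [Fintype ι] (δ : R →* C) : Wr ι R →* C where
  toFun g := ∏ i, δ (g.left i)
  map_one' := by simp
  map_mul' x y := by
    simp only [wr_mul_left, map_mul, Finset.prod_mul_distrib]
    rw [Equiv.prod_comp x.right⁻¹ fun i => δ (y.left i)]

/-- The group `K`. -/
def KK (od : Prop) (P : Subgroup (Perm ι)) (δ : R →* C) : Subgroup (Wr ι R) where
  carrier := {g | g.right ∈ P ∧ (od ∨ Det ι δ g = 1)}
  one_mem' := ⟨one_mem P, Or.inr (map_one _)⟩
  mul_mem' := fun {x y} hx hy => ⟨mul_mem hx.1 hy.1,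
    hx.2.elim Or.inl fun h1 => hy.2.imp id fun h2 => by rw [map_mul, h1, h2, one_mul]⟩
  inv_mem' := fun {x} hx => ⟨inv_mem hx.1, hx.2.imp id fun h1 => by rw [map_inv, h1, inv_one]⟩

/-- The base group over `A`. -/
def bsW (ι : Type*) (e : A →* R) : (ι → A) →* Wr ι R := SemidirectProduct.inl.comp (e.compLeft ι)

theorem bsW_left (e : A →* R) (a : ι → A) (i : ι) : (bsW ι e a).left i = e (a i) := rfl

theorem bsW_right (e : A →* R) (a : ι → A) : (bsW ι e a).right = 1 := rfl

theorem wr_ext {x y : Wr ι R} (h1 : ∀ i, x.left i = y.left i) (h2 : x.right = y.right) : x = y :=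
  SemidirectProduct.ext (funext h1) h2

theorem wr_inv_left (x : Wr ι R) (i : ι) : x⁻¹.left i = (x.left (x.right i))⁻¹ := rfl

/-- An element supported in one block. -/
def sg (i : ι) (r : R) : Wr ι R := SemidirectProduct.inl (Pi.mulSingle i r)

theorem sg_right (i : ι) (r : R) : (sg i r).right = 1 := rfl

theorem sg_same (i : ι) (r : R) : (sg i r).left i = r := Pi.mulSingle_eq_same (M := fun _ => R) i r

theorem sg_ne {i k : ι} (h : k ≠ i) (r : R) : (sg i r).left k = 1 :=
  Pi.mulSingle_eq_of_ne (M := fun _ => R) h r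

theorem conj_sg (g : Wr ι R) (i : ι) (r : R) :
    g * sg i r * g⁻¹ = sg (g.right i) (g.left (g.right i) * r * (g.left (g.right i))⁻¹) := by
  refine wr_ext (fun k => ?_) (by simp [sg_right])
  rw [wr_mul_left, wr_mul_left, wr_inv_left]
  simp only [SemidirectProduct.mul_right, sg_right, mul_one, Perm.coe_inv, apply_symm_apply]
  rcases eq_or_ne k (g.right i) with rfl | hk
  · rw [symm_apply_apply, sg_same, sg_same]
  · rw [sg_ne hk, sg_ne (fun e => hk (by rw [← e, apply_symm_apply])), mul_one, mul_inv_cancel]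

theorem det_sg (δ : R →* C) (i : ι) (r : R) : Det ι δ (sg i r) = δ r := by
  change ∏ k, δ ((sg i r).left k) = _
  rw [Finset.prod_eq_single i (fun k _ hk => by rw [sg_ne hk, map_one]) (by simp), sg_same]

variable {e : A →* R} {b : A →* A} {j : R} {c a1 : A} {ζ : C →* A} {δ : R →* C} {od : Prop}
  {P : Subgroup (Perm ι)} {T : Type*} [Group T]

/-- The base group of `K`. -/
abbrev AA (e : A →* R) (od : Prop) (P : Subgroup (Perm ι)) (δ : R →* C) : Subgroup (ι → A) :=
  (KK od P δ).comap (bsW ι e)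

theorem mem_AA {a : ι → A} : a ∈ AA e od P δ ↔ od ∨ ∏ i, δ (e (a i)) = 1 :=
  ⟨fun h => h.2, fun h => ⟨one_mem P, h⟩⟩

/-- The map from the base group to `T`. -/
def ph (e : A →* R) (p : KK od P δ →* T) : AA e od P δ →* T :=
  p.comp ((bsW ι e).subgroupComap (KK od P δ))

theorem bsW_single (e : A →* R) (i : ι) (x : A) : bsW ι e (Pi.mulSingle i x) = sg i (e x) := by
  refine wr_ext (fun k => ?_) rfl
  rcases eq_or_ne k i with rfl | hk
  · rw [bsW_left, sg_same, Pi.mulSingle_eq_same]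
  · rw [bsW_left, sg_ne hk, Pi.mulSingle_eq_of_ne hk, map_one]

theorem single_mem {i : ι} {x : A} (h : od ∨ δ (e x) = 1) : Pi.mulSingle i x ∈ AA e od P δ := by
  refine ⟨one_mem P, h.imp id fun h => ?_⟩
  rw [bsW_single, det_sg, h]

theorem single2_mem (i i' : ι) (x : A) :
    (Pi.mulSingle i x * Pi.mulSingle i' x⁻¹ : ι → A) ∈ AA e od P δ := by
  refine ⟨one_mem P, Or.inr ?_⟩
  rw [map_mul, bsW_single, bsW_single, map_mul, det_sg, det_sg, map_inv, map_inv, mul_inv_cancel]

omit [Fintype ι] [DecidableEq ι] in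
theorem two_eq {i i' : ι} (hι : ∀ k, k = i ∨ k = i') {k a a' : ι} (h : a ≠ k) (h' : a' ≠ k) : a = a' := by
  rcases hι k with e1 | e1 <;> rcases hι a with e2 | e2 <;> rcases hι a' with e3 | e3 <;> simp_all

/-- The model. -/
structure Mdl (e : A →* R) (b : A →* A) (j : R) (c a1 : A) (ζ : C →* A) (δ : R →* C) (od : Prop)
    (P : Subgroup (Perm ι)) (p : KK od P δ →* T) : Prop where
  rs : RS e b j c a1 ζ δ
  twoT : IsPGroup 2 T
  surj : Function.Surjective p
  ker : ∀ g, p g = 1 ↔ ∃ l, (od → l = 1) ∧ g.1 = bsW ι e fun _ => ζ l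

namespace Mdl

variable {p : KK od P δ →* T} (m : Mdl e b j c a1 ζ δ od P p)
include m

theorem ph_one (a : AA e od P δ) : ph e p a = 1 ↔ ∃ l, (od → l = 1) ∧ ∀ i, a.1 i = ζ l := by
  refine (m.ker _).trans (exists_congr fun l => and_congr_right fun _ => ⟨fun h i => ?_, fun h => ?_⟩)
  · exact m.rs.inj (congrArg (fun g : Wr ι R => g.left i) h)
  · exact congrArg (bsW ι e) (funext h)

theorem ph_eq {u v : AA e od P δ} (h : ph e p u = ph e p v) :
    ∃ l, (od → l = 1) ∧ ∀ i, v.1 i = u.1 i * ζ l := by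
  obtain ⟨l, h1, h2⟩ := (m.ph_one (u⁻¹ * v)).mp (by rw [map_mul, map_inv, h, inv_mul_cancel])
  exact ⟨l, h1, fun i => by rw [← h2 i]; exact (mul_inv_cancel_left _ _).symm⟩

theorem mem_A (g : KK od P δ) :
    p g ∈ (ph e p).range ↔ g.1.right = 1 ∧ ∀ i, g.1.left i ∈ e.range := by
  constructor
  · rintro ⟨a, ha⟩
    obtain ⟨l, -, hl⟩ := (m.ker (((bsW ι e).subgroupComap (KK od P δ) a)⁻¹ * g)).mp (by
      rw [map_mul, map_inv, ← ha]; exact inv_mul_cancel _)
    have e1 : g.1 = bsW ι e (a.1 * fun _ => ζ l) := by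
      rw [map_mul, ← hl]
      exact (mul_inv_cancel_left _ _).symm
    rw [e1]
    exact ⟨rfl, fun i => ⟨_, rfl⟩⟩
  · rintro ⟨h1, h2⟩
    choose a ha using h2
    have e1 : bsW ι e a = g.1 := wr_ext ha h1.symm
    exact ⟨⟨a, by change bsW ι e a ∈ KK od P δ; rw [e1]; exact g.2⟩, congrArg p (Subtype.ext e1)⟩

theorem conj_bs (g : Wr ι R) (a : ι → A) :
    g * bsW ι e a * g⁻¹ = bsW ι e fun i => ac e b (g.left i) (a (g.right⁻¹ i)) := by
  refine wr_ext (fun k => ?_) (by simp [bsW_right])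
  rw [wr_mul_left, wr_mul_left, wr_inv_left, bsW_left, bsW_left, ← m.rs.conj_ac]
  simp only [SemidirectProduct.mul_right, bsW_right, mul_one, Perm.coe_inv, apply_symm_apply]

/-- The action of `K` on the base group. -/
noncomputable def act (g : KK od P δ) (a : AA e od P δ) : AA e od P δ :=
  ⟨fun i => ac e b (g.1.left i) (a.1 (g.1.right⁻¹ i)), by
    change bsW ι e _ ∈ KK od P δ
    rw [← m.conj_bs]
    exact mul_mem (mul_mem g.2 a.2) (inv_mem g.2)⟩

theorem act_apply (g : KK od P δ) (a : AA e od P δ) (i : ι) :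
    (m.act g a).1 i = ac e b (g.1.left i) (a.1 (g.1.right⁻¹ i)) := rfl

theorem conj (g : KK od P δ) (a : AA e od P δ) : p g * ph e p a * (p g)⁻¹ = ph e p (m.act g a) := by
  change p g * p _ * (p g)⁻¹ = p _
  rw [← map_inv, ← map_mul, ← map_mul]
  exact congrArg p (Subtype.ext (m.conj_bs g.1 a.1))

theorem normal : (ph e p).range.Normal := ⟨by
  rintro _ ⟨a, rfl⟩ t
  obtain ⟨g, rfl⟩ := m.surj t
  exact ⟨_, (m.conj g a).symm⟩⟩

omit m in
theorem comm {x y : T} (hx : x ∈ (ph e p).range) (hy : y ∈ (ph e p).range) : x * y = y * x := by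
  obtain ⟨a, rfl⟩ := hx
  obtain ⟨a', rfl⟩ := hy
  rw [← map_mul, ← map_mul, mul_comm]

/-- The reflection in block `i`. -/
def w (i : ι) : KK od P δ := ⟨sg i j, one_mem P, Or.inr (by rw [det_sg, m.rs.dj])⟩

/-- `c` in block `i`. -/
def cc (i : ι) : AA e od P δ := ⟨Pi.mulSingle i c, single_mem (Or.inr m.rs.dc)⟩

omit m in
/-- A permutation of the blocks. -/
def pm (σ : Perm ι) (hσ : σ ∈ P) : KK od P δ :=
  ⟨SemidirectProduct.inr σ, hσ, Or.inr (by change ∏ _i : ι, δ 1 = 1; simp)⟩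

theorem cc_same (i : ι) : (m.cc i).1 i = c := Pi.mulSingle_eq_same (M := fun _ => A) i c

theorem cc_ne {i k : ι} (h : k ≠ i) : (m.cc i).1 k = 1 := Pi.mulSingle_eq_of_ne (M := fun _ => A) h c

theorem act_w_same (i : ι) (a : AA e od P δ) : (m.act (m.w i) a).1 i = b (a.1 i) := by
  rw [act_apply]
  change ac e b ((sg i j).left i) (a.1 i) = _
  rw [sg_same, ac_out m.rs.j_not]

theorem act_w_ne {i k : ι} (h : k ≠ i) (a : AA e od P δ) : (m.act (m.w i) a).1 k = a.1 k := by
  rw [act_apply]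
  change ac e b ((sg i j).left k) (a.1 k) = _
  rw [sg_ne h, ac_in (one_mem _)]

theorem mem_of_cent (big : od ∨ Nontrivial ι) {t : T} (h : ∀ a, t * ph e p a * t⁻¹ = ph e p a) :
    t ∈ (ph e p).range := by
  obtain ⟨g, rfl⟩ := m.surj t
  have key := fun i => m.ph_eq ((h (m.cc i)).symm.trans (m.conj g (m.cc i)))
  have h1 : g.1.right = 1 := by
    ext i
    by_contra hi
    rw [Perm.one_apply] at hi
    obtain ⟨l, -, hl⟩ := key i
    have := hl (g.1.right i)
    rw [act_apply, m.cc_ne hi, one_mul, Perm.coe_inv, symm_apply_apply, cc_same] at this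
    rcases m.rs.ac_c (g.1.left (g.1.right i)) with e1 | e1
    · exact m.rs.c_ne (this.symm.trans e1)
    · exact m.rs.ci_ne (this.symm.trans e1)
  refine (m.mem_A g).mpr ⟨h1, fun i => ?_⟩
  by_contra hi
  obtain ⟨l, hl0, hl⟩ := key i
  have e1 := hl i
  rw [act_apply, h1, inv_one, Perm.one_apply, cc_same, ac_out hi, m.rs.bc] at e1
  have e2 : ζ l = 1 := by
    rcases big with ho | hn
    · rw [hl0 ho, map_one]
    · obtain ⟨k, hk⟩ := exists_ne i
      have := hl k
      rwa [act_apply, h1, inv_one, Perm.one_apply, m.cc_ne hk, map_one, one_mul, eq_comm] at this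
  rw [e2, mul_one] at e1
  exact m.rs.c_ne_inv e1.symm

theorem gen {H : Subgroup T} (h1 : (ph e p).range ≤ H) (h2 : ∀ i, p (m.w i) ∈ H)
    (h3 : ∀ σ hσ, p (pm σ hσ) ∈ H) (t : T) : t ∈ H := by
  classical
  have key : ∀ n : ℕ, ∀ g : KK od P δ, g.1.right = 1 →
      (Finset.univ.filter fun i => g.1.left i ∉ e.range).card = n → p g ∈ H := by
    intro n
    induction n with
    | zero =>
      intro g hg hn
      refine h1 ((m.mem_A g).mpr ⟨hg, fun i => ?_⟩)
      by_contra hi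
      exact absurd (Finset.card_eq_zero.mp hn) (Finset.ne_empty_of_mem (a := i) (by simpa using hi))
    | succ n ih =>
      intro g hg hn
      obtain ⟨i, hi⟩ := Finset.card_pos.mp (n.succ_pos.trans_eq hn.symm)
      have hi' : g.1.left i ∉ e.range := by simpa using hi
      have e1 : ∀ k, (g * (m.w i)⁻¹).1.left k = g.1.left k * ((sg i j).left k)⁻¹ := fun k => by
        change (g.1 * (sg i j)⁻¹).left k = _
        rw [wr_mul_left, hg, wr_inv_left]; rfl
      have := ih (g * (m.w i)⁻¹) (by change (g.1 * (sg i j)⁻¹).right = 1; simp [hg, sg_right]) (by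
        refine Nat.add_right_cancel (m := 1) ?_
        rw [← hn, ← Finset.card_erase_add_one hi]
        congr 2
        ext k
        simp only [Finset.mem_filter, Finset.mem_univ, true_and, Finset.mem_erase, e1]
        rcases eq_or_ne k i with rfl | hk
        · rw [sg_same]
          simp [m.rs.out_mul hi' m.rs.j_not]
        · rw [sg_ne hk]
          simp [hk])
      rw [map_mul, map_inv] at this
      exact (mul_mem_cancel_right (inv_mem (h2 i))).mp this
  obtain ⟨g, rfl⟩ := m.surj t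
  have := key _ (g * (pm g.1.right g.2.1)⁻¹) (by
    change (g.1 * (SemidirectProduct.inr g.1.right)⁻¹).right = 1; simp) rfl
  rw [map_mul, map_inv] at this
  exact (mul_mem_cancel_right (inv_mem (h3 _ _))).mp this

section Step1

variable {N : Subgroup T} (hN : N.Normal) (hc : ∀ x ∈ N, ∀ y ∈ N, x * y = y * x)
include hN hc

theorem exists_base {x : T} (hx : x ∈ N) (hx' : x ∉ (ph e p).range) :
    ∃ g, p g ∈ N ∧ g.1.right = 1 ∧ ∃ i, g.1.left i ∉ e.range := by
  obtain ⟨g, rfl⟩ := m.surj x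
  by_cases h1 : g.1.right = 1
  · refine ⟨g, hx, h1, ?_⟩
    by_contra h
    push Not at h
    exact hx' ((m.mem_A g).mpr ⟨h1, h⟩)
  obtain ⟨i, hi⟩ : ∃ i, g.1.right i ≠ i := by
    by_contra h
    push Not at h
    exact h1 (Perm.ext h)
  refine ⟨g * m.w i * g⁻¹ * (m.w i)⁻¹, ?_, ?_, g.1.right i, ?_⟩
  · rw [mul_assoc, mul_assoc, ← mul_assoc (m.w i), map_mul, map_mul, map_mul, map_inv, map_inv]
    exact mul_mem hx (hN.conj_mem _ (inv_mem hx) _)
  · change (g.1 * sg i j * g.1⁻¹ * (sg i j)⁻¹).right = 1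
    simp [sg_right]
  · change (g.1 * sg i j * g.1⁻¹ * (sg i j)⁻¹).left _ ∉ _
    rw [conj_sg, wr_mul_left, sg_right, wr_inv_left, sg_right, sg_same, inv_one, Perm.one_apply,
      Perm.one_apply, sg_ne hi, inv_one, mul_one]
    exact m.rs.conj_j_not _

theorem cm_mem {g : KK od P δ} (hg : p g ∈ N) (a : AA e od P δ) : ph e p (a⁻¹ * m.act g a) ∈ N := by
  rw [map_mul, map_inv, ← m.conj, ← mul_assoc, ← mul_assoc]
  have := hN.conj_mem _ hg (ph e p a)⁻¹
  rw [inv_inv] at this
  exact mul_mem this (inv_mem hg)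

theorem fix_of {g : KK od P δ} (hg : p g ∈ N) {u : AA e od P δ} (hu : ph e p u ∈ N) :
    ∃ l, (od → l = 1) ∧ ∀ i, (m.act g u).1 i = u.1 i * ζ l :=
  m.ph_eq (by rw [← m.conj, hc _ hg _ hu, mul_inv_cancel_right])

theorem exc (big : od ∨ Nontrivial ι) {g : KK od P δ} (hg : p g ∈ N) (h1 : g.1.right = 1) {i : ι}
    (hi : g.1.left i ∉ e.range) :
    ¬ od ∧ c ^ 4 = 1 ∧ (∀ k, g.1.left k ∉ e.range) ∧ ∀ i' ≠ i, ∀ k, k = i ∨ k = i' := by
  have ap : ∀ (a : AA e od P δ) k, (m.act g a).1 k = ac e b (g.1.left k) (a.1 k) := fun a k => by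
    rw [act_apply, h1, inv_one, Perm.one_apply]
  have no : ¬ od := fun ho => by
    let a : AA e od P δ := ⟨Pi.mulSingle i a1, single_mem (Or.inl ho)⟩
    obtain ⟨l, hl0, hl⟩ := m.fix_of hN hc hg (m.cm_mem hN hc hg a)
    have e1 : (a⁻¹ * m.act g a).1 i = c := by
      change (a.1 i)⁻¹ * (m.act g a).1 i = c
      rw [ap, ac_out hi]
      simp only [a, Pi.mulSingle_eq_same, m.rs.a1c]
    have := hl i
    rw [ap, ac_out hi, e1, hl0 ho, map_one, mul_one, m.rs.bc] at this
    exact m.rs.c_ne_inv this.symm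
  have key : ∀ i' ≠ i, c ^ 4 = 1 ∧ g.1.left i' ∉ e.range ∧ ∀ k, k = i ∨ k = i' := fun i' hi' => by
    let a : AA e od P δ := ⟨_, single2_mem i i' a1⟩
    obtain ⟨l, hl0, hl⟩ := m.fix_of hN hc hg (m.cm_mem hN hc hg a)
    have ai : a.1 i = a1 := by simp [a, Pi.mulSingle_eq_of_ne hi'.symm]
    have ai' : a.1 i' = a1⁻¹ := by simp [a, Pi.mulSingle_eq_of_ne hi']
    have u : ∀ k, (a⁻¹ * m.act g a).1 k = (a.1 k)⁻¹ * ac e b (g.1.left k) (a.1 k) := fun k => by
      rw [← ap]; rfl
    have e1 := hl i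
    rw [ap, u, ai, ac_out hi, ac_out hi, m.rs.a1c, m.rs.bc] at e1
    have n1 : ζ l ≠ 1 := fun e2 => m.rs.c_ne_inv (by rw [e1, e2, mul_one])
    have o : g.1.left i' ∉ e.range := fun h => n1 (by
      have := hl i'
      rwa [ap, u, ac_in h, ac_in h, inv_mul_cancel, one_mul, eq_comm] at this)
    refine ⟨?_, o, fun k => ?_⟩
    · have e2 := hl i'
      rw [ap, u, ai', ac_out o, ac_out o, inv_inv, map_inv, m.rs.ba1, mul_inv_rev, mul_comm c⁻¹,
        mul_inv_cancel_left, map_inv, m.rs.bc, inv_inv] at e2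
      have e3 : ζ l = c * c := by rw [eq_comm, ← eq_inv_mul_iff_mul_eq, ← e2]
      rw [e3] at e1
      rw [pow_succ, pow_three, ← e1, inv_mul_cancel]
    · by_contra hk
      push Not at hk
      have := hl k
      have ak : a.1 k = 1 := by simp [a, Pi.mulSingle_eq_of_ne hk.1, Pi.mulSingle_eq_of_ne hk.2]
      rw [ap, u, ak, map_one, inv_one, one_mul, map_one, one_mul] at this
      exact n1 this.symm
  obtain ⟨i', hi'⟩ := @exists_ne ι (big.resolve_left no) i
  refine ⟨no, (key i' hi').1, fun k => ?_, fun i' hi' => (key i' hi').2.2⟩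
  rcases eq_or_ne k i with rfl | hk
  exacts [hi, (key k hk).2.1]

theorem sq_central (big : od ∨ Nontrivial ι) {x : T} (hx : x ∈ N) (hx' : x ∉ (ph e p).range) {y : T}
    (hy : y ∈ N) (t : T) : ¬ od ∧ t * (y * y) = y * y * t := by
  obtain ⟨g, hg, h1, i, hi⟩ := m.exists_base hN hc hx hx'
  obtain ⟨no, h4, all, two⟩ := m.exc hN hc big hg h1 hi
  refine ⟨no, ?_⟩
  obtain ⟨i', hi'⟩ := @exists_ne ι (big.resolve_left no) i
  have hι := two i' hi'
  have kap_eq : ∀ u : AA e od P δ, ph e p u ∈ N → ∃ l, ∀ k, kap b (u.1 k) = ζ l := fun u hu => by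
    obtain ⟨l, -, hl⟩ := m.fix_of hN hc hg hu
    refine ⟨l, fun k => ?_⟩
    have := hl k
    rw [act_apply, h1, inv_one, Perm.one_apply, ac_out (all k)] at this
    rw [kap_apply, this, inv_mul_cancel_left]
  have elem : ∀ z ∈ N, z ∈ (ph e p).range → z * z = 1 := by
    rintro _ hu ⟨u, rfl⟩
    obtain ⟨l, hl⟩ := kap_eq u hu
    obtain ⟨r, hr⟩ := m.rs.cen_of (a := u.1 i * (u.1 i')⁻¹) (by rw [map_mul, map_inv, hl, hl, mul_inv_cancel])
    have d : δ (e (u.1 i)) * δ (e (u.1 i')) = 1 := by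
      rw [← (mem_AA.mp u.2).resolve_left no, ← Finset.prod_pair (f := fun k => δ (e (u.1 k))) hi'.symm]
      congr 1
      ext k
      simpa using hι k
    have r2 : r ^ 2 = 1 := by
      rw [← m.rs.dz, hr, map_mul, map_mul, map_inv, map_inv, eq_inv_of_mul_eq_one_right d, inv_inv,
        ← pow_two, m.rs.d4 h4 (hl i)]
    obtain ⟨n, hn⟩ := m.rs.fix (u.1 i' * b (u.1 i')) (by rw [map_mul, m.rs.bb, mul_comm])
    have s' : u.1 i' * u.1 i' = ζ (n * l⁻¹) := by
      rw [map_mul, map_inv, hn, ← hl i', kap_apply, mul_inv_rev, inv_inv, mul_assoc, mul_inv_cancel_left]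
    have s : u.1 i * u.1 i = ζ (n * l⁻¹) := by
      rw [← s', eq_mul_of_mul_inv_eq hr.symm, mul_mul_mul_comm, ← map_mul, ← pow_two, r2, map_one, one_mul]
    rw [← map_mul, m.ph_one]
    refine ⟨n * l⁻¹, fun ho => absurd ho no, fun k => ?_⟩
    rcases hι k with rfl | rfl
    exacts [s, s']
  have cen : ∀ t : T, y * t * y⁻¹ * t⁻¹ * (y * t * y⁻¹ * t⁻¹) = 1 → t ∈ centralizer {y * y} := fun t ht => by
    have hz := hN.conj_mem _ (inv_mem hy) t
    have e1 := hc _ hy _ hz
    rw [mem_centralizer_singleton_iff]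
    have e2 : y * y * (t * y⁻¹ * t⁻¹ * (t * y⁻¹ * t⁻¹)) = 1 := by
      rw [← ht, mul_assoc y y, ← mul_assoc y (t * y⁻¹ * t⁻¹), e1]; group
    calc t * (y * y) = y * y * (t * y⁻¹ * t⁻¹ * (t * y⁻¹ * t⁻¹)) * (t * (y * y)) := by rw [e2, one_mul]
      _ = y * y * t := by group
  have cen' : ∀ t : T, y * t * y⁻¹ * t⁻¹ ∈ (ph e p).range → t ∈ centralizer {y * y} := fun t ht =>
    cen t (elem _ (by
      rw [mul_assoc, mul_assoc, ← mul_assoc t]
      exact mul_mem hy (hN.conj_mem _ (inv_mem hy) t)) ht)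
  obtain ⟨g', rfl⟩ := m.surj y
  have sw : ∀ σ : Perm ι, σ = 1 ∨ σ = swap i i' := fun σ => by
    rcases hι (σ i) with e1 | e1 <;> rcases hι (σ i') with e2 | e2
    · exact absurd (σ.injective (e2.trans e1.symm)) hi'
    · exact Or.inl (Perm.ext fun k => by rcases hι k with rfl | rfl <;> simpa)
    · exact Or.inr (Perm.ext fun k => by rcases hι k with rfl | rfl <;> simpa)
    · exact absurd (σ.injective (e2.trans e1.symm)) hi'
  have par : ∀ k k', g'.1.left k ∈ e.range → g'.1.left k' ∈ e.range := by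
    rcases sw g'.1.right with e1 | e1
    · intro k k' hk
      by_contra hk'
      exact (m.exc hN hc big hy e1 hk').2.2.1 k hk
    have iff : g'.1.left i ∈ e.range ↔ g'.1.left i' ∈ e.range := by
      let a : AA e od P δ := ⟨_, single2_mem i i' a1⟩
      have ai : a.1 i = a1 := by simp [a, Pi.mulSingle_eq_of_ne hi'.symm]
      have ai' : a.1 i' = a1⁻¹ := by simp [a, Pi.mulSingle_eq_of_ne hi']
      obtain ⟨l, hl⟩ := kap_eq _ (m.cm_mem hN hc hy a)
      have e2 := (hl i).trans (hl i').symm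
      change kap b ((a.1 i)⁻¹ * (m.act g' a).1 i) = kap b ((a.1 i')⁻¹ * (m.act g' a).1 i') at e2
      rw [act_apply, act_apply, e1, swap_inv, swap_apply_left, swap_apply_right, ai, ai', inv_inv, map_mul,
        map_mul, map_inv, m.rs.k1] at e2
      by_cases k1 : g'.1.left i ∈ e.range <;> by_cases k2 : g'.1.left i' ∈ e.range
      · exact iff_of_true k1 k2
      · rw [ac_in k1, ac_out k2, m.rs.kb, map_inv, m.rs.k1, mul_inv_cancel, ← mul_inv_rev, inv_eq_one,
          ← pow_two] at e2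
        exact absurd e2 m.rs.c2
      · rw [ac_out k1, ac_in k2, m.rs.kb, map_inv, m.rs.k1, inv_inv, inv_mul_cancel, ← pow_two] at e2
        exact absurd e2.symm m.rs.c2
      · exact iff_of_false k1 k2
    intro k k' hk
    rcases hι k with rfl | rfl <;> rcases hι k' with rfl | rfl
    exacts [hk, iff.mp hk, iff.mpr hk, hk]
  refine mem_centralizer_singleton_iff.mp (m.gen (H := centralizer {p g' * p g'}) (fun a ha => cen' a ?_)
    (fun k => ?_) (fun σ hσ => cen' _ ?_) t)
  · exact mul_mem (m.normal.conj_mem a ha _) (inv_mem ha)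
  · have val : (g' * m.w k * g'⁻¹ * (m.w k)⁻¹).1 = sg (g'.1.right k)
        (g'.1.left (g'.1.right k) * j * (g'.1.left (g'.1.right k))⁻¹) * (sg k j)⁻¹ := by
      rw [← conj_sg]; rfl
    have lf : ∀ k', (g' * m.w k * g'⁻¹ * (m.w k)⁻¹).1.left k' = (sg (g'.1.right k)
        (g'.1.left (g'.1.right k) * j * (g'.1.left (g'.1.right k))⁻¹)).left k' * ((sg k j).left k')⁻¹ :=
      fun k' => by rw [val]; rfl
    have rt : (g' * m.w k * g'⁻¹ * (m.w k)⁻¹).1.right = 1 := by rw [val]; rfl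
    by_cases hk : g'.1.right k = k
    · refine cen' _ ?_
      rw [← map_inv, ← map_inv, ← map_mul, ← map_mul, ← map_mul, m.mem_A]
      refine ⟨rt, fun k' => ?_⟩
      rw [lf, hk]
      rcases eq_or_ne k' k with rfl | hk'
      · rw [sg_same, sg_same]
        exact m.rs.out_mul (m.rs.conj_j_not _) m.rs.j_not
      · rw [sg_ne hk', sg_ne hk', inv_one, mul_one]
        exact one_mem _
    · refine cen _ ?_
      obtain ⟨l, hl2, hl⟩ := m.rs.jj
      rw [← map_inv, ← map_inv, ← map_mul, ← map_mul, ← map_mul, ← map_mul, m.ker]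
      refine ⟨l, fun ho => absurd ho no, wr_ext (fun k' => ?_) ?_⟩
      · rw [Subgroup.coe_mul, wr_mul_left, rt, inv_one, Perm.one_apply, lf, bsW_left]
        rcases eq_or_ne k' k with rfl | hk'
        · rw [sg_ne (Ne.symm hk), sg_same, one_mul, ← mul_inv_rev, hl, ← map_inv, ← map_inv,
            inv_eq_of_mul_eq_one_left (by rw [← pow_two, hl2])]
        · have : k' = g'.1.right k := two_eq hι hk' hk
          rw [sg_ne hk', ← this, sg_same, inv_one, mul_one, ← m.rs.z_comm l (g'.1.left k'), ← hl]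
          group
      · rw [Subgroup.coe_mul, SemidirectProduct.mul_right, rt, one_mul]; rfl
  · rw [← map_inv, ← map_inv, ← map_mul, ← map_mul, ← map_mul, m.mem_A]
    constructor
    · change g'.1.right * σ * g'.1.right⁻¹ * σ⁻¹ = 1
      rcases sw g'.1.right with e1 | e1 <;> rcases sw σ with e2 | e2 <;> simp [e1, e2]
    · intro k
      change g'.1.left k * 1 * (g'.1.left _)⁻¹ * (1 : R)⁻¹ ∈ e.range
      rw [mul_one, inv_one, mul_one]
      by_cases k1 : g'.1.left k ∈ e.range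
      · exact mul_mem k1 (inv_mem (par _ _ k1))
      · exact m.rs.out_mul k1 fun h => k1 (par _ _ h)

end Step1

theorem char (big : od ∨ Nontrivial ι) (α : MulAut T) {t : T} (ht : t ∈ (ph e p).range) :
    α t ∈ (ph e p).range := by
  by_contra hn
  have hN : ((ph e p).range.map α.toMonoidHom).Normal := m.normal.map _ α.surjective
  have hc : ∀ x ∈ (ph e p).range.map α.toMonoidHom, ∀ y ∈ (ph e p).range.map α.toMonoidHom,
      x * y = y * x := by
    rintro _ ⟨x, hx, rfl⟩ _ ⟨y, hy, rfl⟩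
    rw [← map_mul, ← map_mul, comm hx hy]
  have key := fun y hy => m.sq_central hN hc big ⟨t, ht, rfl⟩ hn (y := y) hy
  have no := (key 1 (one_mem _) 1).1
  obtain ⟨i, i', hi⟩ := (big.resolve_left no).exists_pair_ne
  let a : AA e od P δ := ⟨_, single2_mem i i' a1⟩
  have ai : a.1 i = a1 := by simp [a, Pi.mulSingle_eq_of_ne hi]
  have e1 := (key _ ⟨_, ⟨a, rfl⟩, rfl⟩ (α (p (m.w i)))).2
  change α _ * (α _ * α _) = α _ * α _ * α _ at e1
  rw [← map_mul, ← map_mul, ← map_mul, ← map_mul, α.injective.eq_iff, ← mul_inv_eq_iff_eq_mul,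
    m.conj] at e1
  obtain ⟨l, -, hl⟩ := m.ph_eq e1.symm
  have e2 := hl i'
  have e3 := hl i
  rw [m.act_w_ne hi.symm, left_eq_mul] at e2
  rw [m.act_w_same, e2, mul_one] at e3
  change b (a.1 i * a.1 i) = a.1 i * a.1 i at e3
  rw [ai, map_mul, m.rs.ba1, mul_mul_mul_comm, mul_eq_left, ← pow_two] at e3
  exact m.rs.c2 e3

end Mdl

end Cfsg.Agent.H96.AL
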