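import Cfsg.Agent.H96.AutLB
import Cfsg.Agent.H78.Matching
import Cfsg.Agent.H19.SymAlt
import Cfsg.Agent.S3116
import Cfsg.Agent.S3382

/-! The automorphism group of the model of a Sylow `2`-subgroup of `PSL_n(q)` is a `2`-group. -/

set_option autoImplicit false
set_option linter.unusedSectionVars false
set_option linter.unusedVariables false
set_option linter.unusedSimpArgs false
open Subgroup Equiv

namespace Cfsg.Agent.H96.AL

open H79 (Wr wr_mul_left)

theorem mem_of_cop {H : Type*} [Group H] {B : Subgroup H} {c : H} {m n : ℕ} (h : m.Coprime n)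
    (h1 : c ^ m ∈ B) (h2 : c ^ n ∈ B) : c ∈ B := by
  have e : c = (c ^ m) ^ Nat.gcdA m n * (c ^ n) ^ Nat.gcdB m n := by
    rw [← zpow_natCast, ← zpow_natCast, ← zpow_mul, ← zpow_mul, ← zpow_add, ← Nat.gcd_eq_gcd_ab,
      h.gcd_eq_one, Nat.cast_one, zpow_one]
  rw [e]
  exact mul_mem (zpow_mem h1 _) (zpow_mem h2 _)

theorem cyc {T A : Type*} [Group T] [Finite T] [Group A] {u y : T} {c : A} (hc : IsOfFinOrder c)
    (hu : u ^ orderOf c = 1) (hy : y ∈ zpowers u) (h : ∀ n : ℕ, y ^ n = 1 → c ^ n = 1) {x : T}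
    (hx : x ∈ zpowers u) : x ∈ zpowers y := by
  have h1 := (orderOf_dvd_of_pow_eq_one hu).trans (orderOf_dvd_of_pow_eq_one (h _ (pow_orderOf_eq_one y)))
  have : zpowers y = zpowers u := eq_of_le_of_card_ge (zpowers_le.mpr hy) (by
    rw [Nat.card_zpowers, Nat.card_zpowers]
    exact Nat.le_of_dvd (orderOf_pos y) h1)
  rwa [this]

theorem fix_zpowers {T : Type*} [Group T] [Finite T] (hT : IsPGroup 2 T) {α : MulAut T} {n : ℕ}
    (hn : Odd n) (hα : α ^ n = 1) {x : T} (hx : α x ∈ zpowers x) : α x = x := by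
  refine fix_of_omega hT hn hα (H := zpowers x) ?_ ?_ ?_ x (mem_zpowers x)
  · rintro _ ⟨a, rfl⟩ _ ⟨b, rfl⟩
    exact (Commute.zpow_zpow_self x a b).eq
  · rintro _ ⟨a, rfl⟩
    change α (x ^ a) ∈ _
    rw [map_zpow]
    exact zpow_mem hx a
  · intro t ht htt
    rcases eq_or_ne t 1 with rfl | h1
    · exact map_one α
    have hm : α t ∈ zpowers x := by
      obtain ⟨a, rfl⟩ := ht
      change α (x ^ a) ∈ _
      rw [map_zpow]
      exact zpow_mem hx a
    classical
    haveI := Fintype.ofFinite (zpowers x)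
    by_contra hne
    have h2 := IsCyclic.card_pow_eq_one_le (α := zpowers x) (n := 2) two_pos
    have h3 : ({1, ⟨t, ht⟩, ⟨α t, hm⟩} : Finset (zpowers x)) ⊆ Finset.univ.filter fun a => a ^ 2 = 1 := by
      intro s hs
      simp only [Finset.mem_insert, Finset.mem_singleton] at hs
      rw [Finset.mem_filter]
      refine ⟨Finset.mem_univ _, ?_⟩
      rcases hs with rfl | rfl | rfl
      · exact one_pow _
      · exact Subtype.ext (by rw [pow_two]; exact htt)
      · exact Subtype.ext (by rw [pow_two]; exact (map_mul α t t).symm.trans (by rw [htt, map_one]; rfl))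
    have h4 := (Finset.card_le_card h3).trans h2
    rw [Finset.card_eq_three.mpr ⟨_, _, _, fun e => h1 (congrArg Subtype.val e).symm,
      fun e => h1 ((map_eq_one_iff α α.injective).mp (congrArg Subtype.val e).symm),
      fun e => hne (congrArg Subtype.val e).symm, rfl⟩] at h4
    omega

variable {R A C : Type*} [Group R] [CommGroup A] [CommGroup C] {ι : Type*} [Fintype ι] [DecidableEq ι]
  {e : A →* R} {b : A →* A} {j : R} {c a1 : A} {ζ : C →* A} {δ : R →* C} {od : Prop}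
  {P : Subgroup (Perm ι)} {T : Type*} [Group T] [Finite T]

namespace Mdl

variable {p : KK od P δ →* T} (m : Mdl e b j c a1 ζ δ od P p)
include m

theorem finc : IsOfFinOrder c := by
  obtain ⟨k, hk⟩ := m.rs.twoA c
  exact isOfFinOrder_iff_pow_eq_one.2 ⟨2 ^ k, by positivity, hk⟩

theorem ord_of {v : AA e od P δ} {i : ι} (h1 : v.1 i = c ∨ v.1 i = c⁻¹) (h2 : od ∨ ∃ k, v.1 k = 1)
    (n : ℕ) (h : ph e p v ^ n = 1) : c ^ n = 1 := by
  rw [← map_pow, m.ph_one] at h
  obtain ⟨l, h0, hl⟩ := h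
  have e1 : ζ l = 1 := by
    rcases h2 with ho | ⟨k, hk⟩
    · rw [h0 ho, map_one]
    · rw [← hl k]
      change v.1 k ^ n = 1
      rw [hk, one_pow]
  have e2 : v.1 i ^ n = 1 := (hl i).trans e1
  rcases h1 with e3 | e3
  · rwa [e3] at e2
  · rwa [e3, inv_pow, inv_eq_one] at e2

theorem cls_of {g : KK od P δ} (h1 : g.1.right = 1) {i : ι} (hi : g.1.left i ∉ e.range)
    (h2 : ∀ k ≠ i, g.1.left k ∈ e.range) : p g * (p (m.w i))⁻¹ ∈ (ph e p).range := by
  rw [← map_inv, ← map_mul, m.mem_A]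
  refine ⟨by change (g.1 * (sg i j)⁻¹).right = 1; simp [h1, sg_right], fun k => ?_⟩
  have e1 : (g * (m.w i)⁻¹).1.left k = g.1.left k * ((sg i j).left k)⁻¹ := by
    change (g.1 * (sg i j)⁻¹).left k = _
    rw [wr_mul_left, h1, wr_inv_left]; rfl
  rw [e1]
  rcases eq_or_ne k i with rfl | hk
  · rw [sg_same]
    exact m.rs.out_mul hi m.rs.j_not
  · rw [sg_ne hk, inv_one, mul_one]
    exact h2 k hk

theorem refl (third : od ∨ ∀ i i' : ι, ∃ k, k ≠ i ∧ k ≠ i') {g : KK od P δ}
    (hg : p g ∉ (ph e p).range) {u : T} (hu : u ^ orderOf c = 1)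
    (h : ∀ a, ph e p (a⁻¹ * m.act g a) ∈ zpowers u) : ∃ i, p g * (p (m.w i))⁻¹ ∈ (ph e p).range := by
  have cm : ∀ (a : AA e od P δ) k,
      (a⁻¹ * m.act g a).1 k = (a.1 k)⁻¹ * ac e b (g.1.left k) (a.1 (g.1.right⁻¹ k)) := fun a k => rfl
  have rel : ∀ (a a' : AA e od P δ) {i : ι}, ((a⁻¹ * m.act g a).1 i = c ∨ (a⁻¹ * m.act g a).1 i = c⁻¹) →
      (od ∨ ∃ k, (a⁻¹ * m.act g a).1 k = 1) → ∃ (n : ℤ) (l : C), (od → l = 1) ∧
        ∀ k, (a'⁻¹ * m.act g a').1 k = (a⁻¹ * m.act g a).1 k ^ n * ζ l := fun a a' i h1 h2 => by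
    obtain ⟨n, hn⟩ := cyc m.finc hu (h a) (m.ord_of h1 h2) (h a')
    obtain ⟨l, h3, h4⟩ := m.ph_eq ((map_zpow _ _ n).trans hn)
    exact ⟨n, l, h3, h4⟩
  have h1 : g.1.right = 1 := by
    ext i
    by_contra hi
    rw [Perm.one_apply] at hi
    have v1 : ((m.cc i)⁻¹ * m.act g (m.cc i)).1 (g.1.right i) = c ∨
        ((m.cc i)⁻¹ * m.act g (m.cc i)).1 (g.1.right i) = c⁻¹ := by
      rw [cm, m.cc_ne hi, inv_one, one_mul, Perm.coe_inv, symm_apply_apply, cc_same]
      exact m.rs.ac_c _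
    have v2 : ∀ k, k ≠ i → k ≠ g.1.right i → ((m.cc i)⁻¹ * m.act g (m.cc i)).1 k = 1 := fun k k1 k2 => by
      rw [cm, m.cc_ne k1, m.cc_ne (fun e => k2 (by rw [← e]; simp)), map_one, inv_one, one_mul]
    have fin : ∀ (a : AA e od P δ) (n : ℤ), a.1 i = a1 → a.1 (g.1.right i) = 1 →
        (a⁻¹ * m.act g a).1 (g.1.right i) ≠ ((m.cc i)⁻¹ * m.act g (m.cc i)).1 (g.1.right i) ^ n :=
      fun a n a1' a2 e1 => by
      have e2 : (a⁻¹ * m.act g a).1 (g.1.right i) ∈ zpowers c := by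
        rw [e1]
        rcases v1 with e2 | e2 <;> rw [e2]
        exacts [zpow_mem (mem_zpowers c) n, zpow_mem (inv_mem (mem_zpowers c)) n]
      rw [cm, a2, inv_one, one_mul, Perm.coe_inv, symm_apply_apply, a1'] at e2
      by_cases k : g.1.left (g.1.right i) ∈ e.range
      · exact m.rs.a1_not (ac_in k a1 ▸ e2)
      · rw [ac_out k, m.rs.ba1] at e2
        exact m.rs.a1_not ((mul_mem_cancel_right (mem_zpowers c)).mp e2)
    rcases third with ho | th
    · let a : AA e od P δ := ⟨Pi.mulSingle i a1, single_mem (Or.inl ho)⟩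
      obtain ⟨n, l, h3, h4⟩ := rel _ a v1 (Or.inl ho)
      refine fin a n (by simp [a]) (by simp [a, Pi.mulSingle_eq_of_ne hi]) ?_
      rw [h4, h3 ho, map_one, mul_one]
    · obtain ⟨k, k1, k2⟩ := th i (g.1.right i)
      let a : AA e od P δ := ⟨_, single2_mem i k a1⟩
      obtain ⟨n, l, h3, h4⟩ := rel _ a v1 (Or.inr ⟨k, v2 k k1 k2⟩)
      have ak : a.1 k = a1⁻¹ := by simp [a, Pi.mulSingle_eq_of_ne k1]
      have e1 := h4 k
      rw [v2 k k1 k2, one_zpow, one_mul, cm, ak, inv_inv] at e1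
      have e2 : ζ l = 1 := by
        by_cases k3 : g.1.right⁻¹ k = k
        · rw [k3, ak] at e1
          by_cases k4 : g.1.left k ∈ e.range
          · rw [← e1, ac_in k4, mul_inv_cancel]
          · rw [ac_out k4, map_inv, m.rs.ba1, mul_inv_rev, mul_comm c⁻¹, mul_inv_cancel_left] at e1
            exact absurd e1.symm m.rs.ci_ne
        · have : a.1 (g.1.right⁻¹ k) = 1 := by
            have k4 : g.1.right⁻¹ k ≠ i := fun e => k2 (by rw [← e]; simp)
            simp only [a, Pi.mul_apply, Pi.mulSingle_eq_of_ne k3, Pi.mulSingle_eq_of_ne k4, mul_one]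
          rw [this, map_one, mul_one] at e1
          have e3 := m.rs.kz l
          rw [← e1, m.rs.k1] at e3
          exact absurd e3 m.rs.c1
      refine fin a n (by simp [a, Pi.mulSingle_eq_of_ne k1.symm])
        (by simp [a, Pi.mulSingle_eq_of_ne hi, Pi.mulSingle_eq_of_ne k2.symm]) ?_
      rw [h4, e2, mul_one]
  obtain ⟨i, hi⟩ : ∃ i, g.1.left i ∉ e.range := by
    by_contra hn
    push Not at hn
    exact hg ((m.mem_A g).mpr ⟨h1, hn⟩)
  refine ⟨i, m.cls_of h1 hi fun i' hi' => ?_⟩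
  by_contra ho'
  have ex : ∀ i i' : ι, i' ≠ i → ∃ a : AA e od P δ, a.1 i = a1 ∧ a.1 i' = 1 := fun i i' hi => by
    rcases third with ho | th
    · exact ⟨⟨Pi.mulSingle i a1, single_mem (Or.inl ho)⟩, by simp, by simp [Pi.mulSingle_eq_of_ne hi]⟩
    · obtain ⟨k, k1, k2⟩ := th i i'
      exact ⟨⟨_, single2_mem i k a1⟩, by simp [Pi.mulSingle_eq_of_ne k1.symm],
        by simp [Pi.mulSingle_eq_of_ne hi, Pi.mulSingle_eq_of_ne k2.symm]⟩
  obtain ⟨a, e1, e2⟩ := ex i i' hi'
  obtain ⟨a', e3, -⟩ := ex i' i hi'.symm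
  have v1 : (a⁻¹ * m.act g a).1 i = c := by
    rw [cm, h1, inv_one, Perm.one_apply, e1, ac_out hi, m.rs.a1c]
  have v2 : (a⁻¹ * m.act g a).1 i' = 1 := by
    rw [cm, h1, inv_one, Perm.one_apply, e2, map_one, inv_one, one_mul]
  obtain ⟨n, l, -, h4⟩ := rel a a' (Or.inl v1) (Or.inr ⟨i', v2⟩)
  have := h4 i'
  rw [v2, one_zpow, one_mul, cm, h1, inv_one, Perm.one_apply, e3, ac_out ho', m.rs.a1c] at this
  exact m.rs.c_ne this.symm

theorem cm_w (i : ι) (a : AA e od P δ) : a⁻¹ * m.act (m.w i) a ∈ zpowers (m.cc i) := by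
  obtain ⟨n, hn⟩ := m.rs.cm (a.1 i)
  refine ⟨n, Subtype.ext (funext fun k => ?_)⟩
  change (m.cc i).1 k ^ n = (a.1 k)⁻¹ * (m.act (m.w i) a).1 k
  rcases eq_or_ne k i with rfl | hk
  · rw [cc_same, act_w_same]; exact hn
  · rw [m.cc_ne hk, m.act_w_ne hk, one_zpow, inv_mul_cancel]

theorem w_not (i : ι) : p (m.w i) ∉ (ph e p).range := fun h =>
  m.rs.j_not (sg_same i j ▸ ((m.mem_A _).mp h).2 i)

theorem w_inj {i i' : ι} (h : p (m.w i) * (p (m.w i'))⁻¹ ∈ (ph e p).range) : i = i' := by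
  by_contra hi
  rw [← map_inv, ← map_mul, m.mem_A] at h
  have := h.2 i
  change (sg i j).left i * ((sg i' j).left i)⁻¹ ∈ _ at this
  rw [sg_same, sg_ne hi, inv_one, mul_one] at this
  exact m.rs.j_not this

theorem conj_w (g : KK od P δ) (i : ι) :
    p g * p (m.w i) * (p g)⁻¹ * (p (m.w (g.1.right i)))⁻¹ ∈ (ph e p).range := by
  rw [← map_inv, ← map_mul, ← map_mul]
  have e1 : (g * m.w i * g⁻¹).1 = _ := conj_sg g.1 i j
  refine m.cls_of (by rw [e1, sg_right]) ?_ fun k hk => ?_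
  · rw [e1, sg_same]
    exact m.rs.conj_j_not _
  · rw [e1, sg_ne hk]
    exact one_mem _

theorem cm_aut (big : od ∨ Nontrivial ι) (α : MulAut T) (i : ι) {x : T} (hx : x ∈ (ph e p).range) :
    x⁻¹ * (α (p (m.w i)) * x * (α (p (m.w i)))⁻¹) ∈ zpowers (α (ph e p (m.cc i))) := by
  obtain ⟨a, ha⟩ := m.char big α⁻¹ hx
  obtain ⟨n, hn⟩ := m.cm_w i a
  refine ⟨n, ?_⟩
  change α _ ^ n = _
  have e1 : x = α (ph e p a) := by rw [ha, MulAut.apply_inv_self]
  rw [← map_zpow, ← map_zpow, show m.cc i ^ n = _ from hn, map_mul, map_inv, ← m.conj, e1]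
  simp only [map_mul, map_inv]

theorem step2_three (third : od ∨ ∀ i i' : ι, ∃ k, k ≠ i ∧ k ≠ i') (α : MulAut T) (i : ι) :
    ∃ k, α (p (m.w i)) * (p (m.w k))⁻¹ ∈ (ph e p).range := by
  have big : od ∨ Nontrivial ι := third.imp id fun h => by
    obtain ⟨k, hk, -⟩ := h i i
    exact ⟨k, i, hk⟩
  obtain ⟨g, hg⟩ := m.surj (α (p (m.w i)))
  rw [← hg]
  refine m.refl third (u := α (ph e p (m.cc i))) (fun h => m.w_not i ?_) ?_ fun a => ?_
  · have := m.char big α⁻¹ h
    rwa [hg, MulAut.inv_apply_self] at this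
  · rw [← map_pow, ← map_pow, show m.cc i ^ orderOf c = 1 from Subtype.ext (funext fun k => ?_), map_one,
      map_one]
    change (m.cc i).1 k ^ orderOf c = 1
    rcases eq_or_ne k i with rfl | hk
    · rw [cc_same, pow_orderOf_eq_one]
    · rw [m.cc_ne hk, one_pow]
  · rw [map_mul, map_inv, ← m.conj, hg]
    exact m.cm_aut big α i ⟨a, rfl⟩

theorem step2_two {i i' : ι} (hi : i' ≠ i) (hι : ∀ k, k = i ∨ k = i') (hs : swap i i' ∈ P) {α : MulAut T}
    {n : ℕ} (hn : Odd n) (hα : α ^ n = 1) : ∃ k, α (p (m.w i)) * (p (m.w k))⁻¹ ∈ (ph e p).range := by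
  have big : od ∨ Nontrivial ι := Or.inr ⟨i', i, hi⟩
  have sw : ∀ σ : Perm ι, σ = 1 ∨ σ = swap i i' := fun σ => by
    rcases hι (σ i) with e1 | e1 <;> rcases hι (σ i') with e2 | e2
    · exact absurd (σ.injective (e2.trans e1.symm)) hi
    · exact Or.inl (Perm.ext fun k => by rcases hι k with rfl | rfl <;> simpa)
    · exact Or.inr (Perm.ext fun k => by rcases hι k with rfl | rfl <;> simpa)
    · exact absurd (σ.injective (e2.trans e1.symm)) hi
  have s1 : swap i i' ≠ 1 := fun e => hi.symm (swap_eq_one_iff.mp e)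
  let B : Subgroup T := ((SemidirectProduct.rightHom.comp (KK od P δ).subtype).ker).map p
  have hB : ∀ g, p g ∈ B ↔ g.1.right = 1 := fun g => by
    refine ⟨fun ⟨g', h1, h2⟩ => ?_, fun h => ⟨g, h, rfl⟩⟩
    have h3 : g'.1.right = 1 := h1
    obtain ⟨l, -, hl⟩ := (m.ker (g'⁻¹ * g)).mp (by rw [map_mul, map_inv, h2, inv_mul_cancel])
    have := congrArg SemidirectProduct.right hl
    change (g'.1⁻¹ * g.1).right = 1 at this
    simpa [h3] using this
  have mulB : ∀ x y, x * y ∈ B ↔ (x ∈ B ↔ y ∈ B) := fun x y => by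
    obtain ⟨g, rfl⟩ := m.surj x
    obtain ⟨g', rfl⟩ := m.surj y
    rw [← map_mul, hB, hB, hB]
    change g.1.right * g'.1.right = 1 ↔ _
    rcases sw g.1.right with e1 | e1 <;> rcases sw g'.1.right with e2 | e2 <;> simp [e1, e2, s1]
  have AB : (ph e p).range ≤ B := by
    rintro _ ⟨a, rfl⟩
    exact (hB _).mpr rfl
  have sqB : ∀ x ∈ B, x * x ∈ (ph e p).range := fun x hx => by
    obtain ⟨g, rfl⟩ := m.surj x
    have h1 := (hB g).mp hx
    rw [← map_mul, m.mem_A]
    refine ⟨by change g.1.right * g.1.right = 1; rw [h1, mul_one], fun k => ?_⟩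
    rw [Subgroup.coe_mul, wr_mul_left, h1, inv_one, Perm.one_apply]
    by_cases k1 : g.1.left k ∈ e.range
    · exact mul_mem k1 k1
    · simpa using m.rs.out_mul k1 (y := (g.1.left k)⁻¹) fun h => k1 (inv_mem_iff.mp h)
  obtain ⟨s, hs'⟩ : ∃ s, s = p (pm (swap i i') hs) := ⟨_, rfl⟩
  have ss : s * s = 1 := by
    rw [hs', ← map_mul, ← map_one p]
    congr 1
    exact Subtype.ext (by
      change SemidirectProduct.inr _ * SemidirectProduct.inr _ = 1
      rw [← map_mul, swap_mul_self, map_one])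
  have sws : s * p (m.w i) * s⁻¹ = p (m.w i') := by
    rw [hs', ← map_inv, ← map_mul, ← map_mul]
    congr 1
    refine Subtype.ext ((conj_sg _ i j).trans ?_)
    change sg (swap i i' i) (1 * j * 1⁻¹) = sg i' j
    rw [swap_apply_left, inv_one, one_mul, mul_one]
  have ww : p (m.w i) * (p (m.w i'))⁻¹ ∉ (ph e p).range := fun h => hi.symm (m.w_inj h)
  have back : ∀ (β : MulAut T) x, β x ∈ (ph e p).range → x ∈ (ph e p).range := fun β x h => by
    have := m.char big β⁻¹ h
    rwa [MulAut.inv_apply_self] at this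
  have xor : ∀ β : MulAut T, ¬ (β (p (m.w i)) ∈ B ↔ β s ∈ B) := fun β h => by
    have h1 := sqB _ ((mulB _ _).mpr h)
    rw [← map_mul, ← map_mul] at h1
    have h2 := back β _ h1
    have h3 := sqB _ ((hB (m.w i')).mpr rfl)
    refine ww ?_
    have e1 : p (m.w i) * s * (p (m.w i) * s) = p (m.w i) * p (m.w i') := by
      rw [← sws, inv_eq_of_mul_eq_one_left ss]; group
    rw [e1] at h2
    simpa [mul_assoc] using mul_mem h2 (inv_mem h3)
  have same : ∀ β β' : MulAut T, (β (p (m.w i)) ∈ B ↔ β' (p (m.w i)) ∈ B) → ∀ t, β t ∈ B ↔ β' t ∈ B :=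
    fun β β' h t => by
    let H : Subgroup T :=
      { carrier := {t | β t ∈ B ↔ β' t ∈ B}
        one_mem' := by simp
        mul_mem' := fun {x y} hx hy => by
          change β (x * y) ∈ B ↔ β' (x * y) ∈ B
          rw [map_mul, map_mul, mulB, mulB, show β x ∈ B ↔ β' x ∈ B from hx,
            show β y ∈ B ↔ β' y ∈ B from hy]
        inv_mem' := fun {x} hx => by
          change β x⁻¹ ∈ B ↔ β' x⁻¹ ∈ B
          rw [map_inv, map_inv, inv_mem_iff, inv_mem_iff]
          exact hx }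
    have hw : p (m.w i) ∈ H := h
    have hs2 : s ∈ H := by
      have x1 := xor β
      have x2 := xor β'
      change β s ∈ B ↔ β' s ∈ B
      tauto
    refine m.gen (H := H) (fun x hx => iff_of_true (AB (m.char big β hx)) (AB (m.char big β' hx)))
      (fun k => ?_) (fun σ hσ => ?_) t
    · rcases hι k with rfl | rfl
      · exact hw
      · exact sws ▸ mul_mem (mul_mem hs2 hw) (inv_mem hs2)
    · rcases sw σ with rfl | rfl
      · have : pm (od := od) (δ := δ) 1 hσ = 1 := Subtype.ext (map_one SemidirectProduct.inr)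
        rw [this, map_one]
        exact one_mem _
      · exact hs' ▸ hs2
  have wB : p (m.w i) ∈ B := (hB _).mpr rfl
  have h1 : α (p (m.w i)) ∈ B := by
    by_contra h1
    by_cases h2 : (α * α) (p (m.w i)) ∈ B
    · let St : Subgroup (MulAut T) :=
        { carrier := {β | ∀ t, β t ∈ B ↔ t ∈ B}
          one_mem' := fun t => Iff.rfl
          mul_mem' := fun {x y} hx hy t => (hx _).trans (hy t)
          inv_mem' := fun {x} hx t => by rw [← hx, MulAut.apply_inv_self] }
      have : α ∈ St := mem_of_cop (Nat.coprime_two_left.2 hn)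
        (by rw [pow_two]; exact same _ 1 (iff_of_true h2 wB)) (hα ▸ one_mem _)
      exact h1 ((this _).mpr wB)
    · have := same α (α * α) (iff_of_false h1 h2) (α⁻¹ (p (m.w i)))
      rw [MulAut.mul_apply, MulAut.apply_inv_self] at this
      exact h1 (this.mp wB)
  obtain ⟨g, hg⟩ := m.surj (α (p (m.w i)))
  rw [← hg] at h1 ⊢
  have h2 := (hB g).mp h1
  by_cases k1 : g.1.left i ∈ e.range <;> by_cases k2 : g.1.left i' ∈ e.range
  · refine absurd (back α _ (hg ▸ (m.mem_A g).mpr ⟨h2, fun k => ?_⟩)) (m.w_not i)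
    rcases hι k with rfl | rfl
    exacts [k1, k2]
  · exact ⟨i', m.cls_of h2 k2 fun k hk => (hι k).resolve_right hk ▸ k1⟩
  · exact ⟨i, m.cls_of h2 k1 fun k hk => (hι k).resolve_left hk ▸ k2⟩
  refine absurd (back α _ ?_) ww
  obtain ⟨h, hh⟩ := m.surj (α s)
  rw [← sws, map_mul, map_inv, map_mul, map_mul, map_inv, ← hg, ← hh, ← map_inv, ← map_mul, ← map_mul,
    ← map_inv, ← map_mul, m.mem_A]
  have all : ∀ k, g.1.left k ∉ e.range := fun k => by
    rcases hι k with rfl | rfl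
    exacts [k1, k2]
  have r1 : (h.1 * g.1 * h.1⁻¹).right = 1 := by simp [h2]
  refine ⟨by change g.1.right * (h.1 * g.1 * h.1⁻¹).right⁻¹ = 1; rw [r1, h2]; simp, fun k => ?_⟩
  change g.1.left k * ((h.1 * g.1 * h.1⁻¹).left _)⁻¹ ∈ _
  refine m.rs.out_mul (all k) fun h3 => ?_
  rw [wr_mul_left, wr_mul_left, wr_inv_left] at h3
  simp only [SemidirectProduct.mul_right, h2, mul_one, Perm.coe_inv, apply_symm_apply] at h3
  exact all _ (m.rs.normal.mem_comm_iff.mp h3 |> fun h4 => by simpa using h4)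

theorem step3 (big : od ∨ Nontrivial ι) {α : MulAut T} {n : ℕ} (hn : Odd n) (hα : α ^ n = 1)
    (h : ∀ i, α (p (m.w i)) * (p (m.w i))⁻¹ ∈ (ph e p).range) (t : T) : α t = t := by
  classical
  have kp : ∀ i, ∀ x ∈ (ph e p).range,
      α (p (m.w i)) * x * (α (p (m.w i)))⁻¹ = p (m.w i) * x * (p (m.w i))⁻¹ := fun i x hx => by
    have e1 := comm (h i) (m.normal.conj_mem x hx (p (m.w i)))
    calc _ = α (p (m.w i)) * (p (m.w i))⁻¹ * (p (m.w i) * x * (p (m.w i))⁻¹) *
          (α (p (m.w i)) * (p (m.w i))⁻¹)⁻¹ := by group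
      _ = _ := by rw [e1, mul_inv_cancel_right]
  have inv := MulAut.inv_apply_self T α
  have fc : ∀ i, α (ph e p (m.cc i)) = ph e p (m.cc i) := fun i => by
    by_cases ex : ∃ a : AA e od P δ, a⁻¹ * m.act (m.w i) a = m.cc i ∨ a⁻¹ * m.act (m.w i) a = (m.cc i)⁻¹
    · refine fix_zpowers m.twoT hn hα ?_
      obtain ⟨a, ha⟩ := ex
      obtain ⟨a', ha'⟩ := m.char big α ⟨a, rfl⟩
      have e1 : α (ph e p (a⁻¹ * m.act (m.w i) a)) ∈ zpowers (ph e p (m.cc i)) := by
        rw [map_mul, map_inv, ← m.conj, map_mul, map_inv, map_mul, map_mul, map_inv, ← ha',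
          kp i _ ⟨a', rfl⟩, m.conj, ← map_inv, ← map_mul, ← MonoidHom.map_zpowers]
        exact ⟨_, m.cm_w i a', rfl⟩
      rcases ha with ha | ha
      · rwa [ha] at e1
      · rwa [ha, map_inv, map_inv, inv_mem_iff] at e1
    · refine absurd ?_ ex
      have key : ∀ a : AA e od P δ, a.1 i = a1 → a⁻¹ * m.act (m.w i) a = m.cc i := fun a ha => by
        refine Subtype.ext (funext fun k => ?_)
        change (a.1 k)⁻¹ * (m.act (m.w i) a).1 k = _
        rcases eq_or_ne k i with rfl | hk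
        · rw [act_w_same, ha, m.rs.a1c, cc_same]
        · rw [m.act_w_ne hk, m.cc_ne hk, inv_mul_cancel]
      rcases big with ho | hn
      · exact ⟨_, Or.inl (key ⟨Pi.mulSingle i a1, single_mem (Or.inl ho)⟩ (by simp))⟩
      · obtain ⟨k, hk⟩ := exists_ne i
        exact ⟨_, Or.inl (key ⟨_, single2_mem i k a1⟩ (by simp [Pi.mulSingle_eq_of_ne hk.symm]))⟩
  have fk : ∀ i, ∀ x ∈ (ph e p).range, α (x⁻¹ * (p (m.w i) * x * (p (m.w i))⁻¹)) =
      x⁻¹ * (p (m.w i) * x * (p (m.w i))⁻¹) := by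
    rintro i _ ⟨a, rfl⟩
    obtain ⟨k, hk⟩ := m.cm_w i a
    rw [m.conj, ← map_inv, ← map_mul, ← hk]
    change α (ph e p (m.cc i ^ k)) = ph e p (m.cc i ^ k)
    rw [map_zpow, map_zpow, fc]
  let H : Subgroup T := (ph e p).range ⊓ centralizer (Set.range fun i => p (m.w i))
  have hH : ∀ x ∈ (ph e p).range, x⁻¹ * α x ∈ H := fun x hx => by
    have hx' := m.char big α hx
    refine mem_inf.mpr ⟨mul_mem (inv_mem hx) hx', ?_⟩
    rintro _ ⟨i, rfl⟩
    change p (m.w i) * _ = _ * p (m.w i)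
    have e1 := fk i x hx
    rw [map_mul, map_inv, map_mul, map_mul, map_inv, kp i _ hx'] at e1
    have e2 := comm (inv_mem hx) (m.normal.conj_mem _ (inv_mem hx) (p (m.w i)))
    have e3 := comm hx' (m.normal.conj_mem _ (inv_mem hx) (p (m.w i)))
    generalize p (m.w i) = w at *
    rw [inv_mul_eq_iff_eq_mul] at e1
    calc w * (x⁻¹ * α x) = w * x⁻¹ * w⁻¹ * (w * α x * w⁻¹) * w := by group
      _ = (w * x⁻¹ * w⁻¹ * α x) * x⁻¹ * (w * x * w⁻¹) * w := by rw [e1]; group
      _ = α x * (w * x⁻¹ * w⁻¹ * x⁻¹) * (w * x * w⁻¹) * w := by rw [← e3]; group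
      _ = α x * x⁻¹ * w := by rw [← e2]; group
      _ = _ := by rw [comm hx' (inv_mem hx)]
  have fH : ∀ x ∈ H, α x = x := by
    refine fix_of_omega m.twoT hn hα (fun s hs t ht => comm hs.1 ht.1) (fun t ht => ?_) ?_
    · simpa using mul_mem ht (hH t ht.1)
    rintro _ ⟨⟨a, rfl⟩, ha⟩ h2
    have sc : ∀ i, ∃ l, ζ l = a.1 i := fun i => by
      have e1 := ha _ ⟨i, rfl⟩
      rw [← mul_inv_eq_iff_eq_mul, m.conj] at e1
      obtain ⟨l, h0, hl⟩ := m.ph_eq e1.symm
      have e2 : ζ l = 1 := by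
        rcases big with ho | hn
        · rw [h0 ho, map_one]
        · obtain ⟨k, hk⟩ := exists_ne i
          have := hl k
          rwa [m.act_w_ne hk, left_eq_mul] at this
      have e3 := hl i
      rw [m.act_w_same, e2, mul_one] at e3
      exact m.rs.fix _ e3
    choose l hl using sc
    rw [← map_mul, m.ph_one] at h2
    obtain ⟨l0, h0, h2⟩ := h2
    have l2 : ∀ i, l i * l i = l0 := fun i => m.rs.zinj (by rw [map_mul, hl]; exact h2 i)
    have fixD : ∀ v : AA e od P δ, (∀ i, v.1 i ∈ zpowers c) → α (ph e p v) = ph e p v := fun v hv => by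
      let D : Subgroup (ι → A) := ((α.toMonoidHom.comp (ph e p)).eqLocus (ph e p)).map (AA e od P δ).subtype
      have : v.1 ∈ D := Subgroup.pi_mem_of_mulSingle_mem v.1 fun i => by
        obtain ⟨k, hk⟩ := hv i
        refine ⟨m.cc i ^ k, ?_, ?_⟩
        · change α (ph e p (m.cc i ^ k)) = ph e p (m.cc i ^ k)
          rw [map_zpow, map_zpow, fc]
        · rw [← hk]
          exact (Pi.mulSingle_zpow (f := fun _ => A) i c k).symm
      obtain ⟨v', h1, h3⟩ := this
      rw [← (Subtype.ext h3 : v' = v)]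
      exact h1
    by_cases ho : od
    · exact fixD a fun i => hl i ▸ m.rs.uniq _ (by rw [pow_two, l2, h0 ho])
    obtain ⟨i0, -⟩ := (big.resolve_left ho).exists_pair_ne
    have hz : (fun _ => ζ (l i0)) ∈ AA e od P δ := mem_AA.mpr (Or.inr (by
      rw [← (mem_AA.mp a.2).resolve_left ho]
      exact Finset.prod_congr rfl fun i _ => by rw [← hl, m.rs.dz, m.rs.dz, pow_two, pow_two, l2, l2]))
    have e1 : ph e p a = ph e p (a * (⟨_, hz⟩ : AA e od P δ)⁻¹) := by
      rw [map_mul, map_inv, (m.ph_one ⟨_, hz⟩).mpr ⟨l i0, fun h => absurd h ho, fun _ => rfl⟩, inv_one, mul_one]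
    rw [e1]
    refine fixD _ fun i => ?_
    change a.1 i * (ζ (l i0))⁻¹ ∈ _
    rw [← hl, ← map_inv, ← map_mul]
    exact m.rs.uniq _ (by rw [mul_pow, inv_pow, pow_two, pow_two, l2, l2, mul_inv_cancel])
  have fA : ∀ x ∈ (ph e p).range, α x = x := fun x hx => fix_of_pow m.twoT hn hα (fH _ (hH x hx))
  refine fix_of_pow m.twoT hn hα (fA _ (m.mem_of_cent big fun a => ?_))
  have e1 := fA _ (m.normal.conj_mem _ ⟨a, rfl⟩ t)
  rw [map_mul, map_mul, map_inv, fA _ ⟨a, rfl⟩] at e1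
  calc t⁻¹ * α t * ph e p a * (t⁻¹ * α t)⁻¹ = t⁻¹ * (α t * ph e p a * (α t)⁻¹) * t := by group
    _ = _ := by rw [e1]; group

end Mdl

theorem Mdl.aut_big {P : Sylow 2 (Perm ι)} {p : KK od (P : Subgroup (Perm ι)) δ →* T}
    (m : Mdl e b j c a1 ζ δ od (P : Subgroup (Perm ι)) p) (big : od ∨ Nontrivial ι) :
    IsPGroup 2 (MulAut T) := by
  refine S3382.isPGroup_of fun α n hp h2 hα => ?_
  have hn : Odd n := hp.odd_of_ne_two h2
  have hα' : α ^ n = 1 := hα ▸ pow_orderOf_eq_one α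
  have ex : ∀ i, ∃ k, α (p (m.w i)) * (p (m.w k))⁻¹ ∈ (ph e p).range := fun i => by
    by_cases third : od ∨ ∀ i i' : ι, ∃ k, k ≠ i ∧ k ≠ i'
    · exact m.step2_three third α i
    push Not at third
    haveI := big.resolve_left third.1
    obtain ⟨i', hi⟩ := exists_ne i
    obtain ⟨a, a', h⟩ := third.2
    have h' : ∀ k, k = a ∨ k = a' := fun k => (eq_or_ne k a).imp id (h k)
    have hι : ∀ k, k = i ∨ k = i' := fun k => (eq_or_ne k i).imp id fun hk => two_eq h' hk hi
    refine m.step2_two hi hι ?_ hn hα'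
    obtain ⟨σ, hσ, hs⟩ := H19.exists_swap_mem P
    have : σ = swap i i' := by
      have n1 : σ i ≠ i := fun e1 => by
        have : σ = 1 := Perm.ext fun k => by
          rcases hι k with rfl | rfl
          · exact e1
          · exact (hι _).resolve_left fun e2 => hi (σ.injective (e2.trans e1.symm))
        rw [this, map_one] at hs
        exact absurd hs (by decide)
      have e1 := (hι _).resolve_left n1
      refine Perm.ext fun k => ?_
      rcases hι k with rfl | rfl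
      · rw [swap_apply_left, e1]
      · rw [swap_apply_right]
        exact (hι _).resolve_right fun e2 => hi (σ.injective (e2.trans e1.symm))
    exact this ▸ hσ
  choose τ hτ using ex
  haveI := m.normal
  have hq : ∀ x y : T, x * y⁻¹ ∈ (ph e p).range ↔ (x : T ⧸ (ph e p).range) = y := fun x y => by
    rw [QuotientGroup.eq_iff_div_mem, div_eq_mul_inv]
  have ha : ∀ x y : T, (x : T ⧸ (ph e p).range) = y → (α x : T ⧸ (ph e p).range) = α y := fun x y h => by
    rw [← hq] at h ⊢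
    simpa using m.char big α h
  have it : ∀ (k : ℕ) i, ((α ^ k) (p (m.w i)) : T ⧸ (ph e p).range) = p (m.w (τ^[k] i)) := fun k i => by
    induction k with
    | zero => rfl
    | succ k ih =>
      rw [pow_succ', MulAut.mul_apply, ha _ _ ih, Function.iterate_succ_apply']
      exact (hq _ _).mp (hτ _)
  have idn : ∀ i, τ^[n] i = i := fun i => by
    have := it n i
    rw [hα', MulAut.one_apply, ← hq] at this
    exact (m.w_inj this).symm
  have bij : Function.Bijective τ := Finite.injective_iff_bijective.mp fun a a' h => by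
    obtain ⟨k, rfl⟩ := Nat.exists_eq_succ_of_ne_zero hp.ne_zero
    rw [← idn a, ← idn a', Function.iterate_succ_apply, Function.iterate_succ_apply, h]
  let τ' : Perm ι := Equiv.ofBijective τ bij
  have t1 : τ' = 1 := by
    refine H78.eq_one_of_odd_normalizes_sylow_perm P (hn.of_dvd_nat (orderOf_dvd_of_pow_eq_one ?_))
      fun σ hσ => ?_
    · ext i
      rw [Perm.coe_pow]
      exact idn i
    · obtain ⟨h, hh⟩ := m.surj (α (p (Mdl.pm σ hσ)))
      have : τ' * σ * τ'⁻¹ = h.1.right := by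
        rw [mul_inv_eq_iff_eq_mul]
        ext i
        change τ (σ i) = h.1.right (τ i)
        refine m.w_inj ((hq _ _).mpr ?_)
        have e1 := ha _ _ ((hq _ _).mp (m.conj_w (Mdl.pm σ hσ) i))
        rw [← (hq _ _).mp (hτ _), ← (hq _ _).mp (m.conj_w h (τ i))]
        refine e1.symm.trans ?_
        rw [map_mul, map_mul, map_inv, ← hh]
        simp only [QuotientGroup.mk_mul, QuotientGroup.mk_inv, (hq _ _).mp (hτ i)]
      rw [this]
      exact h.2.1
  refine m.step3 big hn hα' fun i => ?_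
  have : τ i = i := congrArg (fun σ : Perm ι => σ i) t1
  simpa only [this] using hτ i

theorem Mdl.aut_small {p : KK od P δ →* T} (m : Mdl e b j c a1 ζ δ od P p) (no : ¬ od) [Unique ι]
    (h4 : c ^ 4 ≠ 1) : IsPGroup 2 (MulAut T) := by
  have hA : ∀ t, t ∈ zpowers (ph e p (m.cc default)) ↔ t ∈ (ph e p).range := fun t => by
    refine ⟨fun h => zpowers_le.mpr (show _ ∈ (ph e p).range from ⟨_, rfl⟩) h, ?_⟩
    rintro ⟨a, rfl⟩
    have := (mem_AA.mp a.2).resolve_left no
    rw [Fintype.prod_unique] at this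
    obtain ⟨k, hk⟩ := m.rs.ker _ this
    refine ⟨k, (map_zpow _ _ k).symm.trans (congrArg _ (Subtype.ext (funext fun i => ?_)))⟩
    rw [Subsingleton.elim i default, ← hk]
    change (m.cc default).1 default ^ k = _
    rw [m.cc_same]
  have hA' : ∀ g, p g ∈ zpowers (ph e p (m.cc default)) ↔ g.1.left default ∈ e.range := fun g => by
    rw [hA, m.mem_A, Unique.forall_iff]
    exact and_iff_right (Subsingleton.elim _ _)
  have ml : ∀ g g' : KK od P δ, (g * g').1.left default = g.1.left default * g'.1.left default :=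
    fun g g' => by rw [Subgroup.coe_mul, wr_mul_left, Subsingleton.elim (g.1.right⁻¹ default) default]
  refine S3116.aux m.twoT (ph e p (m.cc default)) ?_ fun t ht e1 => ?_
  · refine index_eq_two_iff.mpr ⟨p (m.w default), fun t => ?_⟩
    obtain ⟨g, rfl⟩ := m.surj t
    rw [← map_mul, hA', hA', ml]
    change Xor (g.1.left default * (sg default j).left default ∈ _) _
    rw [sg_same]
    by_cases k : g.1.left default ∈ e.range
    · exact Or.inr ⟨k, fun h => m.rs.j_not ((mul_mem_cancel_left k).mp h)⟩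
    · exact Or.inl ⟨by simpa using m.rs.out_mul k (y := j⁻¹) fun h => m.rs.j_not (inv_mem_iff.mp h), k⟩
  · obtain ⟨g, rfl⟩ := m.surj t
    rw [hA'] at ht
    have e2 : p g ^ 2 = 1 := by
      obtain ⟨a, ha⟩ := (m.rs.cov (g.1.left default)).resolve_left fun ⟨a, ha⟩ => ht ⟨a, ha.symm⟩
      have d : δ (g.1.left default) = 1 := by
        have := g.2.2.resolve_left no
        change ∏ i, δ (g.1.left i) = 1 at this
        rwa [Fintype.prod_unique] at this
      rw [ha, map_mul, m.rs.dj, mul_one] at d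
      obtain ⟨k, rfl⟩ := m.rs.ker a d
      obtain ⟨l, -, hl⟩ := m.rs.jj
      rw [pow_two, ← map_mul, m.ker]
      refine ⟨l, fun h => absurd h no, wr_ext (fun i => ?_) (Subsingleton.elim _ _)⟩
      rw [Subsingleton.elim i default, ml, ha, bsW_left, ← hl]
      calc e (c ^ k) * j * (e (c ^ k) * j) = e (c ^ k) * (j * e (c ^ k) * j⁻¹) * (j * j) := by group
        _ = _ := by rw [m.rs.cj, map_zpow b, m.rs.bc, ← map_mul, inv_zpow, mul_inv_cancel, map_one, one_mul]
    have e3 : ph e p (m.cc default) ^ 2 = 1 := by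
      rw [← orderOf_dvd_iff_pow_eq_one, ← e1, orderOf_dvd_iff_pow_eq_one, e2]
    rw [← map_pow, m.ph_one] at e3
    obtain ⟨l, -, hl⟩ := e3
    have e4 := hl default
    change (m.cc default).1 default ^ 2 = _ at e4
    have e5 := m.rs.kz l
    rw [← e4, m.cc_same, map_pow, m.rs.kc, ← pow_mul, inv_pow, inv_eq_one] at e5
    exact h4 e5

end Cfsg.Agent.H96.AL
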