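import Cfsg.Agent.H96.AutLC
import Cfsg.Agent.H26.SLBasic

/-! Block monomial matrices: the model of a Sylow `2`-subgroup of `PSL_n(q)`. -/

set_option autoImplicit false
set_option linter.unusedSectionVars false
set_option linter.unusedVariables false
set_option linter.unusedSimpArgs false
set_option linter.style.haveILetI false
open Subgroup Equiv Matrix

namespace Cfsg.Agent.H96.AL

open H79 (Wr wr_mul_left)

variable {F : Type*} [Field F] [Fintype F]

theorem exists_onto_sylow {K N : Type*} [Group K] [Finite K] [Fintype N] [DecidableEq N] {n : ℕ}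
    (ε : N ≃ Fin n) (hn : n ≠ 0) (hK : IsPGroup 2 K) (Φ : K →* Matrix N N F) (inj : Function.Injective Φ)
    (det : ∀ g, (Φ g).det = 1)
    (val : padicValNat 2 (Nat.card (SpecialLinearGroup (Fin n) F)) ≤ padicValNat 2 (Nat.card K))
    (T : Sylow 2 (ProjectiveSpecialLinearGroup (Fin n) F)) :
    ∃ p : K →* T, Function.Surjective p ∧ ∀ g, p g = 1 ↔ ∃ r : F, Φ g = scalar N r := by
  let Ψ : K →* SpecialLinearGroup (Fin n) F :=
    { toFun := fun g => ⟨reindexAlgEquiv F F ε (Φ g), by rw [det_reindexAlgEquiv, det]⟩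
      map_one' := Subtype.ext (by simp)
      map_mul' := fun x y => Subtype.ext (by
        change reindexAlgEquiv F F ε (Φ (x * y)) = reindexAlgEquiv F F ε (Φ x) * reindexAlgEquiv F F ε (Φ y)
        rw [map_mul, map_mul]) }
  have hΨ : Function.Injective Ψ := fun x y h =>
    inj ((reindexAlgEquiv F F ε).injective (congrArg Subtype.val h))
  have hc : Nat.card Ψ.range = Nat.card K := (Nat.card_congr (MonoidHom.ofInjective hΨ).toEquiv).symm
  have hP : IsPGroup 2 Ψ.range := hK.of_surjective Ψ.rangeRestrict Ψ.rangeRestrict_surjective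
  have hi : ¬ 2 ∣ Ψ.range.index := fun h => by
    have e1 := Ψ.range.card_mul_index
    rw [← e1, padicValNat.mul Nat.card_pos.ne' index_ne_zero_of_finite, hc] at val
    have := one_le_padicValNat_of_dvd index_ne_zero_of_finite h
    omega
  let π := QuotientGroup.mk' (center (SpecialLinearGroup (Fin n) F))
  let S1 : Sylow 2 (ProjectiveSpecialLinearGroup (Fin n) F) :=
    (hP.toSylow hi).mapSurjective (f := π) (QuotientGroup.mk'_surjective _)
  let p0 : K →* S1 := (π.comp Ψ).codRestrict S1 fun g => ⟨Ψ g, ⟨g, rfl⟩, rfl⟩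
  refine ⟨(Sylow.equiv S1 T).toMonoidHom.comp p0, (Sylow.equiv S1 T).surjective.comp ?_, fun g => ?_⟩
  · rintro ⟨_, _, ⟨g, rfl⟩, rfl⟩
    exact ⟨g, rfl⟩
  · change Sylow.equiv S1 T (p0 g) = 1 ↔ _
    rw [map_eq_one_iff _ (Sylow.equiv S1 T).injective, Subtype.ext_iff]
    change π (Ψ g) = 1 ↔ _
    rw [QuotientGroup.mk'_apply, QuotientGroup.eq_one_iff, Matrix.SpecialLinearGroup.mem_center_iff]
    have sc : ∀ r : F, reindexAlgEquiv F F ε (scalar N r) = scalar (Fin n) r := fun r =>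
      (reindexAlgEquiv F F ε).commutes r
    constructor
    · rintro ⟨r, -, hr⟩
      exact ⟨r, (reindexAlgEquiv F F ε).injective (by rw [sc]; exact hr.symm)⟩
    · rintro ⟨r, hr⟩
      have h1 : scalar (Fin n) r = (Ψ g).1 := by rw [← sc, ← hr]; rfl
      refine ⟨r, ?_, h1⟩
      have := (Ψ g).2
      rwa [← h1, scalar_apply, det_diagonal, Finset.prod_const, Finset.card_univ] at this

variable {R A : Type*} [Group R] [CommGroup A] {ι : Type*} [Fintype ι] [DecidableEq ι]

/-- The block monomial matrix. -/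
def blk (ι : Type*) [Fintype ι] [DecidableEq ι] (ρ : R →* GL (Fin 2) F) :
    Wr ι R →* Matrix (Fin 2 × ι) (Fin 2 × ι) F where
  toFun g := Matrix.of fun x y => if x.2 = g.right y.2 then (ρ (g.left x.2)).1 x.1 y.1 else 0
  map_one' := by
    ext ⟨a, i⟩ ⟨b, k⟩
    simp [one_apply, and_comm, ite_and]
  map_mul' x y := by
    ext ⟨a, i⟩ ⟨b, k⟩
    simp only [of_apply, mul_apply, Fintype.sum_prod_type, wr_mul_left, map_mul, Units.val_mul,
      SemidirectProduct.mul_right, Perm.mul_apply, mul_ite, ite_mul, zero_mul, mul_zero,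
      Finset.sum_ite_eq', Finset.mem_univ, if_true]
    split_ifs with h
    · simp [h]
    · simp

theorem blk_apply (ρ : R →* GL (Fin 2) F) (g : Wr ι R) (a b : Fin 2) (i k : ι) :
    blk ι ρ g (a, i) (b, k) = if i = g.right k then (ρ (g.left i)).1 a b else 0 := rfl

theorem det_blk (ρ : R →* GL (Fin 2) F) (g : Wr ι R) : (blk ι ρ g).det = ∏ i, (ρ (g.left i)).1.det := by
  have : blk ι ρ g = (blockDiagonal fun i => (ρ (g.left i)).1).submatrix id
      (Equiv.prodCongrRight fun _ : Fin 2 => g.right) := by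
    ext ⟨a, i⟩ ⟨b, k⟩
    simp [blk_apply, blockDiagonal_apply]
  rw [this, det_permute', Perm.sign_prodCongrRight, det_blockDiagonal]
  simp [Int.units_mul_self, ← Int.cast_mul, ← Units.val_mul]

theorem blk_eq {ρ : R →* GL (Fin 2) F} {g : Wr ι R} {r : F} (h : blk ι ρ g = scalar _ r) :
    g.right = 1 ∧ ∀ i, (ρ (g.left i)).1 = scalar _ r := by
  have h1 : g.right = 1 := by
    ext k
    by_contra hk
    refine (ρ (g.left (g.right k))).ne_zero (Matrix.ext fun a b => ?_)
    have := congrFun (congrFun h (a, g.right k)) (b, k)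
    rw [blk_apply, if_pos rfl, scalar_apply, diagonal_apply_ne _ (fun e => hk (congrArg Prod.snd e))] at this
    exact this
  refine ⟨h1, fun i => Matrix.ext fun a b => ?_⟩
  have := congrFun (congrFun h (a, i)) (b, i)
  rw [blk_apply, if_pos (by rw [h1]; rfl)] at this
  simpa [diagonal_apply] using this

theorem blk_injective {ρ : R →* GL (Fin 2) F} (hρ : Function.Injective ρ) : Function.Injective (blk ι ρ) :=
  (injective_iff_map_eq_one _).mpr fun g hg => by
    obtain ⟨h1, h2⟩ := blk_eq (r := 1) (hg.trans (map_one _).symm)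
    exact wr_ext (fun i => hρ (Units.ext ((h2 i).trans (by simp)))) h1

theorem card_KT {C : Type*} [CommGroup C] (P : Subgroup (Perm ι)) (δ : R →* C) :
    Nat.card (KK True P δ) = Nat.card R ^ Fintype.card ι * Nat.card P := by
  rw [← Nat.card_eq_fintype_card, ← Nat.card_fun, ← Nat.card_prod]
  exact Nat.card_congr
    { toFun := fun g => (g.1.left, ⟨g.1.right, g.2.1⟩)
      invFun := fun x => ⟨⟨x.1, x.2⟩, x.2.2, Or.inl trivial⟩
      left_inv := fun g => rfl
      right_inv := fun x => rfl }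

theorem card_KF {C : Type*} [CommGroup C] [Finite C] (P : Subgroup (Perm ι)) (δ : R →* C) :
    Nat.card (KK True P δ) ∣ Nat.card (KK False P δ) * Nat.card C := by
  have h1 : KK False P δ = (Det ι δ).ker ⊓ KK True P δ := by
    ext g
    exact ⟨fun h => ⟨h.2.resolve_left id, h.1, Or.inl trivial⟩, fun h => ⟨h.2.1, Or.inr h.1⟩⟩
  rw [← ((Det ι δ).ker.subgroupOf (KK True P δ)).card_mul_index, h1]
  refine mul_dvd_mul (dvd_of_eq ?_) ?_
  · rw [← inf_subgroupOf_right]
    exact Nat.card_congr (subgroupOfEquivOfLe inf_le_right).toEquiv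
  · change (Det ι δ).ker.relIndex _ ∣ _
    rw [relIndex_ker]
    exact card_subgroup_dvd_card _

theorem two_KK {C : Type*} [CommGroup C] [Finite R] (hR : IsPGroup 2 R) (od : Prop) (P : Sylow 2 (Perm ι))
    (δ : R →* C) : IsPGroup 2 (KK od (P : Subgroup (Perm ι)) δ) := by
  obtain ⟨a, ha⟩ := hR.exists_card_eq
  obtain ⟨b, hb⟩ := P.2.exists_card_eq
  have h1 : IsPGroup 2 (KK True (P : Subgroup (Perm ι)) δ) :=
    IsPGroup.of_card (n := a * Fintype.card ι + b) (by rw [card_KT, ha, hb, pow_add, pow_mul])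
  exact h1.to_le fun g hg => ⟨hg.1, Or.inl trivial⟩

/-- A model of a Sylow `2`-subgroup of `GL₂(F)`. -/
structure GM (C : Sylow 2 Fˣ) (e : A →* R) (b : A →* A) (j : R) (c a1 : A) (ζ : C →* A) (δ : R →* C)
    (ρ : R →* GL (Fin 2) F) : Prop where
  rs : RS e b j c a1 ζ δ
  inj : Function.Injective ρ
  det : ∀ r, (ρ r).1.det = (δ r).1.1
  sc : ∀ l, (ρ (e (ζ l))).1 = scalar _ l.1.1
  val : ∀ m : ℕ, padicValNat 2 (Nat.card (GL (Fin (2 * m)) F)) =
    m * padicValNat 2 (Nat.card R) + padicValNat 2 m.factorial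

theorem mem_sylow_comm {X : Type*} [CommGroup X] [Finite X] (C : Sylow 2 X) {x : X} {k : ℕ}
    (h : x ^ 2 ^ k = 1) : x ∈ C := by
  have h1 : IsPGroup 2 (zpowers x) := by
    rintro ⟨_, n, rfl⟩
    exact ⟨k, Subtype.ext (by
      change (x ^ n) ^ 2 ^ k = 1
      rw [← _root_.zpow_natCast, ← _root_.zpow_mul, mul_comm, _root_.zpow_mul, _root_.zpow_natCast, h,
        _root_.one_zpow])⟩
  obtain ⟨Q, hQ⟩ := h1.exists_le_sylow
  haveI := Sylow.unique_of_normal C inferInstance
  exact Subsingleton.elim Q C ▸ hQ (mem_zpowers x)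

theorem val_sylow {X : Type*} [Group X] [Finite X] (C : Sylow 2 X) :
    padicValNat 2 (Nat.card C) = padicValNat 2 (Nat.card X) := by
  rw [C.card_eq_multiplicity, padicValNat.prime_pow, Nat.factorization_def _ Nat.prime_two]

namespace GM

variable {C : Sylow 2 Fˣ} {e : A →* R} {b : A →* A} {j : R} {c a1 : A} {ζ : C →* A} {δ : R →* C}
  {ρ : R →* GL (Fin 2) F} (m : GM C e b j c a1 ζ δ ρ)
include m

theorem fin : Finite R := Finite.of_injective ρ m.inj

theorem det_eq (g : Wr ι R) : (blk ι ρ g).det = (Det ι δ g).1.1 := by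
  rw [det_blk]
  simp only [m.det]
  exact (map_prod ((Units.coeHom F).comp (C : Subgroup Fˣ).subtype) _ _).symm

theorem blk_sc (l : C) : blk ι ρ (bsW ι e fun _ => ζ l) = scalar _ l.1.1 := by
  ext ⟨a, i⟩ ⟨b, k⟩
  rw [blk_apply, bsW_left, bsW_right, m.sc]
  by_cases h1 : i = k <;> by_cases h2 : a = b <;> simp [diagonal_apply, h1, h2]

theorem of_sc [Nonempty ι] {g : Wr ι R} {r : F} (h : blk ι ρ g = scalar _ r) :
    ∃ l : C, l.1.1 = r ∧ g = bsW ι e fun _ => ζ l := by
  obtain ⟨h1, h2⟩ := blk_eq h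
  obtain ⟨i⟩ := ‹Nonempty ι›
  obtain ⟨k, hk⟩ := m.rs.two (g.left i)
  have h3 : r ^ 2 ^ k = 1 := by
    have := congrArg (fun x => (ρ x).1 0 0) hk
    change (ρ (g.left i ^ 2 ^ k)).1 0 0 = (ρ 1).1 0 0 at this
    rw [map_pow, Units.val_pow_eq_pow_val, h2, ← map_pow, map_one] at this
    simpa using this
  have h0 : r ≠ 0 := by
    rintro rfl
    rw [zero_pow (by positivity)] at h3
    exact zero_ne_one h3
  refine ⟨⟨Units.mk0 r h0, mem_sylow_comm C (k := k) (Units.ext (by simpa using h3))⟩, rfl,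
    wr_ext (fun i => m.inj (Units.ext ?_)) h1⟩
  rw [h2, bsW_left, m.sc]
  rfl

theorem val_KT (n : ℕ) (P : Sylow 2 (Perm (Fin n))) :
    padicValNat 2 (Nat.card (KK True (P : Subgroup (Perm (Fin n))) δ)) =
      padicValNat 2 (Nat.card (GL (Fin (2 * n)) F)) := by
  haveI := m.fin
  rw [card_KT, padicValNat.mul (pow_ne_zero _ Nat.card_pos.ne') Nat.card_pos.ne', padicValNat.pow, val_sylow,
    m.val, Nat.card_perm, Fintype.card_fin, Nat.card_fin]

theorem even (n : ℕ) (hn : n ≠ 0) (P : Sylow 2 (Perm (Fin n)))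
    (T : Sylow 2 (ProjectiveSpecialLinearGroup (Fin (2 * n)) F)) :
    ∃ p : KK False (P : Subgroup (Perm (Fin n))) δ →* T, Mdl e b j c a1 ζ δ False (P : Subgroup (Perm (Fin n))) p := by
  haveI := m.fin
  haveI : Nonempty (Fin n) := ⟨⟨0, by omega⟩⟩
  haveI : Nonempty (Fin (2 * n)) := ⟨⟨0, by omega⟩⟩
  haveI := H79.wr_finite (ι := Fin n) (H := R)
  obtain ⟨p, h1, h2⟩ := exists_onto_sylow finProdFinEquiv (by omega) (two_KK m.rs.two False P δ)
    ((blk (Fin n) ρ).comp (KK False (P : Subgroup (Perm (Fin n))) δ).subtype)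
    ((blk_injective m.inj).comp Subtype.val_injective)
    (fun g => (m.det_eq g.1).trans (by rw [g.2.2.resolve_left id]; rfl)) (by
      have e1 := (padicValNat_dvd_iff_le (p := 2) (mul_ne_zero Nat.card_pos.ne' Nat.card_pos.ne')).mp
        (pow_padicValNat_dvd.trans (card_KF (P : Subgroup (Perm (Fin n))) δ))
      rw [m.val_KT, padicValNat.mul Nat.card_pos.ne' Nat.card_pos.ne', val_sylow,
        ← H26.card_units_mul_card_sl, padicValNat.mul Nat.card_pos.ne' Nat.card_pos.ne'] at e1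
      omega) T
  refine ⟨p, m.rs, T.2, h1, fun g => (h2 g).trans ⟨fun ⟨r, hr⟩ => ?_, fun ⟨l, _, hl⟩ => ⟨l.1.1, ?_⟩⟩⟩
  · obtain ⟨l, -, hl⟩ := m.of_sc hr
    exact ⟨l, False.elim, hl⟩
  · change blk _ ρ g.1 = _
    rw [hl, m.blk_sc]

theorem odd (hq : Odd (Fintype.card F)) (n : ℕ) (hn : n ≠ 0) (P : Sylow 2 (Perm (Fin n)))
    (T : Sylow 2 (ProjectiveSpecialLinearGroup (Fin (2 * n + 1)) F)) :
    ∃ p : KK True (P : Subgroup (Perm (Fin n))) δ →* T, Mdl e b j c a1 ζ δ True (P : Subgroup (Perm (Fin n))) p := by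
  haveI := m.fin
  haveI : Nonempty (Fin n) := ⟨⟨0, by omega⟩⟩
  haveI := H79.wr_finite (ι := Fin n) (H := R)
  let Φ : Wr (Fin n) R →* Matrix ((Fin 2 × Fin n) ⊕ Fin 1) ((Fin 2 × Fin n) ⊕ Fin 1) F :=
    { toFun := fun g => fromBlocks (blk (Fin n) ρ g) 0 0 (scalar _ (Det (Fin n) δ g)⁻¹.1.1)
      map_one' := by simp
      map_mul' := fun x y => by
        rw [fromBlocks_multiply, map_mul, map_mul, mul_inv, ← map_mul]
        simp }
  have hΦ : ∀ g, Φ g = fromBlocks (blk (Fin n) ρ g) 0 0 (scalar _ (Det (Fin n) δ g)⁻¹.1.1) := fun _ => rfl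
  have sc : ∀ r : F, (scalar ((Fin 2 × Fin n) ⊕ Fin 1) r) = fromBlocks (scalar _ r) 0 0 (scalar _ r) :=
    fun r => by simp [fromBlocks_diagonal]
  obtain ⟨p, h1, h2⟩ := exists_onto_sylow
    ((Equiv.sumCongr finProdFinEquiv (Equiv.refl _)).trans finSumFinEquiv) (by omega)
    (two_KK m.rs.two True P δ) (Φ.comp (KK True (P : Subgroup (Perm (Fin n))) δ).subtype)
    (fun x y h => Subtype.ext (blk_injective m.inj (fromBlocks_inj.mp h).1))
    (fun g => by
      change (Φ g.1).det = 1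
      rw [hΦ, det_fromBlocks_zero₂₁, m.det_eq]
      simp) (by
      have e1 := H26.card_units_mul_card_sl (ι := Fin (2 * n + 1)) (R := F)
      have e2 := congrArg (padicValNat 2) e1
      rw [padicValNat.mul Nat.card_pos.ne' Nat.card_pos.ne', H79.val_card_GL hq, Finset.prod_range_succ,
        padicValNat.mul (H79.prod_pow_sub_one_ne_zero Fintype.one_lt_card _)
          (Nat.sub_ne_zero_of_lt (Nat.one_lt_pow (by omega) Fintype.one_lt_card)),
        H79.val_pow_sub_one_of_odd Fintype.one_lt_card hq (odd_two_mul_add_one n), Nat.card_units,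
        Nat.card_eq_fintype_card, ← H79.val_card_GL hq] at e2
      rw [m.val_KT]
      omega) T
  refine ⟨p, m.rs, T.2, h1, fun g => (h2 g).trans ⟨fun ⟨r, hr⟩ => ?_, fun ⟨l, h0, hl⟩ => ⟨1, ?_⟩⟩⟩
  · change Φ g.1 = _ at hr
    rw [hΦ, sc, fromBlocks_inj] at hr
    obtain ⟨l, rfl, hl⟩ := m.of_sc hr.1
    refine ⟨l, fun _ => ?_, hl⟩
    have e1 : (Det (Fin n) δ g.1)⁻¹ = l := Subtype.ext (Units.ext (by
      simpa using congrFun (congrFun hr.2.2.2 0) 0))
    have e2 : Det (Fin n) δ g.1 = (l ^ 2) ^ n := by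
      rw [hl]
      change ∏ _i : Fin n, δ (e (ζ l)) = _
      rw [m.rs.dz, Finset.prod_const, Finset.card_univ, Fintype.card_fin]
    refine eq_one_of_odd m.rs.twoC (odd_two_mul_add_one n) ?_
    rw [pow_succ, pow_mul, ← e2, ← e1, mul_inv_cancel]
  · change Φ g.1 = _
    rw [hl, h0 trivial, map_one, map_one, show (fun _ : Fin n => (1 : A)) = 1 from rfl, map_one, map_one]

theorem aut (hq : Odd (Fintype.card F)) {n : ℕ} (hn : 2 ≤ n) (h4 : n = 2 → c ^ 4 ≠ 1)
    (T : Sylow 2 (ProjectiveSpecialLinearGroup (Fin n) F)) : IsPGroup 2 (MulAut T) := by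
  obtain ⟨k, rfl | rfl⟩ := Nat.even_or_odd' n
  · obtain ⟨p, hp⟩ := m.even k (by omega) default T
    rcases eq_or_ne k 1 with rfl | hk
    · exact hp.aut_small id (h4 rfl)
    · exact hp.aut_big (Or.inr (Fin.nontrivial_iff_two_le.mpr (by omega)))
  · obtain ⟨p, hp⟩ := m.odd hq k (by omega) default T
    exact hp.aut_big (Or.inl trivial)

end GM

end Cfsg.Agent.H96.AL
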