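import Mathlib
import Cfsg.Agent.H96.Sparse
import Cfsg.Agent.H51.SCFus
import Cfsg.Agent.H99.ResSeries

/-! An axiomatic `ZJ` theorem for families of abelian subgroups with invariance and replacement. -/

set_option autoImplicit false
set_option linter.unusedSectionVars false
set_option linter.style.haveILetI false

namespace Cfsg.Agent.H96

universe u

section Group

open Subgroup Cfsg.Agent.H51 Cfsg.Agent.H85 Cfsg.Agent.H56

variable {G : Type u} [Group G] [Finite G] {p : ℕ} [Fact p.Prime]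

theorem npc_quotient_of_coatom (hp : p ≠ 2) (T : Sylow p G) (hT : IsCoatom (T : Subgroup G)) :
    HasNormalPComplement p (G ⧸ pCore p G) := by
  set π := QuotientGroup.mk' (pCore p G)
  have h1 := isSyl_map_mk' (isSyl_top T) (pCore p G)
  by_cases h0 : (T : Subgroup G).map π = ⊥
  · refine H8.hasNormalPComplement_of_not_dvd ?_
    have := h1.not_dvd_relIndex
    rwa [h0, relIndex_bot_left, card_top] at this
  refine scNpc hp (dvd_zero p) _ _ _ h1 (isStronglyClosed_self _) ?_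
  rw [← map_normalizer_comap (QuotientGroup.mk'_surjective _)]
  refine H8.HasNormalPComplement.map (H8.hasNormalPComplement_of_isPGroup ?_) _
  have h2 := normalizer_comap_ne_top (h1.isPGroup.to_le (sInf_maxEA_le_self 0 _))
    (sInf_maxEA_ne_bot h1.isPGroup h0 (dvd_zero p))
  have h3 : (T : Subgroup G) ≤ normalizer
      (((sInf (maxEA 0 ((T : Subgroup G).map π))).comap π : Subgroup G) : Set G) := by
    rw [← comap_normalizer_eq_of_surjective _ (QuotientGroup.mk'_surjective _)]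
    exact map_le_iff_le_comap.1 (le_normalizer.trans (normalizer_le_normalizer_sInf 0 _))
  exact T.isPGroup'.to_le ((hT.le_iff.1 h3).resolve_left h2).le

theorem stable_of_coatom (hp : p ≠ 2) (T : Sylow p G) (hT : IsCoatom (T : Subgroup G)) :
    IsNormalizerPStable p G :=
  (H54.abRes_of_sylow_coatom T hT (npc_quotient_of_coatom hp T hT)).isNormalizerPStable hp

variable (S : Sylow p G) {𝒜 : Set (Subgroup G)}
  (h𝒜 : ∀ A ∈ 𝒜, A ≤ S ∧ IsMulCommutative A) (hne : 𝒜.Nonempty)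
  (hinv : ∀ X : Subgroup G, X ≤ S → (∃ A ∈ 𝒜, A ≤ X) →
    normalizer (X : Set G) ≤ normalizer ((sInf {A | A ∈ 𝒜 ∧ A ≤ X} : Subgroup G) : Set G))
  (hrep : ∀ B : Subgroup G, B ≤ S → ⁅⁅B, B⁆, B⁆ = ⊥ → (∃ A ∈ 𝒜, ⁅B, B⁆ ≤ A ∧ ¬ B ≤ A) →
    ∃ A ∈ 𝒜, ¬ B ≤ A ∧ B ≤ normalizer (A : Set G))

include h𝒜 hne hinv

theorem le_normalizer_sInf_fam : (S : Subgroup G) ≤ normalizer ((sInf 𝒜 : Subgroup G) : Set G) := by
  obtain ⟨A, hA⟩ := hne
  have := hinv S le_rfl ⟨A, hA, (h𝒜 A hA).1⟩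
  rw [show {A | A ∈ 𝒜 ∧ A ≤ (S : Subgroup G)} = 𝒜 from
    Set.ext fun A => ⟨fun h => h.1, fun h => ⟨h, (h𝒜 A h).1⟩⟩] at this
  exact le_normalizer.trans this

include hrep

theorem fam_inf_normal (hst : ∀ B : Subgroup G, B.Normal → IsPGroup p B → StableOn p ⊤ B)
    (B : Subgroup G) (hBn : B.Normal) (hB : IsPGroup p B) : (sInf 𝒜 ⊓ B).Normal := by
  set Z := sInf 𝒜 with hZ
  have hSZ : (S : Subgroup G) ≤ normalizer (Z : Set G) := le_normalizer_sInf_fam S h𝒜 hne hinv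
  have hZc : ⁅Z, Z⁆ = ⊥ := by
    obtain ⟨A, hA⟩ := hne
    exact commutator_eq_bot_of_le (isMulCommutative_iff_commutator.mp (h𝒜 A hA).2)
      (sInf_le hA) (sInf_le hA)
  induction B using WellFoundedLT.induction with
  | ind B ih =>
  by_contra hn
  have hBS : B ≤ S := hB.le_sylow_of_normal S
  have hB1 : normalClosure ((Z ⊓ B : Subgroup G) : Set G) = B := by
    have h1 : normalClosure ((Z ⊓ B : Subgroup G) : Set G) ≤ B := normalClosure_le_normal inf_le_right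
    by_contra hne
    have := ih _ (lt_of_le_of_ne h1 hne) inferInstance (hB.to_le h1)
    apply hn
    have e : Z ⊓ normalClosure ((Z ⊓ B : Subgroup G) : Set G) = Z ⊓ B :=
      le_antisymm (inf_le_inf_left _ h1) (le_inf inf_le_left le_normalClosure)
    rwa [e] at this
  have hB0 : B ≠ ⊥ := by
    rintro rfl
    exact hn (by rw [inf_bot_eq]; infer_instance)
  have hB' : ⁅B, B⁆ < B :=
    H3.commutator_lt_of_isSolvable (by have := hB.isNilpotent; infer_instance) hB0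
  have hW := ih _ hB' inferInstance (hB.to_le hB'.le)
  have hBZ : ⁅B, B⁆ ≤ Z := by
    have h1 : ⁅Z ⊓ B, B⁆ ≤ Z ⊓ ⁅B, B⁆ := le_inf ((commutator_mono inf_le_left le_rfl).trans
      (commutator_le_left_of_le_normalizer (hBS.trans hSZ))) (commutator_mono inf_le_right le_rfl)
    have := commutator_normalClosure_le h1
    rw [hB1] at this
    exact this.trans inf_le_left
  have hB2 : ⁅⁅B, B⁆, B⁆ = ⊥ := by
    have := commutator_normalClosure_le (X := Z ⊓ B) (B := ⁅B, B⁆) (W := ⊥)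
      (commutator_eq_bot_of_le hZc inf_le_left hBZ).le
    rwa [hB1, le_bot_iff, Subgroup.commutator_comm] at this
  set L := normalCore (normalizer ((Z ⊓ B : Subgroup G) : Set G)) with hL
  have hop : opMod p ⊤ (centralizer (B : Set G)) ≤ L := by
    have := opMod_top_normal p (centralizer (B : Set G))
    rw [hL, normal_le_normalCore]
    refine opMod_le_of_le le_normalizer_of_normal (H8.isSylowIn_top S) ?_ ?_
    · exact (le_inf hSZ le_normalizer_of_normal).trans (normalizer_inf_normalizer_le_inf Z B)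
    · exact inf_le_left.trans ((centralizer_le inf_le_right).trans (centralizer_le_normalizer _))
  have hex : ∃ U ∈ 𝒜, ¬ B ≤ U := by
    by_contra h
    push Not at h
    have : B ≤ Z := le_sInf h
    exact hn (by rwa [inf_of_le_right this])
  obtain ⟨U, hU, hBU⟩ := hex
  obtain ⟨A, hA, hBA, hBN⟩ := hrep B hBS hB2 ⟨U, hU, hBZ.trans (sInf_le hU), hBU⟩
  have hAL : A ≤ L := ((hst B hBn hB).le_opMod (S.2.to_le (h𝒜 A hA).1) le_top
    (commutator_eq_bot_of_le (isMulCommutative_iff_commutator.mp (h𝒜 A hA).2)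
      (commutator_le_right_of_le_normalizer hBN) le_rfl)).trans hop
  have hA' : A ≤ (S : Subgroup G) ⊓ L := le_inf (h𝒜 A hA).1 hAL
  have hZX : Z ≤ sInf {A | A ∈ 𝒜 ∧ A ≤ (S : Subgroup G) ⊓ L} := le_sInf fun C hC => sInf_le hC.1
  apply hBA
  refine le_trans ?_ (sInf_le (s := {A | A ∈ 𝒜 ∧ A ≤ (S : Subgroup G) ⊓ L}) ⟨hA, hA'⟩)
  rw [← hB1]
  refine normalClosure_le_of_forall_conj fun g x hx => ?_
  obtain ⟨l, hl, n, hn, hg⟩ := (H8.isSylowIn_inf_normal S L).frattini (g := g⁻¹)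
    (le_normalizer_of_normal (mem_top _))
  have hg' : g = n⁻¹ * l⁻¹ := by rw [← mul_inv_rev, ← hg, inv_inv]
  have h1 : l⁻¹ * x * l ∈ Z ⊓ B := conj_mem_of_mem_normalizer' (normalCore_le _ hl) hx
  have h2 := conj_mem_of_mem_normalizer' (hinv _ inf_le_left ⟨A, hA, hA'⟩ hn) (hZX h1.1)
  rw [hg']
  simpa [mul_assoc] using h2

theorem fam_normal (hc : centralizer (pCore p G : Set G) ≤ pCore p G)
    (hst : IsNormalizerPStable p G) : (sInf 𝒜).Normal := by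
  have hst' : ∀ B : Subgroup G, B.Normal → IsPGroup p B → StableOn p ⊤ B := fun B _ hB =>
    stableOn_of_isNormalizerPStable hst hB le_normalizer_of_normal
  have h1 := fam_inf_normal S h𝒜 hne hinv hrep hst' (pCore p G) inferInstance
    (H3.pCore_isPGroup p G)
  have h3 := le_normalizer_sInf_fam S h𝒜 hne hinv
  obtain ⟨A, hA⟩ := hne
  have h2 : sInf 𝒜 ≤ pCore p G :=
    le_pCore_of_comm_of_stable (isMulCommutative_of_le (h𝒜 A hA).2 (sInf_le hA))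
      (S.2.to_le ((sInf_le hA).trans (h𝒜 A hA).1)) ((H3.pCore_le_sylow S).trans h3) hc
      (hst' _ inferInstance (H3.pCore_isPGroup p G))
  rwa [inf_of_le_left h2] at h1

end Group

section Fusion

open Cfsg Cfsg.FusionSystem Cfsg.Agent.H97 Cfsg.Agent.H98

variable {Ω : Type u} [Group Ω] {S : Subgroup Ω} {F : FusionSystem S} [Finite S]
  {p : ℕ} [Fact p.Prime] {G : Type*} [Group G] {ι : S →* G}

theorem Sparse.isCoatom (hsp : Sparse F p) (h : F.IsModel p G ι) : IsCoatom ι.range := by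
  obtain ⟨hfin, hr, ⟨T, hT⟩, hc⟩ := id h
  have hO := H99.IsModel.pCore_le_range h
  refine ⟨fun htop => hsp.1 fun P f hf => ?_, fun M hM => ?_⟩
  · obtain ⟨g, hg⟩ := H99.Realized.exists_conj hr hf
    obtain ⟨s, hs, rfl⟩ := H99.mem_range_iff_fn.1 (htop ▸ Subgroup.mem_top g : g ∈ ι.range)
    exact ⟨s, hs, fun x hx => H99.fn_inj hr.1 (hf.mem hx) (S.mul_mem (S.mul_mem hs (hf.le hx))
      (S.inv_mem hs)) (by rw [hg x hx, H99.fn_conj ι hs (hf.le hx)])⟩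
  have hMι : ∀ s, ι s ∈ M := fun s => hM.le ⟨s, rfl⟩
  obtain ⟨D, hDr, hDF, hD⟩ := H99.Realized.exists_sub hr hMι
  have hDs : D.IsSaturated p := isSaturated_of_isRealizedBy hDr (T.subtype (hT ▸ hM.le)) (by
    ext x
    rw [Sylow.coe_subtype, Subgroup.mem_subgroupOf, hT]
    exact ⟨fun ⟨s, e⟩ => ⟨s, Subtype.ext e⟩, fun ⟨s, e⟩ => ⟨s, congrArg Subtype.val e⟩⟩)
  set Q := H99.pre ι (pCore p G) with hQ
  have hQS : Q ≤ S := H99.pre_le _ _
  have hmor : ∀ g : G, ∃ f, Mor F Q f ∧ ∀ x ∈ Q, fn ι (f x) = g * fn ι x * g⁻¹ := fun g =>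
    H99.Realized.exists_mor hr hQS fun x hx =>
      hO ((inferInstance : (pCore p G).Normal).conj_mem _ (H99.mem_pre.1 hx).2 g)
  have key : ∀ g m : G, (∀ x ∈ Q, g * fn ι x * g⁻¹ = m * fn ι x * m⁻¹) → m⁻¹ * g ∈ ι.range := by
    intro g m e
    refine hO (hc (mem_centralizer_conj.2 fun y hy => ?_))
    obtain ⟨x, hx, rfl⟩ := H99.mem_range_iff_fn.1 (hO hy)
    calc _ = m⁻¹ * (g * fn ι x * g⁻¹) * m := by group
      _ = _ := by rw [e x (H99.mem_pre.2 ⟨hx, hy⟩)]; group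
  rcases hsp.2 D hDs hDF with rfl | hN
  · refine eq_top_iff.2 fun g _ => ?_
    obtain ⟨f, hf, e⟩ := hmor g
    obtain ⟨-, m, hm, em⟩ := (hD Q f).1 hf
    simpa using M.mul_mem hm (hM.le (key g m fun x hx => (e x hx).symm.trans (em x hx)))
  · refine absurd (fun g hg => ?_) hM.not_ge
    obtain ⟨f, hf, e⟩ := hmor g
    obtain ⟨s, hs, es⟩ := hN Q f ((hD Q f).2 ⟨hf, g, hg, e⟩)
    simpa using ι.range.mul_mem (H99.fn_mem_range ι s) (key g (fn ι s) fun x hx => by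
      rw [← e x hx, es x hx, H99.fn_conj ι hs (hQS hx)])

theorem img_fn_commutator {A B : Subgroup Ω} (hA : A ≤ S) (hB : B ≤ S) :
    img ⁅A, B⁆ (fn ι) = ⁅img A (fn ι), img B (fn ι)⁆ := by
  rw [← Subgroup.map_subgroupOf_eq_of_le hA, ← Subgroup.map_subgroupOf_eq_of_le hB,
    ← Subgroup.map_commutator, img_fn_map_subtype, img_fn_map_subtype, img_fn_map_subtype,
    Subgroup.map_commutator]

theorem img_fn_le_iff (hι : Function.Injective ι) {A B : Subgroup Ω} (hA : A ≤ S) (hB : B ≤ S) :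
    img A (fn ι) ≤ img B (fn ι) ↔ A ≤ B :=
  ⟨fun h _ hx => (H99.fn_mem_img_iff hι hB (hA hx)).1 (h (mem_img_of_mem _ hx)), img_mono _⟩

theorem img_fn_sInf (hι : Function.Injective ι) {𝒜 : Set (Subgroup Ω)} (h : ∀ A ∈ 𝒜, A ≤ S)
    (hne : 𝒜.Nonempty) : img (sInf 𝒜) (fn ι) = sInf ((fun A => img A (fn ι)) '' 𝒜) := by
  obtain ⟨A, hA⟩ := hne
  refine le_antisymm (le_sInf ?_) fun y hy => ?_
  · rintro _ ⟨B, hB, rfl⟩
    exact img_mono _ (sInf_le hB)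
  · rw [Subgroup.mem_sInf] at hy
    obtain ⟨x, hx, rfl⟩ := (H99.mem_img_fn (h A hA)).1 (hy _ ⟨A, hA, rfl⟩)
    exact mem_img_of_mem _ (Subgroup.mem_sInf.2 fun B hB =>
      (H99.fn_mem_img_iff hι (h B hB) (h A hA hx)).1 (hy _ ⟨B, hB, rfl⟩))

theorem isNormal_fam_of_model [Finite G] (h : F.IsModel p G ι) (hst : IsNormalizerPStable p G)
    {𝒜 : Set (Subgroup Ω)} (h𝒜 : ∀ A ∈ 𝒜, A ≤ S ∧ IsMulCommutative A) (hne : 𝒜.Nonempty)
    (hinv : ∀ Q : Subgroup Ω, Q ≤ S → (∃ A ∈ 𝒜, A ≤ Q) → ∀ α ∈ F.autGroup Q,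
      ∀ x ∈ sInf {A | A ∈ 𝒜 ∧ A ≤ Q}, ext α x ∈ sInf {A | A ∈ 𝒜 ∧ A ≤ Q})
    (hrep : ∀ B : Subgroup Ω, B ≤ S → ⁅⁅B, B⁆, B⁆ = ⊥ → (∃ A ∈ 𝒜, ⁅B, B⁆ ≤ A ∧ ¬ B ≤ A) →
      ∃ A ∈ 𝒜, ¬ B ≤ A ∧ B ≤ Subgroup.normalizer (A : Set Ω)) : F.IsNormal (sInf 𝒜) := by
  obtain ⟨-, hr, ⟨T, hT⟩, hc⟩ := id h
  have hι := hr.1
  have hS : ∀ A ∈ 𝒜, A ≤ S := fun A hA => (h𝒜 A hA).1
  obtain ⟨A₀, hA₀⟩ := id hne
  refine H99.Realized.isNormal_of_normal hr ((sInf_le hA₀).trans (hS _ hA₀)) ?_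
  rw [img_fn_sInf hι hS hne]
  refine fam_normal T ?_ (hne.image _) ?_ ?_ hc hst
  · rintro _ ⟨A, hA, rfl⟩
    refine ⟨hT ▸ H99.img_fn_le_range ι A, H51.isMulCommutative_iff_commutator.2 ?_⟩
    rw [← img_fn_commutator (hS A hA) (hS A hA), H51.isMulCommutative_iff_commutator.1 (h𝒜 A hA).2,
      img_bot (H99.fn_one ι)]
  · rintro X hX ⟨_, ⟨A, hA, rfl⟩, hAX⟩ g hg
    rw [hT] at hX
    set Q := H99.pre ι X with hQ
    have hQS : Q ≤ S := H99.pre_le _ _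
    have hXQ : img Q (fn ι) = X := H99.img_pre hX
    have hle : ∀ B ∈ 𝒜, (img B (fn ι) ≤ X ↔ B ≤ Q) := fun B hB => by
      rw [← hXQ, img_fn_le_iff hι (hS B hB) hQS]
    have e : {B | B ∈ (fun A => img A (fn ι)) '' 𝒜 ∧ B ≤ X} =
        (fun A => img A (fn ι)) '' {B | B ∈ 𝒜 ∧ B ≤ Q} := by
      ext B
      constructor
      · rintro ⟨⟨B, hB, rfl⟩, h⟩
        exact ⟨B, ⟨hB, (hle B hB).1 h⟩, rfl⟩
      · rintro ⟨B, hB, rfl⟩
        exact ⟨⟨B, hB.1, rfl⟩, (hle B hB.1).2 hB.2⟩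
    have hAQ := (hle A hA).1 hAX
    have hI : sInf {B | B ∈ 𝒜 ∧ B ≤ Q} ≤ Q :=
      (sInf_le (s := {B | B ∈ 𝒜 ∧ B ≤ Q}) ⟨hA, hAQ⟩).trans hAQ
    rw [e, ← img_fn_sInf (𝒜 := {B | B ∈ 𝒜 ∧ B ≤ Q}) hι (fun B hB => hS B hB.1) ⟨A, hA, hAQ⟩]
    have hgX : ∀ x ∈ Q, g * fn ι x * g⁻¹ ∈ X := fun x hx =>
      conj_mem_of_mem_normalizer hg (H99.mem_pre.1 hx).2
    obtain ⟨f, hf, ef⟩ := H99.Realized.exists_mor hr hQS fun x hx => hX (hgX x hx)
    obtain ⟨α, hα, eα⟩ := hf.exists_aut (hf.img_eq_of_mapsTo fun x hx =>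
      H99.mem_pre.2 ⟨hf.mem hx, by rw [ef x hx]; exact hgX x hx⟩)
    refine mem_normalizer_of_conj_mem fun y hy => ?_
    obtain ⟨x, hx, rfl⟩ := (H99.mem_img_fn (hI.trans hQS)).1 hy
    rw [← ef x (hI hx), ← eα x (hI hx)]
    exact mem_img_of_mem _ (hinv Q hQS ⟨A, hA, hAQ⟩ α hα x hx)
  · rintro B' hB' hB2 ⟨_, ⟨A, hA, rfl⟩, h1, h2⟩
    rw [hT] at hB'
    have hBS : H99.pre ι B' ≤ S := H99.pre_le _ _
    rw [← H99.img_pre hB'] at hB2 h1 h2 ⊢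
    generalize H99.pre ι B' = B at *
    have hBB : ⁅B, B⁆ ≤ S := (Subgroup.commutator_le_self B).trans hBS
    have hBBB : ⁅⁅B, B⁆, B⁆ ≤ S :=
      ((Subgroup.commutator_mono (Subgroup.commutator_le_self B) le_rfl).trans
        (Subgroup.commutator_le_self B)).trans hBS
    rw [← img_fn_commutator hBS hBS] at hB2 h1
    rw [← img_fn_commutator hBB hBS, ← img_bot (H99.fn_one ι)] at hB2
    obtain ⟨A', hA', h3, h4⟩ := hrep B hBS
      (le_bot_iff.1 ((img_fn_le_iff hι hBBB bot_le).1 hB2.le))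
      ⟨A, hA, (img_fn_le_iff hι hBB (hS A hA)).1 h1, fun h => h2 (img_mono _ h)⟩
    refine ⟨_, ⟨A', hA', rfl⟩, fun h => h3 ((img_fn_le_iff hι hBS (hS A' hA')).1 h),
      img_le_iff.2 fun b hb => mem_normalizer_of_conj_mem fun y hy => ?_⟩
    obtain ⟨x, hx, rfl⟩ := (H99.mem_img_fn (hS A' hA')).1 hy
    rw [← H99.fn_conj ι (hBS hb) (hS A' hA' hx)]
    exact mem_img_of_mem _ (conj_mem_of_mem_normalizer (h4 hb) hx)

theorem nil_of_nNil_fam (hp : p ≠ 2) (hS : IsPGroup p S) (hF : F.IsSaturated p)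
    {𝒜 : Set (Subgroup Ω)} (h𝒜 : ∀ A ∈ 𝒜, A ≤ S ∧ IsMulCommutative A) (hne : 𝒜.Nonempty)
    (hinv : ∀ Q : Subgroup Ω, Q ≤ S → (∃ A ∈ 𝒜, A ≤ Q) → ∀ α ∈ F.autGroup Q,
      ∀ x ∈ sInf {A | A ∈ 𝒜 ∧ A ≤ Q}, ext α x ∈ sInf {A | A ∈ 𝒜 ∧ A ≤ Q})
    (hrep : ∀ B : Subgroup Ω, B ≤ S → ⁅⁅B, B⁆, B⁆ = ⊥ → (∃ A ∈ 𝒜, ⁅B, B⁆ ≤ A ∧ ¬ B ≤ A) →
      ∃ A ∈ 𝒜, ¬ B ≤ A ∧ B ≤ Subgroup.normalizer (A : Set Ω))
    (h : NNil F (sInf 𝒜)) : Nil F := by
  by_contra hn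
  obtain ⟨E, hEF, ⟨hE, Q, hQ, hc⟩, hsp⟩ := exists_sparse_constrained hp hS hF hn
  obtain ⟨G, _, ι, hM⟩ := H99.exists_model hS hE hQ hc
  have := hM.1
  obtain ⟨T, hT⟩ := hM.2.2.1
  exact hsp.1 ((h.of_sub hEF).nil_of_isNormal (isNormal_fam_of_model hM
    (stable_of_coatom hp T (hT ▸ hsp.isCoatom hM)) h𝒜 hne
    (fun Q hQ hA α hα => hinv Q hQ hA α (autGroup_mono hEF hα)) hrep))

end Fusion

end Cfsg.Agent.H96
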