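import Cfsg.Agent.H11.CyLa
import Cfsg.Agent.H8.SylowIn

/-! Project CY, chapter LP, piece Ae: a Sylow `2`-subgroup `⟨k⟩ × T`. -/

set_option autoImplicit false
set_option linter.unusedVariables false

namespace Cfsg.Agent.H96.CyAe

open Subgroup MulAction Cfsg.Agent.H11.Cy Cfsg.Agent.H11.Cy.Lp
open Cfsg.Agent.H11.EL (Nm Ct C1 Ex)

variable {G : Type} [Group G]

theorem mem_V {B : Subgroup G} {r : G} (h2 : r * r = 1) (hn : r ∈ normalizer (B : Set G)) {v : G}
    (hv : v ∈ B ⊔ zpowers r) : v ∈ B ∨ v * r ∈ B := by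
  have ri : r⁻¹ = r := inv_eq_of_mul_eq_one_right h2
  have hc : ∀ b ∈ B, r * b * r ∈ B := fun b hb => by
    have := (mem_normalizer_iff.1 hn b).1 hb
    rwa [ri] at this
  let K : Subgroup G :=
    { carrier := {v | v ∈ B ∨ v * r ∈ B}
      one_mem' := Or.inl B.one_mem
      mul_mem' := by
        rintro a b (ha | ha) (hb | hb)
        · exact Or.inl (mul_mem ha hb)
        · exact Or.inr (by rw [mul_assoc]; exact mul_mem ha hb)
        · refine Or.inr ?_
          have e : a * b * r = (a * r) * (r * b * r) := by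
            rw [show a * r * (r * b * r) = a * (r * r) * b * r by group, h2, mul_one]
          rw [e]; exact mul_mem ha (hc b hb)
        · refine Or.inl ?_
          have e : a * b = (a * r) * (r * (b * r) * r) := by
            rw [show a * r * (r * (b * r) * r) = a * (r * r) * b * (r * r) by group, h2, mul_one,
              mul_one]
          rw [e]; exact mul_mem ha (hc _ hb)
      inv_mem' := by
        rintro a (ha | ha)
        · exact Or.inl (inv_mem ha)
        · refine Or.inr ?_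
          have e : a⁻¹ * r = (r * (a * r) * r)⁻¹ := by
            rw [show r * (a * r) * r = r * a * (r * r) by group, h2, mul_one, mul_inv_rev, ri]
          rw [e]; exact inv_mem (hc _ ha) }
  have : B ⊔ zpowers r ≤ K := sup_le (fun b hb => Or.inl hb)
    (zpowers_le.2 (Or.inr (by rw [h2]; exact B.one_mem)))
  exact this hv

theorem p_zp {x : G} (h : x * x = 1) : IsPGroup 2 (zpowers x) := by
  rintro ⟨_, k, rfl⟩
  refine ⟨1, Subtype.ext ?_⟩
  show (x ^ k) ^ (2 ^ 1) = 1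
  rw [pow_one, ← zpow_natCast, ← zpow_mul, mul_comm, zpow_mul, zpow_natCast, pow_two, h, one_zpow]

theorem p_sup {T : Subgroup G} (hT : IsPGroup 2 T) {k : G} (h : k * k = 1)
    (hc : ∀ t ∈ T, t * k = k * t) : IsPGroup 2 ↥(T ⊔ zpowers k) :=
  hT.to_sup_of_normal_left' (p_zp h) (zpowers_le.2 (centralizer_le_normalizer _ hc))

theorem ex_mul {g h : G} {B : Subgroup G} (hg : Ex g B (-1)) (hh : Ex h B (-1)) :
    g * h ∈ centralizer (B : Set G) := fun a ha => by
  have e1 := hh a ha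
  have e2 := hg a⁻¹ (inv_mem ha)
  rw [zpow_neg_one] at e1 e2
  calc a * (g * h) = g * a⁻¹ * g⁻¹ * (g * h) * (h⁻¹ * (g⁻¹ * (g * a⁻¹ * g⁻¹)⁻¹ * a * g) * h) := by group
    _ = g * h * a := by
      rw [← e1]
      have : g * (h * a * h⁻¹) * g⁻¹ = a := by rw [e1, e2, inv_inv]
      rw [this]
      calc a * (g * h) * (h⁻¹ * (g⁻¹ * a⁻¹ * a * g) * h) = a * (g * h) := by group
        _ = g * (h * a * h⁻¹) * g⁻¹ * (g * h) := by rw [this]
        _ = _ := by group

variable {Ω : Type} [MulAction G Ω] {p : ℕ} {A : Ω → Subgroup G}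

theorem small [Finite G] (h : St p A) {x y : Ω} {f : G} (lt : LT p A x y f) {g : G}
    (hg : g ∈ Hs G x y) (g2 : g * g = 1) : g ∈ Kl A x y ∨ Ex g (A x) (-1) := by
  rcases lt.small g hg with e | e | ⟨i, e, hi⟩
  · exact Or.inl e
  · exact Or.inr e
  exfalso
  have := Fact.mk h.pp
  obtain ⟨a, ha⟩ := exists_prime_orderOf_dvd_card' (G := A x) p (by rw [h.card])
  apply hi
  rw [← ha, ← orderOf_coe, orderOf_dvd_iff_zpow_eq_one, zpow_sub_one, mul_inv_eq_one, sq, zpow_mul,
    ← e _ (zpow_mem a.2 i), ← e _ a.2]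
  calc _ = (g * g) * a * (g * g)⁻¹ := by group
    _ = _ := by rw [g2]; group

theorem ae : AeStmt := by
  intro G _ _ Ω _ _ p A h l h1 ax x y hxy w wN w2 wout k kK ko kw h4
  have la := l.la x y hxy
  have ep := l.mc.ep
  obtain ⟨f, s, lc⟩ := l.lc x y hxy
  have lt := l.lt x y hxy f s lc
  have sq2 : ∀ {a : G}, orderOf a = 2 → a * a = 1 := fun {a} e => by
    rw [← sq, ← e, pow_orderOf_eq_one]
  have ne1 : ∀ {a : G}, orderOf a = 2 → a ≠ 1 := fun {a} e c => by
    rw [c, orderOf_one] at e; exact absurd e (by norm_num)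
  have k2 := sq2 ko
  set Y : Subgroup G := Fl A x y ⊔ zpowers w with hY
  have YN : Y ≤ Nm (Fl A x y) := sup_le le_normalizer (zpowers_le.2 wN)
  have key : ∀ t ∈ Y, t ∈ Fl A x y ∨ t * w ∈ Fl A x y := fun t ht => mem_V w2 wN ht
  have kY : ∀ t ∈ Y, t * k = k * t := by
    have : Y ≤ centralizer {k} := sup_le (fun t ht => mem_centralizer_singleton_iff.2 (kK t ht))
      (zpowers_le.2 (mem_centralizer_singleton_iff.2 kw.eq.symm))
    exact fun t ht => mem_centralizer_singleton_iff.1 (this ht)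
  have knY : k ∉ Y := fun c => by
    rcases key k c with e | e
    · exact ne1 ko (la.ctr k e kK)
    · exact wout ((mul_mem_cancel_left (mem_sup_left kK)).1 (mem_sup_right e))
  have iL : (Fl A x y).relIndex Y = 2 :=
    relIndex_eq_two_iff.2 ⟨w, mem_sup_right (mem_zpowers w), fun b hb => by
      rcases key b hb with e | e
      · exact Or.inr ⟨e, fun c => wout (mem_sup_right ((mul_mem_cancel_left e).1 c))⟩
      · exact Or.inl ⟨e, fun c => wout (mem_sup_right ((mul_mem_cancel_left c).1 e))⟩⟩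
  have iY : Y.relIndex (Nm (Fl A x y)) = Nat.card (Kl A x y) := by
    have e1 := H8.card_eq_card_mul_relIndex YN
    have e2 := H8.card_eq_card_mul_relIndex (le_sup_left : Fl A x y ≤ Y)
    rw [iL, mul_comm, la.card] at e2
    rw [la.cM, lt.e2c fun c => wout (lt.e1M c wN), e2] at e1
    have e3 := lc.fo
    have e4 : p * (p ^ 2 - 1) = (p + 1) * p * (2 * orderOf f) := by
      have : p ^ 2 - 1 = (p + 1) * (2 * orderOf f) := by
        rw [Nat.sub_eq_iff_eq_add (Nat.one_le_pow _ _ h.pp.pos), ← e3]; ring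
      rw [this]; ring
    rw [e4, ← mul_assoc] at e1
    refine (Nat.eq_of_mul_eq_mul_left ?_ e1).symm
    have := h.pp.pos
    have := orderOf_pos f
    positivity
  obtain ⟨T, hT⟩ := H8.exists_isSylowIn 2 Y
  have kN : k ∈ Nm (Fl A x y) := centralizer_le_normalizer _ kK
  obtain ⟨S, hS, hle⟩ := H8.exists_isSylowIn_ge (p_sup hT.isPGroup k2 fun t ht => kY t (hT.le ht))
    (sup_le (hT.le.trans YN) (zpowers_le.2 kN))
  have TS : T ≤ S := le_sup_left.trans hle
  have kS : k ∈ S := hle (mem_sup_right (mem_zpowers k))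
  have kT : k ∉ T := fun c => knY (hT.le c)
  have i2 : T.relIndex S = 2 := by
    have e1 := relIndex_mul_relIndex T S _ TS hS.le
    have e2 := relIndex_mul_relIndex T Y _ hT.le YN
    obtain ⟨n, hn⟩ := hS.isPGroup.index (T.subgroupOf S)
    change T.relIndex S = _ at hn
    rw [iY, ← e1, hn] at e2
    rcases n with _ | _ | n
    · exact absurd (relIndex_eq_one.1 hn kS) kT
    · exact hn
    · refine absurd (Nat.Coprime.dvd_of_dvd_mul_left (k := 2 ^ 2) (m := T.relIndex Y) ?_ ?_) h4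
      · exact Nat.Coprime.pow_left 2 ((Nat.Prime.coprime_iff_not_dvd Nat.prime_two).2 hT.not_dvd)
      · rw [e2]; exact Dvd.dvd.mul_right (pow_dvd_pow 2 (by omega)) _
  have two : ∀ a ∈ S, a ∉ T → a * k ∈ T := fun a ha h1 =>
    (mul_mem_iff_of_index_two (H := T.subgroupOf S) i2 (a := ⟨a, ha⟩) (b := ⟨k, kS⟩)).2
      (by simp [mem_subgroupOf, h1, kT])
  have kZ : ∀ a ∈ S, a * k = k * a := fun a ha => by
    by_cases c : a ∈ T
    · exact kY a (hT.le c)
    · have := kY _ (hT.le (two a ha c))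
      rw [← mul_assoc] at this
      exact mul_right_cancel this
  obtain ⟨P, hP, SP⟩ := H8.exists_isSylowIn_ge hS.isPGroup le_top
  rcases SP.eq_or_lt with e | e
  · subst e
    exact ⟨hP.toSylowTop, T, hT.le, TS, i2, kS, kT⟩
  exfalso
  obtain ⟨g, hg, gS⟩ := SetLike.exists_of_lt (H8.lt_inf_normalizer_of_lt hP.isPGroup e)
  have gN : g ∉ Nm (Fl A x y) := fun c => gS (by
    rw [← hS.eq_of_le (hP.isPGroup.to_inf_left (K := Nm (Fl A x y))) inf_le_right (le_inf SP hS.le)]
    exact ⟨hg.1, c⟩)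
  have k'S : g * k * g⁻¹ ∈ S := (mem_normalizer_iff.1 hg.2 k).1 kS
  have k'Z : ∀ a ∈ S, a * (g * k * g⁻¹) = g * k * g⁻¹ * a := fun a ha => by
    have := kZ (g⁻¹ * a * g) ((mem_normalizer_iff.1 hg.2 _).2 (by
      rwa [show g * (g⁻¹ * a * g) * g⁻¹ = a by group]))
    calc a * (g * k * g⁻¹) = g * (g⁻¹ * a * g * k) * g⁻¹ := by group
      _ = _ := by rw [this]; group
  have k'k : g * k * g⁻¹ ≠ k := fun c => gN (ax.cen x y hxy k kK ko g (mul_inv_eq_iff_eq_mul.1 c))
  have ak : Ax A (g * k * g⁻¹) := ax.cj k g ⟨ko, x, y, hxy, kK⟩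
  generalize g * k * g⁻¹ = k' at k'S k'Z k'k ak
  obtain ⟨τ, τT, τ1, τ2, τZ, τk⟩ : ∃ τ ∈ T, τ ≠ 1 ∧ τ * τ = 1 ∧ (∀ a ∈ S, a * τ = τ * a) ∧
      (τ = k' ∨ τ = k' * k) := by
    by_cases c : k' ∈ T
    · exact ⟨k', c, ne1 ak.1, sq2 ak.1, k'Z, Or.inl rfl⟩
    · refine ⟨k' * k, two k' k'S c, fun e => k'k ?_, ?_, fun a ha => ?_, Or.inr rfl⟩
      · rw [eq_inv_of_mul_eq_one_left e, inv_eq_of_mul_eq_one_right k2]
      · rw [mul_assoc, ← mul_assoc k, ← kZ k' k'S, mul_assoc, k2, mul_one, sq2 ak.1]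
      · rw [← mul_assoc, k'Z a ha, mul_assoc, kZ a ha, mul_assoc]
  have τN : τ ∈ Nm (Fl A x y) := YN (hT.le τT)
  rcases key τ (hT.le τT) with e | e
  · have k'K : k' ∈ Kl A x y := ax.out x y hxy k' (hS.le k'S) ak (by
      rcases τk with rfl | rfl
      · exact mem_sup_right e
      · exact (mul_mem_cancel_right (mem_sup_left kK)).1 (mem_sup_right e))
    refine τ1 (la.ctr τ e ?_)
    rcases τk with rfl | rfl
    · exact k'K
    · exact mul_mem k'K kK
  have τout : τ ∉ Kl A x y ⊔ Fl A x y := fun c =>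
    wout ((mul_mem_cancel_left c).1 (mem_sup_right e))
  have lv := l.lv x y hxy
  have τf : ∀ z ∈ Ln A x y, τ • z ≠ z := fun z hz c =>
    τout (((lv.par τ τN (τ2 ▸ one_mem _) fun c => τout (mem_sup_left c)).2 h1).2 ⟨z, hz, c⟩)
  obtain ⟨s', s'L, s'o, s's, cs⟩ := lv.four s lc.sL lc.so
  have hTL := hT.inf_of_le_normalizer YN
  obtain ⟨c, -, hc⟩ := hTL.exists_conj_le
    (p_sup (p_zp (sq2 lc.so)) (sq2 s'o) (by
      rintro _ ⟨n, rfl⟩; exact (cs.zpow_left n).eq))
    (le_inf (sup_le (zpowers_le.2 (mem_sup_left lc.sL)) (zpowers_le.2 (mem_sup_left s'L)))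
      (sup_le (zpowers_le.2 lc.sL) (zpowers_le.2 s'L)))
  have ha := hc (H8.conj_mem_conj_smul.2 (mem_sup_left (mem_zpowers s)))
  have hb := hc (H8.conj_mem_conj_smul.2 (mem_sup_right (mem_zpowers s')))
  have a2 : (c * s * c⁻¹) * (c * s * c⁻¹) = 1 := by
    rw [show (c * s * c⁻¹) * (c * s * c⁻¹) = c * (s * s) * c⁻¹ by group, sq2 lc.so]; group
  have b2 : (c * s' * c⁻¹) * (c * s' * c⁻¹) = 1 := by
    rw [show (c * s' * c⁻¹) * (c * s' * c⁻¹) = c * (s' * s') * c⁻¹ by group, sq2 s'o]; group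
  have a1 : c * s * c⁻¹ ≠ 1 := fun e => ne1 lc.so (by simpa using e)
  have b1 : c * s' * c⁻¹ ≠ 1 := fun e => ne1 s'o (by simpa using e)
  have ab : c * s' * c⁻¹ ≠ c * s * c⁻¹ := fun e => s's (by simpa using e)
  have cab : (c * s * c⁻¹) * (c * s' * c⁻¹) = (c * s' * c⁻¹) * (c * s * c⁻¹) := by
    rw [show (c * s * c⁻¹) * (c * s' * c⁻¹) = c * (s * s') * c⁻¹ by group, cs.eq]; group
  generalize c * s * c⁻¹ = a at *
  generalize c * s' * c⁻¹ = b at *
  have aK : a ∉ Kl A x y := fun c => a1 (la.ctr a ha.2 c)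
  obtain ⟨u, hu, au⟩ := ((lv.par a (le_normalizer ha.2) (a2 ▸ one_mem _) aK).2 h1).1
    (mem_sup_right ha.2)
  have mv : ∀ d ∈ Nm (Fl A x y), ∀ z ∈ Ln A x y, d • z ∈ Ln A x y := fun d hd =>
    (ep.nrm x y hxy d).1 hd
  have hv := mv τ τN u hu
  have uv : u ≠ τ • u := (τf u hu).symm
  have av : a • τ • u = τ • u := by rw [← mul_smul, τZ a (TS ha.1), mul_smul, au]
  have bu : b • u = u ∨ b • u = τ • u := by
    by_contra c
    push Not at c
    exact aK (la.three a u hu _ hv _ (mv b (le_normalizer hb.2) u hu) uv c.2.symm c.1.symm au av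
      (by rw [← mul_smul, cab, mul_smul, au]))
  have sp := ep.span x y hxy u hu _ hv uv
  obtain ⟨f', s'', lc'⟩ := l.lc u _ uv
  have lt' := l.lt u _ uv f' s'' lc'
  have eK : Kl A u (τ • u) = Kl A x y := by rw [Kl, sp]
  have aH : a ∈ Hs G u (τ • u) := ⟨au, av⟩
  have aE := (small h lt' aH a2).resolve_left (eK ▸ aK)
  have bτ := τZ b (TS hb.1)
  rcases bu with c | c
  · have bH : b ∈ Hs G u (τ • u) := ⟨c, by
      show b • τ • u = τ • u
      rw [← mul_smul, bτ, mul_smul, c]⟩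
    have bE := (small h lt' bH b2).resolve_left (eK ▸ fun c => b1 (la.ctr b hb.2 c))
    have := ep.eps u _ uv _ (mul_mem bH aH) (ex_mul bE aE)
    rw [eK] at this
    refine ab ?_
    rw [eq_inv_of_mul_eq_one_left (la.ctr _ (mul_mem hb.2 ha.2) this), inv_eq_of_mul_eq_one_right a2]
  · have dH : τ * b ∈ Hs G u (τ • u) := ⟨by
      show (τ * b) • u = u
      rw [mul_smul, c, ← mul_smul, τ2, one_smul], by
      show (τ * b) • τ • u = τ • u
      rw [mul_smul, ← c, ← mul_smul b b, b2, one_smul, c]⟩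
    have d2 : τ * b * (τ * b) = 1 := by
      rw [mul_assoc, ← mul_assoc b, bτ, mul_assoc, b2, mul_one, τ2]
    rcases small h lt' dH d2 with e | e
    · rw [eK] at e
      exact τout ((mul_mem_cancel_right (mem_sup_right hb.2)).1 (mem_sup_left e))
    · have := ep.eps u _ uv _ (mul_mem dH aH) (ex_mul e aE)
      rw [eK, mul_assoc] at this
      exact τout ((mul_mem_cancel_right (mem_sup_right (mul_mem hb.2 ha.2))).1 (mem_sup_left this))

end Cfsg.Agent.H96.CyAe
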