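import Cfsg.Agent.H96.D4U

/-! Subgroups, automorphisms and the module `Q / Z` of the Sylow subgroup of `³D₄(q)`. -/

set_option autoImplicit false

namespace Cfsg.Agent.H96.DF

open Subgroup
open scoped commutatorElement

universe u

variable {F K : Type u} [Field F] [Field K] [Algebra F K] (C : Tri F K)

/-- root elements -/
def xt (t : K) : U C := ⟨t, 0, 0, 0, 0, 0⟩
def xu (u : F) : U C := ⟨0, u, 0, 0, 0, 0⟩
def xy (y : K) : U C := ⟨0, 0, y, 0, 0, 0⟩
def xx (x : K) : U C := ⟨0, 0, 0, x, 0, 0⟩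
def xa (a : F) : U C := ⟨0, 0, 0, 0, a, 0⟩
def xz (z : F) : U C := ⟨0, 0, 0, 0, 0, z⟩

/-- `Q = q^{1+8}` -/
def Q : Subgroup (U C) where
  carrier := {g | g.t = 0}
  one_mem' := rfl
  mul_mem' := fun {g k} (h : g.t = 0) (e : k.t = 0) => show (g * k).t = 0 by simp [h, e]
  inv_mem' := fun {g} (h : g.t = 0) => show g⁻¹.t = 0 by simp [h]

/-- `E = C(W)` -/
def E : Subgroup (U C) where
  carrier := {g | g.u = 0}
  one_mem' := rfl
  mul_mem' := fun {g k} (h : g.u = 0) (e : k.u = 0) => show (g * k).u = 0 by simp [h, e]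
  inv_mem' := fun {g} (h : g.u = 0) => show g⁻¹.u = 0 by simp [h]

/-- `J = Q ∩ E = Z₄` -/
def J : Subgroup (U C) := Q C ⊓ E C

/-- `J' = X_a Y` -/
def J' : Subgroup (U C) where
  carrier := {g | g.u = 0 ∧ g.y = 0}
  one_mem' := ⟨rfl, rfl⟩
  mul_mem' := fun {g k} ⟨_, _⟩ ⟨_, _⟩ => by simp [*]
  inv_mem' := fun {g} ⟨_, _⟩ => by simp [*]

/-- `Y = Z₃` -/
def Y : Subgroup (U C) := Q C ⊓ J' C

/-- `W = Z₂` -/
def W : Subgroup (U C) where
  carrier := {g | g.t = 0 ∧ g.u = 0 ∧ g.y = 0 ∧ g.x = 0}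
  one_mem' := ⟨rfl, rfl, rfl, rfl⟩
  mul_mem' := fun {g k} ⟨_, _, _, _⟩ ⟨_, _, _, _⟩ => by simp [*]
  inv_mem' := fun {g} ⟨_, _, _, _⟩ => by simp [*]

/-- the centre -/
def Z : Subgroup (U C) where
  carrier := {g | g.t = 0 ∧ g.u = 0 ∧ g.y = 0 ∧ g.x = 0 ∧ g.a = 0}
  one_mem' := ⟨rfl, rfl, rfl, rfl, rfl⟩
  mul_mem' := fun {g k} ⟨_, _, _, _, _⟩ ⟨_, _, _, _, _⟩ => by simp [*]
  inv_mem' := fun {g} ⟨_, _, _, _, _⟩ => by simp [*]

/-- the root group `X_{3a+b}` -/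
def Z6 : Subgroup (U C) where
  carrier := {g | g.t = 0 ∧ g.u = 0 ∧ g.y = 0 ∧ g.x = 0 ∧ g.z = 0}
  one_mem' := ⟨rfl, rfl, rfl, rfl, rfl⟩
  mul_mem' := fun {g k} ⟨_, _, _, _, _⟩ ⟨_, _, _, _, _⟩ => by simp [*]
  inv_mem' := fun {g} ⟨_, _, _, _, _⟩ => by simp [*]

variable {C}

theorem mem_Q {g : U C} : g ∈ Q C ↔ g.t = 0 := Iff.rfl
theorem mem_E {g : U C} : g ∈ E C ↔ g.u = 0 := Iff.rfl
theorem mem_J {g : U C} : g ∈ J C ↔ g.t = 0 ∧ g.u = 0 := Iff.rfl
theorem mem_J' {g : U C} : g ∈ J' C ↔ g.u = 0 ∧ g.y = 0 := Iff.rfl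
theorem mem_Y {g : U C} : g ∈ Y C ↔ g.t = 0 ∧ g.u = 0 ∧ g.y = 0 := Iff.rfl
theorem mem_W {g : U C} : g ∈ W C ↔ g.t = 0 ∧ g.u = 0 ∧ g.y = 0 ∧ g.x = 0 := Iff.rfl
theorem mem_Z {g : U C} : g ∈ Z C ↔ g.t = 0 ∧ g.u = 0 ∧ g.y = 0 ∧ g.x = 0 ∧ g.a = 0 := Iff.rfl
theorem mem_Z6 {g : U C} : g ∈ Z6 C ↔ g.t = 0 ∧ g.u = 0 ∧ g.y = 0 ∧ g.x = 0 ∧ g.z = 0 := Iff.rfl

@[simp] theorem comm_t (g h : U C) : ⁅g, h⁆.t = 0 := by rw [commutatorElement_def]; d4u; ring
@[simp] theorem comm_u (g h : U C) : ⁅g, h⁆.u = 0 := by rw [commutatorElement_def]; d4u; ring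
theorem comm_y (g h : U C) : ⁅g, h⁆.y = h.u • g.t - g.u • h.t := by
  rw [commutatorElement_def]; d4u; d4n; ring
theorem comm_x (g h : U C) :
    ⁅g, h⁆.x = C.cr g.t h.y - C.cr h.t g.y + h.u • C.sh g.t - g.u • C.sh h.t := by
  rw [commutatorElement_def]; d4u; d4n; ring
theorem comm_a (g h : U C) : ⁅g, h⁆.a = C.T (g.t * h.x) - C.T (h.t * g.x) + C.T (C.sh g.t * h.y) -
    C.T (C.sh h.t * g.y) + C.N g.t * h.u - C.N h.t * g.u := by
  rw [commutatorElement_def]; apply Tri.inj (K := K); d4u; d4n; ring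
theorem comm_z (g h : U C) : ⁅g, h⁆.z =
    (g * h).z - (h * g).z - ⁅g, h⁆.a * (g.u + h.u) + C.T (⁅g, h⁆.x * (h * g).y) := by
  have e : g * h = ⁅g, h⁆ * (h * g) := by rw [commutatorElement_def]; group
  rw [e, U.mul_z ⁅g, h⁆, comm_t, U.mul_u h]
  simp
  ring
theorem comm_z_Q {g h : U C} (hg : g.t = 0) (hh : h.t = 0) :
    ⁅g, h⁆.z = g.a * h.u - g.u * h.a - C.T (g.x * h.y) + C.T (g.y * h.x) := by
  rw [comm_z, comm_a, comm_x]; simp [hg, hh, mul_comm]; ring
theorem comm_z_E {g h : U C} (hg : g.u = 0) (hh : h.u = 0) :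
    ⁅g, h⁆.z = C.T (h.t * C.sh g.y) - C.T (g.t * C.sh h.y) - C.T (g.x * h.y) + C.T (g.y * h.x) +
      C.T ((C.cr g.t h.y - C.cr h.t g.y) * (g.y + h.y)) := by
  rw [comm_z, comm_a, comm_x]; simp [hg, hh, mul_comm, add_comm]; ring

theorem normal_of {H : Subgroup (U C)} (h : ∀ g : U C, ∀ k ∈ H, ⁅g, k⁆ ∈ H) : H.Normal :=
  ⟨fun k hk g => by simpa [commutatorElement_def] using mul_mem (h g k hk) hk⟩

instance nQ : (Q C).Normal := normal_of fun _ _ _ => comm_t _ _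
instance nE : (E C).Normal := normal_of fun _ _ _ => comm_u _ _
instance nJ : (J C).Normal := normal_of fun _ _ _ => ⟨comm_t _ _, comm_u _ _⟩
instance nY : (Y C).Normal := normal_of fun _ _ h => by simp [mem_Y, comm_y, (mem_Y.1 h).1, h.2.1]
instance nW : (W C).Normal := normal_of fun _ _ ⟨_, _, _, _⟩ => by simp [mem_W, comm_y, comm_x, *]
instance nZ : (Z C).Normal := normal_of fun _ _ ⟨_, _, _, _, _⟩ => by
  simp [mem_Z, comm_y, comm_x, comm_a, *]

/-- `g ∈ E` is not pure: the coordinates `t`, `y` are linearly independent over `F`. -/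
def NP (g : U C) : Prop := g.u = 0 ∧ ∀ c d : F, c • g.t + d • g.y = 0 → c = 0 ∧ d = 0

variable (C)

/-- The diagonal automorphisms. -/
def tmap (l : K) (m : F) (g : U C) : U C :=
  ⟨l * g.t, m * g.u, m • (l * g.y), m • (C.sh l * g.x), C.N l * m * g.a, C.N l * m ^ 2 * g.z⟩

theorem tmap_tmap (l l' : K) (m m' : F) (g : U C) :
    tmap C l m (tmap C l' m' g) = tmap C (l * l') (m * m') g := by simp only [tmap]; d4e

theorem tmap_one (g : U C) : tmap C 1 1 g = g := by simp [tmap]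

/-- The torus. -/
def tor : Kˣ × Fˣ →* MulAut (U C) where
  toFun c :=
    { toFun := tmap C c.1 c.2
      invFun := tmap C (c.1⁻¹ : Kˣ) (c.2⁻¹ : Fˣ)
      left_inv := fun g => by rw [tmap_tmap, Units.inv_mul, Units.inv_mul, tmap_one]
      right_inv := fun g => by rw [tmap_tmap, Units.mul_inv, Units.mul_inv, tmap_one]
      map_mul' := fun g h => by simp only [tmap]; d4e }
  map_one' := MulEquiv.ext (tmap_one C)
  map_mul' _ _ := MulEquiv.ext fun g => (tmap_tmap C _ _ _ _ g).symm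

theorem tor_apply (c : Kˣ × Fˣ) (g : U C) : tor C c g = tmap C c.1 c.2 g := rfl

theorem Tri.aut_σ (φ : RingAut K) (a : K) : φ (C.σ a) = C.σ (φ a) := by rw [C.frob, C.frob, map_pow]

/-- The restriction of a field automorphism to `F`. -/
noncomputable def f0 (φ : RingAut K) (c : F) : F :=
  (C.fix (φ (algebraMap F K c)) (by rw [← C.aut_σ, AlgEquiv.commutes])).choose

theorem alg_f0 (φ : RingAut K) (c : F) : algebraMap F K (f0 C φ c) = φ (algebraMap F K c) :=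
  (C.fix (φ (algebraMap F K c)) (by rw [← C.aut_σ, AlgEquiv.commutes])).choose_spec

/-- The restriction of field automorphisms to `F`. -/
noncomputable def fF : RingAut K →* RingAut F where
  toFun φ :=
    { toFun := f0 C φ
      invFun := f0 C φ⁻¹
      left_inv := fun c => Tri.inj (K := K) (by rw [alg_f0, alg_f0]; exact φ.symm_apply_apply _)
      right_inv := fun c => Tri.inj (K := K) (by rw [alg_f0, alg_f0]; exact φ.apply_symm_apply _)
      map_mul' := fun c d => Tri.inj (K := K) (by simp only [alg_f0, map_mul])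
      map_add' := fun c d => Tri.inj (K := K) (by simp only [alg_f0, map_add]) }
  map_one' := RingEquiv.ext fun c => Tri.inj (K := K) (alg_f0 C 1 c)
  map_mul' φ ψ := RingEquiv.ext fun c => Tri.inj (K := K) (by
    change algebraMap F K (f0 C _ c) = algebraMap F K (f0 C φ (f0 C ψ c))
    rw [alg_f0, alg_f0, alg_f0]; rfl)

theorem alg_fF (φ : RingAut K) (c : F) : algebraMap F K (fF C φ c) = φ (algebraMap F K c) :=
  alg_f0 C φ c

/-- A field automorphism applied to the coordinates. -/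
noncomputable def fmap (φ : RingAut K) (g : U C) : U C :=
  ⟨φ g.t, fF C φ g.u, φ g.y, φ g.x, fF C φ g.a, fF C φ g.z⟩

/-- Field automorphisms of `U C`. -/
noncomputable def fld : RingAut K →* MulAut (U C) where
  toFun φ :=
    { toFun := fmap C φ
      invFun := fmap C φ⁻¹
      left_inv := fun g => by
        ext <;> simp only [fmap, map_inv] <;> exact RingEquiv.symm_apply_apply _ _
      right_inv := fun g => by
        ext <;> simp only [fmap, map_inv] <;> exact RingEquiv.apply_symm_apply _ _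
      map_mul' := fun g h => by
        apply U.ext' <;> simp only [fmap] <;> d4u <;> simp only [Tri.sh, Tri.cr, Algebra.smul_def,
          map_add, map_sub, map_mul, map_pow, Tri.hT, Tri.hN, alg_fF, Tri.aut_σ] }
  map_one' := MulEquiv.ext fun g => by ext <;> simp [fmap]
  map_mul' _ _ := MulEquiv.ext fun g => by ext <;> simp [fmap]

theorem fld_apply (φ : RingAut K) (g : U C) : fld C φ g = fmap C φ g := rfl

theorem tor_fld_inj {c c' : Kˣ × Fˣ} {φ φ' : RingAut K}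
    (h : tor C c * fld C φ = tor C c' * fld C φ') : c = c' ∧ φ = φ' := by
  have h1 : ∀ t, (c.1 : K) * φ t = c'.1 * φ' t := fun t =>
    congrArg U.t (MulEquiv.congr_fun h (xt C t))
  have h2 : (c.2 : F) * fF C φ 1 = c'.2 * fF C φ' 1 := congrArg U.u (MulEquiv.congr_fun h (xu C 1))
  have h3 : c.1 = c'.1 := Units.ext (by simpa using h1 1)
  refine ⟨Prod.ext h3 (Units.ext (by simpa using h2)), RingEquiv.ext fun t => ?_⟩
  simpa [h3] using h1 t

theorem fld_tor (φ : RingAut K) (c : Kˣ × Fˣ) : fld C φ * tor C c =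
    tor C (Units.map (φ : K →* K) c.1, Units.map (fF C φ : F →* F) c.2) * fld C φ :=
  MulEquiv.ext fun g => by
    change fmap C φ (tmap C _ _ g) = tmap C (φ c.1) (fF C φ c.2) (fmap C φ g)
    apply U.ext' <;> simp only [fmap, tmap, Tri.sh, Algebra.smul_def, map_mul, map_pow, Tri.hN, alg_fF,
      Tri.aut_σ]

/-- The norm on units. -/
def Nu : Kˣ →* Fˣ where
  toFun l := Units.mk0 (C.N l) (by simp)
  map_one' := Units.ext (by simp)
  map_mul' l m := Units.ext (by simp [Tri.N_mul])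

@[simp] theorem Nu_val (l : Kˣ) : (Nu C l : F) = C.N l := rfl

/-- the torus of the short root `SL₂` -/
def ha (n : Kˣ) : Kˣ × Fˣ := (n ^ 2, (Nu C n)⁻¹)

/-- the torus of the long root `SL₂` -/
def hb (c : Fˣ) : Kˣ × Fˣ := (Units.map (algebraMap F K : F →* K) c⁻¹, c ^ 2)

variable {C}

/-- The reflection in the short simple root; an automorphism of `Q`. -/
def wa (g : U C) : U C := ⟨0, -g.a, g.x, -g.y, g.u, g.z - g.a * g.u + C.T (g.x * g.y)⟩

/-- The reflection in the long simple root; an automorphism of `E`. -/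
def wb (g : U C) : U C := ⟨-g.y, 0, g.t, g.x - C.cr g.y g.t,
  -g.z - C.T (g.x * g.y) + C.T (C.sh g.y * g.t), g.a - C.T (g.x * g.t) + C.T (g.y * C.sh g.t)⟩

theorem wa_mem (g : U C) : wa g ∈ Q C := rfl
theorem wb_mem (g : U C) : wb g ∈ E C := rfl

theorem wa_mul {g h : U C} (hg : g ∈ Q C) (hh : h ∈ Q C) : wa (g * h) = wa g * wa h := by
  obtain ⟨_, _, _, _, _, _⟩ := g
  obtain ⟨_, _, _, _, _, _⟩ := h
  obtain rfl := mem_Q.1 hg
  obtain rfl := mem_Q.1 hh
  simp only [wa]; d4e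

theorem wb_mul {g h : U C} (hg : g ∈ E C) (hh : h ∈ E C) : wb (g * h) = wb g * wb h := by
  obtain ⟨_, _, _, _, _, _⟩ := g
  obtain ⟨_, _, _, _, _, _⟩ := h
  obtain rfl := mem_E.1 hg
  obtain rfl := mem_E.1 hh
  simp only [wb]; d4e

theorem wa_wa {g : U C} (hg : g ∈ Q C) : wa (wa g) = tmap C 1 (-1) g := by
  obtain ⟨_, _, _, _, _, _⟩ := g
  obtain rfl := mem_Q.1 hg
  simp only [wa, tmap]; d4e

theorem wb_wb {g : U C} (hg : g ∈ E C) : wb (wb g) = tmap C (-1) 1 g := by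
  obtain ⟨_, _, _, _, _, _⟩ := g
  obtain rfl := mem_E.1 hg
  simp only [wb, tmap]; d4e

/-! ### The module `Q / Z` -/

/-- coordinates `(a, x, y, u)` -/
abbrev V (F K : Type u) : Type u := F × K × K × F

/-- the image in `V` -/
def br (g : U C) : V F K := (g.a, g.x, g.y, g.u)

variable (C)

/-- the commutator form -/
def om (v w : V F K) : F := v.1 * w.2.2.2 - v.2.2.2 * w.1 - C.T (v.2.1 * w.2.2.1) + C.T (v.2.2.1 * w.2.1)

/-- the square map in characteristic `2` -/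
def qf (v : V F K) : F := v.1 * v.2.2.2 - C.T (v.2.1 * v.2.2.1)

theorem V.ext' {v w : V F K} (h1 : algebraMap F K v.1 = algebraMap F K w.1) (h2 : v.2.1 = w.2.1)
    (h3 : v.2.2.1 = w.2.2.1) (h4 : algebraMap F K v.2.2.2 = algebraMap F K w.2.2.2) : v = w :=
  Prod.ext (Tri.inj h1) (Prod.ext h2 (Prod.ext h3 (Tri.inj h4)))

/-- Proves an identity between explicit elements of `V F K`. -/
macro "d4v" : tactic =>
  `(tactic| (apply V.ext' <;> (try simp only [Prod.fst_add, Prod.snd_add, Prod.smul_fst, Prod.smul_snd,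
      Prod.fst_neg, Prod.snd_neg, Prod.fst_sub, Prod.snd_sub, smul_eq_mul, RingHom.id_apply]) <;>
      (try d4n) <;> (try ring)))

/-- A linear automorphism from a function with an inverse. -/
def mkV (f g : V F K → V F K) (h1 : ∀ v w, f (v + w) = f v + f w) (h2 : ∀ (c : F) v, f (c • v) = c • f v)
    (h3 : ∀ v, g (f v) = v) (h4 : ∀ v, f (g v) = v) : V F K ≃ₗ[F] V F K :=
  { toFun := f, invFun := g, map_add' := h1, map_smul' := h2, left_inv := h3, right_inv := h4 }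

def rmap (t : K) (v : V F K) : V F K :=
  (v.1 + C.T (t * v.2.1) + C.T (C.sh t * v.2.2.1) + C.N t * v.2.2.2,
    v.2.1 + C.cr t v.2.2.1 + v.2.2.2 • C.sh t, v.2.2.1 + v.2.2.2 • t, v.2.2.2)

theorem rmap_rmap (s t : K) (v : V F K) : rmap C s (rmap C t v) = rmap C (s + t) v := by
  simp only [rmap]; d4v

theorem rmap_zero (v : V F K) : rmap C 0 v = v := by simp [rmap]

/-- The action of `x_a(t)` on `V`. -/
def ρ (t : K) : V F K ≃ₗ[F] V F K :=
  mkV (rmap C t) (rmap C (-t)) (fun _ _ => by simp only [rmap]; d4v) (fun _ _ => by simp only [rmap]; d4v)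
    (fun v => by rw [rmap_rmap, neg_add_cancel, rmap_zero])
    (fun v => by rw [rmap_rmap, add_neg_cancel, rmap_zero])

theorem ρ_apply (t : K) (v : V F K) : ρ C t v = rmap C t v := rfl
theorem ρ_add (s t : K) : ρ C (s + t) = ρ C s * ρ C t := LinearEquiv.ext fun v => (rmap_rmap C s t v).symm
theorem ρ_zero : ρ C 0 = 1 := LinearEquiv.ext (rmap_zero C)
theorem ρ_inv (t : K) : (ρ C t)⁻¹ = ρ C (-t) := LinearEquiv.ext fun _ => rfl

def vmap (l : K) (m : F) (v : V F K) : V F K :=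
  (C.N l * m * v.1, m • (C.sh l * v.2.1), m • (l * v.2.2.1), m * v.2.2.2)

theorem vmap_vmap (l l' : K) (m m' : F) (v : V F K) :
    vmap C l m (vmap C l' m' v) = vmap C (l * l') (m * m') v := by simp only [vmap]; d4v

theorem vmap_one (v : V F K) : vmap C 1 1 v = v := by simp [vmap]

/-- The action of the torus on `V`. -/
def torV : Kˣ × Fˣ →* (V F K ≃ₗ[F] V F K) where
  toFun c := mkV (vmap C c.1 c.2) (vmap C (c.1⁻¹ : Kˣ) (c.2⁻¹ : Fˣ))
    (fun _ _ => by simp only [vmap]; d4v) (fun _ _ => by simp only [vmap]; d4v)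
    (fun v => by rw [vmap_vmap, Units.inv_mul, Units.inv_mul, vmap_one])
    (fun v => by rw [vmap_vmap, Units.mul_inv, Units.mul_inv, vmap_one])
  map_one' := LinearEquiv.ext (vmap_one C)
  map_mul' _ _ := LinearEquiv.ext fun v => (vmap_vmap C _ _ _ _ v).symm

theorem torV_apply (c : Kˣ × Fˣ) (v : V F K) : torV C c v = vmap C c.1 c.2 v := rfl

/-- The action of the Galois group on `V`. -/
def galV : (K ≃ₐ[F] K) →* (V F K ≃ₗ[F] V F K) where
  toFun θ := mkV (fun v => (v.1, θ v.2.1, θ v.2.2.1, v.2.2.2))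
    (fun v => (v.1, θ.symm v.2.1, θ.symm v.2.2.1, v.2.2.2)) (fun _ _ => by simp) (fun _ _ => by simp)
    (fun _ => by simp) (fun _ => by simp)
  map_one' := rfl
  map_mul' _ _ := rfl

theorem galV_apply (θ : K ≃ₐ[F] K) (v : V F K) : galV θ v = (v.1, θ v.2.1, θ v.2.2.1, v.2.2.2) := rfl

/-- The action of `wa` on `V`. -/
def wV : V F K ≃ₗ[F] V F K :=
  mkV (fun v => (v.2.2.2, -v.2.2.1, v.2.1, -v.1)) (fun v => (-v.2.2.2, v.2.2.1, -v.2.1, v.1))
    (fun _ _ => by simp [add_comm]) (fun _ _ => by simp) (fun _ => by simp) (fun _ => by simp)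

theorem wV_apply (v : V F K) : wV v = (v.2.2.2, -v.2.2.1, v.2.1, -v.1) := rfl

/-- the vector fixed by all `ρ t` -/
def e0 : V F K := (1, 0, 0, 0)

/-- the opposite vector -/
def e3 : V F K := (0, 0, 0, 1)

theorem om_ρ (t : K) (v w : V F K) : om C (ρ C t v) (ρ C t w) = om C v w := by
  apply Tri.inj (K := K); simp only [om, ρ_apply, rmap]; d4n; ring

variable {C}

theorem br_mul {g h : U C} (hg : g ∈ Q C) : br (g * h) = br g + br h := by
  simp [br, mem_Q.1 hg]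

theorem br_conj (s : U C) {g : U C} (hg : g ∈ Q C) : br (s * g * s⁻¹) = ρ C s.t (br g) := by
  obtain ⟨_, _, _, _, _, _⟩ := g
  obtain rfl := mem_Q.1 hg
  simp only [br, ρ_apply, rmap]
  apply V.ext' <;> d4u <;> (try d4n) <;> (try ring)

theorem comm_Q {g h : U C} (hg : g ∈ Q C) (hh : h ∈ Q C) : ⁅g, h⁆ = xz C (om C (br g) (br h)) := by
  have h1 := mem_Q.1 hg
  have h2 := mem_Q.1 hh
  ext <;> simp [xz, om, br, comm_y, comm_x, comm_a, comm_z_Q h1 h2, h1, h2]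

theorem sq_z {g : U C} (hg : g ∈ Q C) : (g * g).z = 2 * g.z + qf C (br g) := by
  simp [qf, br, mem_Q.1 hg]; ring

theorem br_tor (c : Kˣ × Fˣ) (g : U C) : br (tor C c g) = torV C c (br g) := rfl

theorem br_wa (g : U C) : br (wa g) = wV (br g) := rfl

theorem wV_inv_apply (v : V F K) : (wV⁻¹ : V F K ≃ₗ[F] V F K) v = (-v.2.2.2, v.2.2.1, -v.2.1, v.1) := rfl

theorem wV_rel (n : Kˣ) : ρ C n * (wV * ρ C (n⁻¹ : Kˣ) * wV⁻¹) * ρ C n = torV C (ha C n) * wV := by
  refine LinearEquiv.ext fun v => ?_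
  have h0 : (n : K) ≠ 0 := n.ne_zero
  have h1 : C.σ n ≠ 0 := by simp
  have h2 : C.σ (C.σ n) ≠ 0 := by simp
  simp only [LinearEquiv.mul_apply, ρ_apply, torV_apply, wV_apply, wV_inv_apply, rmap, vmap, ha,
    Units.val_inv_eq_inv_val, Units.val_pow_eq_pow_val, Nu_val]
  apply V.ext' <;> simp only [Tri.sh, Tri.cr, Algebra.smul_def, map_add, map_mul, map_neg,
    map_pow, map_inv₀, Tri.hT, Tri.hN, Tri.σ3, AlgEquiv.commutes] <;> field_simp <;> ring

variable (C)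

/-- the polar form of `qf` -/
def bf (v w : V F K) : F := v.1 * w.2.2.2 + v.2.2.2 * w.1 - C.T (v.2.1 * w.2.2.1) - C.T (v.2.2.1 * w.2.1)

/-- the polar form of the norm -/
def n3 (a b c : K) : F := C.T (a * C.cr b c)

/-- `T((x × x') (y × y'))` -/
def c4 (v w v' w' : V F K) : F := C.T (C.cr v.2.1 w.2.1 * C.cr v'.2.2.1 w'.2.2.1)

/-- Half the polar form of the invariant quartic
`(a u - T(x y))² + 4 a N(y) + 4 u N(x) - 4 T(x# y#)`. -/
def kap (a b c d : V F K) : F :=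
  bf C a b * bf C c d + bf C a c * bf C b d + bf C a d * bf C b c +
  2 * (a.1 * n3 C b.2.2.1 c.2.2.1 d.2.2.1 + b.1 * n3 C a.2.2.1 c.2.2.1 d.2.2.1 +
    c.1 * n3 C a.2.2.1 b.2.2.1 d.2.2.1 + d.1 * n3 C a.2.2.1 b.2.2.1 c.2.2.1) +
  2 * (a.2.2.2 * n3 C b.2.1 c.2.1 d.2.1 + b.2.2.2 * n3 C a.2.1 c.2.1 d.2.1 +
    c.2.2.2 * n3 C a.2.1 b.2.1 d.2.1 + d.2.2.2 * n3 C a.2.1 b.2.1 c.2.1) -
  2 * (c4 C a b c d + c4 C a c b d + c4 C a d b c + c4 C b c a d + c4 C b d a c + c4 C c d a b)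

end Cfsg.Agent.H96.DF
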