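import Mathlib

/-!
# The Sylow subgroup of `³D₄(q)` in the defining characteristic

`K / F` is a cubic extension of finite fields.  The element with coordinates `t u y x a z` stands for
`x_{3a+2b}(z) x_{3a+b}(a) x_{2a+b}(x) x_{a+b}(y) x_b(u) x_a(t)` up to signs and order.
-/

set_option autoImplicit false

namespace Cfsg.Agent.H96.DF

universe u

/-- cubic extension data: `σ` generates the Galois group, `T` is the trace and `N` the norm -/
structure Tri (F K : Type u) [Field F] [Field K] [Algebra F K] where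
  σ : K ≃ₐ[F] K
  T : K →ₗ[F] F
  N : K → F
  σ3 : ∀ a, σ (σ (σ a)) = a
  frob : ∀ a, σ a = a ^ Nat.card F
  fix : ∀ a, σ a = a → ∃ c : F, algebraMap F K c = a
  hT : ∀ a, algebraMap F K (T a) = a + σ a + σ (σ a)
  hN : ∀ a, algebraMap F K (N a) = a * σ a * σ (σ a)
  card : Nat.card K = Nat.card F ^ 3

variable {F K : Type u} [Field F] [Field K] [Algebra F K] (C : Tri F K)

namespace Tri

/-- the adjoint `a#` -/
def sh (a : K) : K := C.σ a * C.σ (C.σ a)

/-- the cross product `a × b` -/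
def cr (a b : K) : K := C.σ a * C.σ (C.σ b) + C.σ (C.σ a) * C.σ b

theorem inj {c d : F} (h : algebraMap F K c = algebraMap F K d) : c = d :=
  (algebraMap F K).injective h

end Tri

/-- Reduces an identity in `K` (or in `F`, after `apply Tri.inj (K := K)`) to a polynomial identity. -/
macro "d4n" : tactic =>
  `(tactic| simp only [Tri.sh, Tri.cr, Algebra.smul_def, map_add, map_sub, map_mul, map_neg, map_pow,
      map_zero, map_one, map_ofNat, Tri.hT, Tri.hN, Tri.σ3, AlgEquiv.commutes])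

namespace Tri

theorem N_mul (a b : K) : C.N (a * b) = C.N a * C.N b := inj (K := K) (by d4n; ring)
@[simp] theorem N_zero : C.N 0 = 0 := inj (K := K) (by d4n; ring)
@[simp] theorem N_one : C.N 1 = 1 := inj (K := K) (by d4n; ring)
@[simp] theorem N_neg (a : K) : C.N (-a) = -C.N a := inj (K := K) (by d4n; ring)
theorem N_smul (c : F) (a : K) : C.N (c • a) = c ^ 3 * C.N a := inj (K := K) (by d4n; ring)
theorem N_alg (c : F) : C.N (algebraMap F K c) = c ^ 3 := inj (K := K) (by d4n; ring)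
theorem N_σ (a : K) : C.N (C.σ a) = C.N a := inj (K := K) (by d4n; ring)
theorem T_σ (a : K) : C.T (C.σ a) = C.T a := inj (K := K) (by d4n; ring)
theorem N_add (a b : K) : C.N (a + b) = C.N a + C.T (C.sh a * b) + C.T (a * C.sh b) + C.N b :=
  inj (K := K) (by d4n; ring)
theorem mul_sh (a : K) : a * C.sh a = algebraMap F K (C.N a) := by d4n; ring
theorem T_mul_sh (a : K) : C.T (a * C.sh a) = 3 * C.N a := inj (K := K) (by d4n; ring)
@[simp] theorem sh_zero : C.sh 0 = 0 := by simp [sh]
@[simp] theorem sh_one : C.sh 1 = 1 := by simp [sh]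
@[simp] theorem sh_neg (a : K) : C.sh (-a) = C.sh a := by simp [sh]
@[simp] theorem sh_eq_zero {a : K} : C.sh a = 0 ↔ a = 0 := by simp [sh]
@[simp] theorem N_eq_zero {a : K} : C.N a = 0 ↔ a = 0 := by
  rw [← (algebraMap F K).injective.eq_iff, ← mul_sh]; simp
theorem sh_mul (a b : K) : C.sh (a * b) = C.sh a * C.sh b := by d4n; ring
theorem sh_smul (c : F) (a : K) : C.sh (c • a) = c ^ 2 • C.sh a := by d4n; ring
theorem sh_sh (a : K) : C.sh (C.sh a) = C.N a • a := by d4n; ring
theorem N_sh (a : K) : C.N (C.sh a) = C.N a ^ 2 := inj (K := K) (by d4n; ring)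
theorem sh_add (a b : K) : C.sh (a + b) = C.sh a + C.cr a b + C.sh b := by d4n; ring
@[simp] theorem cr_zero (a : K) : C.cr a 0 = 0 := by simp [cr]
@[simp] theorem zero_cr (a : K) : C.cr 0 a = 0 := by simp [cr]
theorem cr_comm (a b : K) : C.cr a b = C.cr b a := by d4n; ring
theorem cr_add (a b c : K) : C.cr a (b + c) = C.cr a b + C.cr a c := by d4n; ring
theorem add_cr (a b c : K) : C.cr (a + b) c = C.cr a c + C.cr b c := by d4n; ring
@[simp] theorem cr_neg (a b : K) : C.cr a (-b) = -C.cr a b := by d4n; ring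
@[simp] theorem neg_cr (a b : K) : C.cr (-a) b = -C.cr a b := by d4n; ring
theorem cr_smul (c : F) (a b : K) : C.cr a (c • b) = c • C.cr a b := by d4n; ring
theorem smul_cr (c : F) (a b : K) : C.cr (c • a) b = c • C.cr a b := by d4n; ring
theorem cr_self (a : K) : C.cr a a = 2 * C.sh a := by d4n; ring
theorem T_cr (a b c : K) : C.T (a * C.cr b c) = C.T (C.cr a b * c) := inj (K := K) (by d4n; ring)
theorem sh_cr (a b : K) : C.cr (C.sh a) (C.cr a b) = C.N a • b + C.T (C.sh a * b) • a := by d4n; ring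

include C in
theorem finrank [Finite K] : Module.finrank F K = 3 := by
  haveI : Finite F := Finite.of_injective _ (algebraMap F K).injective
  have h := Module.natCard_eq_pow_finrank (K := F) (V := K)
  rw [C.card] at h
  exact (Nat.pow_right_injective Finite.one_lt_card h).symm

theorem exists_not_fix [Finite K] : ∃ a, C.σ a ≠ a := by
  haveI : Finite F := Finite.of_injective _ (algebraMap F K).injective
  by_contra! h
  have h1 := Nat.card_le_card_of_surjective (algebraMap F K) fun a => C.fix a (h a)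
  have h2 : 1 < Nat.card F := Finite.one_lt_card
  rw [C.card] at h1
  exact absurd h1 (not_le.2 (lt_self_pow₀ h2 (by norm_num)))

theorem exists_T_one [Finite K] : ∃ a, C.T a = 1 := by
  obtain ⟨f, hf⟩ := C.exists_not_fix
  have h : ∃ a, C.T a ≠ 0 := by
    by_contra! h
    have e : ∀ a, a + C.σ a + C.σ (C.σ a) = 0 := fun a => by rw [← C.hT, h, map_zero]
    have h0 := e 1
    have h1 := e f
    have h2 := e (f * f)
    have h3 := e (f * C.σ f)
    have h4 := e (f * f * C.σ f)
    have h5 := e (f * f * f)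
    simp only [map_mul, map_one, C.σ3] at h0 h1 h2 h3 h4 h5
    have k : (C.σ f - f) * (C.σ (C.σ f) - f) = 0 := by
      linear_combination h2 + (C.σ f * C.σ (C.σ f)) * h0 - (C.σ f + C.σ (C.σ f)) * h1
    rcases mul_eq_zero.1 k with k | k
    · exact hf (sub_eq_zero.1 k)
    · have := congrArg C.σ (sub_eq_zero.1 k)
      rw [C.σ3] at this
      exact hf this.symm
  obtain ⟨a, ha⟩ := h
  exact ⟨(C.T a)⁻¹ • a, by rw [map_smul, smul_eq_mul, inv_mul_cancel₀ ha]⟩

theorem T_onto [Finite K] {a : K} (ha : a ≠ 0) (c : F) : ∃ b, C.T (a * b) = c := by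
  obtain ⟨f, hf⟩ := C.exists_T_one
  exact ⟨a⁻¹ * c • f, by rw [mul_inv_cancel_left₀ ha, map_smul, hf, smul_eq_mul, mul_one]⟩

theorem T_nd [Finite K] {a : K} (h : ∀ b, C.T (a * b) = 0) : a = 0 := by
  by_contra ha
  obtain ⟨b, hb⟩ := C.T_onto ha 1
  exact one_ne_zero (hb.symm.trans (h b))

/-- `a × b = 0` forces `b ∈ F a` and `2 b = 0`. -/
theorem cr_eq_zero {a b : K} (ha : a ≠ 0) (h : C.cr a b = 0) : ∃ c : F, b = c • a ∧ 2 * c = 0 := by
  have h1 := C.sh_cr a b
  rw [h, cr_zero] at h1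
  have hN : C.N a ≠ 0 := by simpa using ha
  have h2 : b = (-(C.N a)⁻¹ * C.T (C.sh a * b)) • a := by
    rw [mul_smul, ← neg_eq_of_add_eq_zero_right h1.symm, smul_neg, neg_smul, neg_neg, smul_smul,
      inv_mul_cancel₀ hN, one_smul]
  refine ⟨_, h2, ?_⟩
  generalize -(C.N a)⁻¹ * C.T (C.sh a * b) = c at h2
  rw [h2, cr_smul, cr_self, Algebra.smul_def] at h
  apply inj (K := K)
  rw [map_mul, map_ofNat, map_zero]
  have : C.sh a ≠ 0 := by simpa using ha
  apply mul_right_cancel₀ this
  linear_combination h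

theorem cr_eq_zero_odd (h2 : (2 : F) ≠ 0) {a b : K} (ha : a ≠ 0) (h : C.cr a b = 0) : b = 0 := by
  obtain ⟨c, rfl, k⟩ := C.cr_eq_zero ha h
  rw [(mul_eq_zero.1 k).resolve_left h2, zero_smul]

end Tri

/-- the unipotent group -/
@[ext] structure U (C : Tri F K) where
  t : K
  u : F
  y : K
  x : K
  a : F
  z : F

namespace U

variable {C}

instance : Mul (U C) := ⟨fun g h =>
  { t := g.t + h.t
    u := g.u + h.u
    y := g.y + h.y + h.u • g.t
    x := g.x + h.x + C.cr g.t h.y + h.u • C.sh g.t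
    a := g.a + h.a + C.T (g.t * h.x) + C.T (C.sh g.t * h.y) + C.N g.t * h.u
    z := g.z + h.z - C.T (C.sh g.t * h.y) * h.u - C.N g.t * h.u ^ 2 - C.T (g.t * C.sh h.y) +
      g.a * h.u - C.T (g.x * (h.y + h.u • g.t)) }⟩

instance : One (U C) := ⟨⟨0, 0, 0, 0, 0, 0⟩⟩

instance : Inv (U C) := ⟨fun g =>
  { t := -g.t
    u := -g.u
    y := -g.y + g.u • g.t
    x := -g.x + C.cr g.t g.y - g.u • C.sh g.t
    a := -g.a + C.T (g.t * g.x) - C.T (C.sh g.t * g.y) + C.N g.t * g.u
    z := -g.z - C.T (C.sh g.t * g.y) * g.u + C.N g.t * g.u ^ 2 + C.T (g.t * C.sh g.y) + g.a * g.u -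
      C.T (g.x * g.y) }⟩

@[simp] theorem mul_t (g h : U C) : (g * h).t = g.t + h.t := rfl
@[simp] theorem mul_u (g h : U C) : (g * h).u = g.u + h.u := rfl
@[simp] theorem mul_y (g h : U C) : (g * h).y = g.y + h.y + h.u • g.t := rfl
@[simp] theorem mul_x (g h : U C) : (g * h).x = g.x + h.x + C.cr g.t h.y + h.u • C.sh g.t := rfl
@[simp] theorem mul_a (g h : U C) :
    (g * h).a = g.a + h.a + C.T (g.t * h.x) + C.T (C.sh g.t * h.y) + C.N g.t * h.u := rfl
@[simp] theorem mul_z (g h : U C) : (g * h).z = g.z + h.z - C.T (C.sh g.t * h.y) * h.u -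
    C.N g.t * h.u ^ 2 - C.T (g.t * C.sh h.y) + g.a * h.u - C.T (g.x * (h.y + h.u • g.t)) := rfl
@[simp] theorem one_t : (1 : U C).t = 0 := rfl
@[simp] theorem one_u : (1 : U C).u = 0 := rfl
@[simp] theorem one_y : (1 : U C).y = 0 := rfl
@[simp] theorem one_x : (1 : U C).x = 0 := rfl
@[simp] theorem one_a : (1 : U C).a = 0 := rfl
@[simp] theorem one_z : (1 : U C).z = 0 := rfl
@[simp] theorem inv_t (g : U C) : g⁻¹.t = -g.t := rfl
@[simp] theorem inv_u (g : U C) : g⁻¹.u = -g.u := rfl
@[simp] theorem inv_y (g : U C) : g⁻¹.y = -g.y + g.u • g.t := rfl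
@[simp] theorem inv_x (g : U C) : g⁻¹.x = -g.x + C.cr g.t g.y - g.u • C.sh g.t := rfl
@[simp] theorem inv_a (g : U C) :
    g⁻¹.a = -g.a + C.T (g.t * g.x) - C.T (C.sh g.t * g.y) + C.N g.t * g.u := rfl
@[simp] theorem inv_z (g : U C) : g⁻¹.z = -g.z - C.T (C.sh g.t * g.y) * g.u + C.N g.t * g.u ^ 2 +
    C.T (g.t * C.sh g.y) + g.a * g.u - C.T (g.x * g.y) := rfl

/-- equality of coordinates may be tested in `K` -/
theorem ext' {g h : U C} (h0 : g.t = h.t) (h1 : algebraMap F K g.u = algebraMap F K h.u)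
    (h2 : g.y = h.y) (h3 : g.x = h.x) (h4 : algebraMap F K g.a = algebraMap F K h.a)
    (h5 : algebraMap F K g.z = algebraMap F K h.z) : g = h :=
  U.ext h0 (Tri.inj h1) h2 h3 (Tri.inj h4) (Tri.inj h5)

end U

/-- Unfolds products and inverses to coordinates. -/
macro "d4u" : tactic =>
  `(tactic| simp only [U.mul_t, U.mul_u, U.mul_y, U.mul_x, U.mul_a, U.mul_z, U.inv_t, U.inv_u, U.inv_y,
      U.inv_x, U.inv_a, U.inv_z, U.one_t, U.one_u, U.one_y, U.one_x, U.one_a, U.one_z])

/-- Proves an identity between explicit elements of `U C`. -/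
macro "d4e" : tactic =>
  `(tactic| (apply U.ext' <;> (try d4u) <;> (try d4n) <;> (try ring)))

namespace U

variable {C}

instance : Group (U C) := Group.ofLeftAxioms (fun _ _ _ => by d4e) (fun _ => by d4e) (fun _ => by d4e)

/-- the coordinates -/
def coord : U C ≃ K × F × K × K × F × F where
  toFun g := (g.t, g.u, g.y, g.x, g.a, g.z)
  invFun p := ⟨p.1, p.2.1, p.2.2.1, p.2.2.2.1, p.2.2.2.2.1, p.2.2.2.2.2⟩
  left_inv _ := rfl
  right_inv _ := rfl

instance [Finite K] : Finite (U C) := by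
  haveI : Finite F := Finite.of_injective _ (algebraMap F K).injective
  exact Finite.of_equiv _ coord.symm

theorem card_U : Nat.card (U C) = Nat.card F ^ 12 := by
  rw [Nat.card_congr coord]; simp only [Nat.card_prod, C.card]; ring

theorem isPGroup [Finite K] (p : ℕ) [Fact p.Prime] [CharP F p] : IsPGroup p (U C) := by
  haveI : Finite F := Finite.of_injective _ (algebraMap F K).injective
  haveI := Fintype.ofFinite F
  obtain ⟨n, -, hn⟩ := FiniteField.card F p
  exact IsPGroup.of_card (n := n * 12) (by rw [card_U, Nat.card_eq_fintype_card, hn, pow_mul])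

end U

end Cfsg.Agent.H96.DF
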