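import Cfsg.Agent.H96.FuLSc

/-! Fusion of involutions in `PSL_n(F)`: `GmStmt`, `JmStmt`. -/

set_option autoImplicit false

namespace Cfsg.Agent.H96.FL

open Matrix Subgroup Cfsg.Agent.H1.FU Cfsg.Agent.H8.GHO Cfsg.Agent.H8
open scoped Pointwise MatrixGroups symmDiff commutatorElement

universe u v

section Frame

variable {G : Type*} [Group G] {n : ℕ} {t : Fin n → Fin n → G}

theorem Pm.pow {g : G} {π : Equiv.Perm (Fin n)} (h : Pm t g π) (k : ℕ) : Pm t (g ^ k) (π ^ k) := by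
  induction k with
  | zero => simpa using Pm.one
  | succ k ih => rw [pow_succ, pow_succ]; exact ih.mul h

theorem Pm.two [Finite G] {g : G} {a b : Fin n} (h : Pm t g (Equiv.swap a b)) :
    ∃ w k, w ^ 2 ^ k = 1 ∧ Pm t w (Equiv.swap a b) := by
  obtain ⟨k, m, hm, e⟩ := Nat.exists_eq_two_pow_mul_odd (orderOf_pos g).ne'
  refine ⟨g ^ m, k, by rw [← pow_mul, mul_comm, ← e, pow_orderOf_eq_one], ?_⟩
  obtain ⟨m, rfl⟩ := hm
  have := h.pow (2 * m + 1)
  rwa [pow_succ (Equiv.swap a b), pow_mul (Equiv.swap a b), sq (Equiv.swap a b), Equiv.swap_mul_self, one_pow,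
    one_mul] at this

theorem two_sup [Finite G] (hA : IsPGroup 2 (closure {y | ∃ r s, y = t r s})) {W : Set G}
    (hW : IsPGroup 2 (closure W)) (h : ∀ w ∈ W, ∃ π, Pm t w π) :
    IsPGroup 2 (closure (W ∪ {y | ∃ r s, y = t r s})) := by
  rw [Subgroup.closure_union]
  refine hW.to_sup_of_normal_right' hA ((closure_le _).2 fun w hw => ?_)
  obtain ⟨π, hπ⟩ := h w hw
  refine mem_normalizer_of_conj_smul_le ?_
  rw [← map_conj_eq_smul, MonoidHom.map_closure]
  refine closure_mono ?_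
  rintro _ ⟨_, ⟨r, s, rfl⟩, rfl⟩
  exact ⟨_, _, hπ r s⟩

theorem Fr.exists_w [Finite G] (h : Fr t) {a b c : Fin n} (hc : [a, b, c].Nodup) :
    ∃ w ∈ C1 (t a b), w * t a c * w⁻¹ = t b c ∧
      IsPGroup 2 (closure ({w} ∪ {y | ∃ r s, y = t r s})) := by
  obtain ⟨g, hg⟩ := h.perm (Equiv.swap a b)
  obtain ⟨w, k, h1, h2⟩ := hg.two
  simp only [List.nodup_cons, List.mem_cons, not_or] at hc
  refine ⟨w, mC1'.2 (by rw [h2, Equiv.swap_apply_left, Equiv.swap_apply_right, h.symm]), by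
    rw [h2, Equiv.swap_apply_left, Equiv.swap_apply_of_ne_of_ne (Ne.symm hc.1.2.1) (Ne.symm hc.2.1.1)],
    two_sup h.two (by rw [← zpowers_eq_closure]; exact pg_zpowers h1) ?_⟩
  rintro _ rfl
  exact ⟨_, h2⟩

theorem Fr.conj2 (h : Fr t) {a b c d : Fin n} (h1 : a ≠ b) (h2 : c ≠ d) :
    IsConj (t a b) (t c d) := by
  obtain ⟨π, hπ⟩ := exists_perm_list (l := [a, b]) (l' := [c, d]) (by simpa) (by simpa) rfl
  simp only [List.map_cons, List.map_nil, List.cons.injEq, and_true] at hπ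
  obtain ⟨g, hg⟩ := h.perm π
  exact isConj_iff.2 ⟨g, by rw [hg, hπ.1, hπ.2]⟩

theorem Fr.conj4 (h : Fr t) {a b c d a' b' c' d' : Fin n} (h1 : [a, b, c, d].Nodup)
    (h2 : [a', b', c', d'].Nodup) : IsConj (t a b * t c d) (t a' b' * t c' d') := by
  obtain ⟨π, hπ⟩ := exists_perm_list h1 h2 rfl
  simp only [List.map_cons, List.map_nil, List.cons.injEq, and_true] at hπ
  obtain ⟨g, hg⟩ := h.perm π
  exact isConj_iff.2 ⟨g, by rw [← conj_mul, hg, hg, hπ.1, hπ.2.1, hπ.2.2.1, hπ.2.2.2]⟩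

theorem Fr.cls (h : Fr t) {a b c d r s : Fin n} (h1 : [a, b, c, d].Nodup) (h2 : r ≠ s)
    (h3 : t r s ≠ t a b) : IsConj (t a b) (t r s * t a b) ∨ IsConj (t a b * t c d) (t r s * t a b) := by
  have ab : a ≠ b := fun e => by simp [e] at h1
  by_cases e1 : s = a
  · subst e1
    rw [h.mul]
    exact .inl (h.conj2 ab fun e => h3 (by rw [e, h.symm]))
  by_cases e2 : r = a
  · subst e2
    rw [h.symm r s, h.mul]
    exact .inl (h.conj2 ab fun e => h3 (by rw [e]))
  by_cases e3 : s = b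
  · subst e3
    rw [h.symm a s, h.mul, h.symm s a]
    exact .inl (h.conj2 ab e2)
  by_cases e4 : r = b
  · subst e4
    rw [h.symm a r, h.symm r s, h.mul, h.symm r a]
    exact .inl (h.conj2 ab e1)
  exact .inr (h.conj4 h1 (by simp [*]))

theorem Fr.ne' (h : Fr t) {a b c d : Fin n} (h1 : [a, b, c, d].Nodup) : t a b ≠ t c d := fun e =>
  h.ne4 a b c d h1 (by rw [e, h.sq])

end Frame

variable {F : Type*} [Field F] {n : ℕ}

theorem rank_mul_sub (A B : Matrix (Fin n) (Fin n) F) :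
    (A * B - 1).rank ≤ (A - 1).rank + (B - 1).rank := by
  rw [show A * B - 1 = (A - 1) * B + (B - 1) by noncomm_ring]
  refine le_trans ?_ (Nat.add_le_add_right (rank_mul_le_left (A - 1) B) _)
  rw [rank, mulVecLin_add]
  exact (Submodule.finrank_mono (LinearMap.range_add_le _ _)).trans
    (Submodule.finrank_add_le_finrank_add_finrank _ _)

theorem lift_cls {x : SL(n, F)} {y : ProjectiveSpecialLinearGroup (Fin n) F}
    (h : IsConj (x : ProjectiveSpecialLinearGroup (Fin n) F) y) :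
    ∃ g : SL(n, F), y = (g * x * g⁻¹ : SL(n, F)) := by
  obtain ⟨g, rfl⟩ := isConj_iff.1 h
  obtain ⟨g, rfl⟩ := QuotientGroup.mk_surjective g
  exact ⟨g, rfl⟩

theorem lift_t (h2 : (2 : F) ≠ 0) (hn : 5 ≤ n) {z : SL(n, F)} {a b c d : Fin n} (ab : a ≠ b)
    (cd : c ≠ d) (h : (z : ProjectiveSpecialLinearGroup (Fin n) F) * tP F a b * (z : _)⁻¹ = tP F c d) :
    z * tm F a b * z⁻¹ = tm F c d := by
  obtain ⟨r, -, hr⟩ := mk_eq_iff.1 (show ((tm F c d : SL(n, F)) : ProjectiveSpecialLinearGroup (Fin n) F)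
    = (z * tm F a b * z⁻¹ : SL(n, F)) from h.symm)
  have := hr
  change z.1 * (tm F a b).1 * (z⁻¹).1 = _ at this
  rw [coe_tm' ab, coe_tm' cd] at this
  rcases card_of_conj_smul h2 (by omega) this with h | h
  · exact Subtype.ext (by rw [hr, h.1, one_smul])
  · rw [Finset.card_pair ab, Finset.card_pair cd] at h
    omega

/-- diagonalization inside the centralizer of a diagonal involution. -/
theorem cdiag (h2 : (2 : F) ≠ 0) (hn : 1 ≤ n) {x u g : SL(n, F)} {S U : Finset (Fin n)}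
    (hx : x.1 = dm F S) (hu : u.1 = dm F U) (c : g * x * g⁻¹ * u = u * (g * x * g⁻¹)) :
    ∃ h : SL(n, F), h * u = u * h ∧ ∃ S' : Finset (Fin n), S'.card = S.card ∧
      (h * (g * x * g⁻¹) * h⁻¹).1 = dm F S' := by
  have x2 : x * x = 1 := Subtype.ext (by change x.1 * x.1 = 1; rw [hx, dm_sq])
  obtain ⟨k, A, B, hA, hB⟩ := diag2 hn h2 (s := (g * x * g⁻¹).1) (r := u.1)
    (congrArg Subtype.val (show g * x * g⁻¹ * (g * x * g⁻¹) = 1 by rw [conj_mul, x2]; simp))
    (by rw [hu, dm_sq]) (congrArg Subtype.val c)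
  have cB : B.card = U.card := card_eq_of_conj h2 (hB.symm.trans hu)
  obtain ⟨σ, hσ⟩ := Equiv.Perm.exists_map_finset_eq B U cB
  obtain ⟨p, hp⟩ := exists_pm (F := F) hn σ
  have key : ∀ (y : SL(n, F)) (C : Finset (Fin n)), y.1 = k.1 * dm F C * (k⁻¹).1 →
      (p * k⁻¹ * y * (p * k⁻¹)⁻¹).1 = dm F (C.map σ.toEmbedding) := fun y C e => by
    rw [← hp, show p * k⁻¹ * y * (p * k⁻¹)⁻¹ = p * (k⁻¹ * y * k) * p⁻¹ by group]
    change p.1 * ((k⁻¹).1 * y.1 * k.1) * (p⁻¹).1 = _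
    rw [e, ← Matrix.mul_assoc (k⁻¹).1, ← Matrix.mul_assoc (k⁻¹).1, sl_inv_mul, Matrix.one_mul,
      Matrix.mul_assoc (dm F C), sl_inv_mul, Matrix.mul_one]
  refine ⟨p * k⁻¹, mul_inv_eq_iff_eq_mul.1 (Subtype.ext (by rw [key u B hB, hσ, hu])), _, ?_,
    key _ A hA⟩
  refine (card_eq_of_conj h2 (g := p * k⁻¹ * g) ?_).symm
  rw [← key _ A hA, ← hx]
  exact congrArg Subtype.val (show p * k⁻¹ * g * x * (p * k⁻¹ * g)⁻¹ = _ by group)

theorem exists_four {S : Finset (Fin n)} (h : S.card = 4) :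
    ∃ a b c d, [a, b, c, d].Nodup ∧ S = {a, b, c, d} := by
  obtain ⟨a, T, ha, rfl, hT⟩ := Finset.card_eq_succ.1 h
  obtain ⟨b, c, d, h1, h2, h3, rfl⟩ := Finset.card_eq_three.1 hT
  exact ⟨a, b, c, d, by simp_all, rfl⟩

theorem cdiag4 (h2 : (2 : F) ≠ 0) (hn : 1 ≤ n) {a b c d : Fin n} (h4 : [a, b, c, d].Nodup)
    {u g : SL(n, F)} {U : Finset (Fin n)} (hu : u.1 = dm F U)
    (c' : g * (tm F a b * tm F c d) * g⁻¹ * u = u * (g * (tm F a b * tm F c d) * g⁻¹)) :
    ∃ h ∈ C1 (u : ProjectiveSpecialLinearGroup (Fin n) F), ∃ a' b' c' d', [a', b', c', d'].Nodup ∧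
      h * ((g * (tm F a b * tm F c d) * g⁻¹ : SL(n, F)) : ProjectiveSpecialLinearGroup (Fin n) F) *
        h⁻¹ = tP F a' b' * tP F c' d' := by
  obtain ⟨h, h1, S, h3, e⟩ := cdiag h2 hn (coe_tm4 h4) hu c'
  obtain ⟨a', b', c', d', h5, rfl⟩ := exists_four (h3.trans (card4 h4))
  exact ⟨h, mC1.2 (congrArg QuotientGroup.mk h1), a', b', c', d', h5,
    congrArg QuotientGroup.mk (Subtype.ext (e.trans (coe_tm4 h5).symm) :
      h * _ * h⁻¹ = tm F a' b' * tm F c' d')⟩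

theorem tm_sq (a b : Fin n) : tm F a b * tm F a b = 1 := by
  nth_rw 2 [tm_symm]; rw [tm_mul, tm_self]

theorem tm_comm (a b c d : Fin n) : tm F a b * tm F c d = tm F c d * tm F a b :=
  Subtype.ext (by
    change (tm F a b).1 * (tm F c d).1 = (tm F c d).1 * (tm F a b).1
    simp only [coe_tm, dm_mul]
    rw [symmDiff_comm])

theorem gmS : GmStmt.{v} := by
  intro n hn F _ _ hq
  have h2 := two_ne_of_odd hq
  have fr := fr_tP (F := F) h2 (show 5 ≤ n by omega)
  have g2 : ∀ a b c d : Fin n, a ≠ b → c ≠ d → ∀ y, IsConj (tP F a b) y → y ∈ C1 (tP F c d) →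
      ∃ h ∈ C1 (tP F c d), ∃ r s, r ≠ s ∧ h * y * h⁻¹ = tP F r s := by
    intro a b c d ab cd y hy hc
    obtain ⟨g, rfl⟩ := lift_cls hy
    obtain ⟨h, h1, S, h3, e⟩ := cdiag h2 (by omega) (coe_tm' ab) (coe_tm' cd)
      (mul_inv_eq_iff_eq_mul.1 (lift_t h2 (by omega) cd cd (mC1'.1 hc)))
    obtain ⟨r, s, h5, rfl⟩ := Finset.card_eq_two.1 (h3.trans (Finset.card_pair ab))
    exact ⟨h, mC1.2 (congrArg QuotientGroup.mk h1), r, s, h5,
      congrArg QuotientGroup.mk (Subtype.ext (e.trans (coe_tm' h5).symm) : h * _ * h⁻¹ = tm F r s)⟩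
  refine ⟨fun k l hk hl a b ab y hy hp => ?_, g2, fun a b c d r s h4 rs y hy hc => ?_,
    fun a b c d r s v w h4 h4' y hy hc => ?_, fun a b c d h4 y z hy hz hc hne => ?_,
    fun a b c h => fr.exists_w h, fun h6 a b c d e f h => ?_⟩
  · obtain ⟨g, rfl⟩ := lift_cls hy
    choose f hf using hp
    by_contra! h0
    have li : ∀ {i j x y}, l i x = l j y ↔ i = j ∧ x = y := fun {i j x y} =>
      ⟨fun e => Prod.ext_iff.1 (@hl (i, x) (j, y) e), fun e => by rw [e.1, e.2]⟩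
    have hf' : ∀ i, g * tm F a b * g⁻¹ * tm F (l i 0) (l i 1) * (g * tm F a b * g⁻¹)⁻¹ =
      tm F (l (f i) 0) (l (f i) 1) := fun i => lift_t h2 (by omega) (by simp [li]) (by simp [li]) (hf i)
    have f1 : ∀ i, f i ≠ i := fun i e => h0 i (mC1'.2 (by rw [hf, e]))
    have f2 : ∀ i, f (f i) = i := fun i => by
      by_contra e
      refine fr.ne' (a := l (f (f i)) 0) (b := l (f (f i)) 1) (c := l i 0) (d := l i 1)
        (by simp [li, e]) ?_
      have y2 : ((g * tm F a b * g⁻¹ : SL(n, F)) : ProjectiveSpecialLinearGroup (Fin n) F) *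
          (g * tm F a b * g⁻¹ : SL(n, F)) = 1 :=
        congrArg QuotientGroup.mk (show _ * _ = (1 : SL(n, F)) by rw [conj_mul, tm_sq]; simp)
      rw [← hf, ← hf, ← mul_assoc, ← mul_assoc, y2, one_mul, mul_assoc, ← _root_.mul_inv_rev, y2,
        inv_one, mul_one]
    let i : Fin k := ⟨0, by omega⟩
    obtain ⟨j, hj⟩ : (({i, f i} : Finset (Fin k))ᶜ).Nonempty := by
      rw [← Finset.card_pos, Finset.card_compl, Fintype.card_fin]
      have := Finset.card_le_two (a := i) (b := f i)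
      omega
    simp only [Finset.mem_compl, Finset.mem_insert, Finset.mem_singleton, not_or] at hj
    have j1 : f j ≠ i := fun e => hj.2 (by rw [← e, f2])
    have j2 : f j ≠ f i := fun e => hj.1 (by rw [← f2 j, e, f2])
    have n1 : [l i 0, l i 1, l j 0, l j 1].Nodup := by simp [li, Ne.symm hj.1]
    have n2 : [l (f i) 0, l (f i) 1, l (f j) 0, l (f j) 1].Nodup := by simp [li, j2.symm]
    let B := tm F (l i 0) (l i 1) * tm F (l j 0) (l j 1)
    have e1 : g * tm F a b * g⁻¹ * (B * g * tm F a b * (B * g)⁻¹) =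
        tm F (l (f i) 0) (l (f i) 1) * tm F (l (f j) 0) (l (f j) 1) * B := by
      have i1 : (tm F a b)⁻¹ = tm F a b := inv_eq_of_mul_eq_one_right (tm_sq a b)
      have i2 : B⁻¹ = B := inv_eq_of_mul_eq_one_right (Subtype.ext (by
        change B.1 * B.1 = 1
        rw [coe_tm4 n1, dm_sq]))
      rw [← hf', ← hf', conj_mul]
      nth_rw 2 [← i1]
      nth_rw 3 [← i2]
      simp only [B]
      group
    have e2 := rank_mul_sub (g * tm F a b * g⁻¹).1 (B * g * tm F a b * (B * g)⁻¹).1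
    have e3 : ∀ g : SL(n, F), ((g * tm F a b * g⁻¹).1 - 1).rank = 2 := fun g =>
      (rank_conj g _).trans (by rw [coe_tm' ab, rank_dm h2, Finset.card_pair ab])
    have e4 := congrArg Subtype.val e1
    change (_ : SL(n, F)).1 * (_ : SL(n, F)).1 = (_ : SL(n, F)).1 * B.1 at e4
    rw [e3, e3, e4, coe_tm4 n1, coe_tm4 n2, dm_mul, rank_dm h2, Disjoint.symmDiff_eq_sup,
      Finset.sup_eq_union, Finset.card_union_of_disjoint, card4 n1, card4 n2] at e2
    · omega
    all_goals simp [li, hj.2, j1.symm, (f1 _).symm]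
  · obtain ⟨g, rfl⟩ := lift_cls (x := tm F a b * tm F c d) hy
    exact cdiag4 h2 (by omega) h4 (coe_tm' rs)
      (mul_inv_eq_iff_eq_mul.1 (lift_t h2 (by omega) rs rs (mC1'.1 hc)))
  · obtain ⟨g, rfl⟩ := lift_cls (x := tm F a b * tm F c d) hy
    have e1 := lift_t h2 (by omega) (fun e => by simp [e] at h4') (fun e => by simp [e] at h4') hc
    refine cdiag4 h2 (by omega) h4 (u := tm F r s * tm F v w) (coe_tm4 h4') ?_
    have y2 : g * (tm F a b * tm F c d) * g⁻¹ * (g * (tm F a b * tm F c d) * g⁻¹) = 1 := by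
      rw [conj_mul, show tm F a b * tm F c d * (tm F a b * tm F c d) = 1 from Subtype.ext (by
        change (_ : SL(n, F)).1 * (_ : SL(n, F)).1 = 1
        rw [coe_tm4 h4, dm_sq])]
      simp
    generalize g * (tm F a b * tm F c d) * g⁻¹ = y at e1 y2
    have e2 : y * tm F v w * y⁻¹ = tm F r s := by
      rw [← e1, ← mul_assoc, ← mul_assoc, y2, one_mul, mul_assoc, ← _root_.mul_inv_rev, y2, inv_one,
        mul_one]
    rw [← mul_inv_eq_iff_eq_mul, ← conj_mul, e1, e2, tm_comm]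
  · have ab : a ≠ b := fun e => by simp [e] at h4
    obtain ⟨g, rfl⟩ := isConj_iff.1 hz
    obtain ⟨h, h1, r, s, rs, e⟩ := g2 a b a b ab ab (g⁻¹ * y * g⁻¹⁻¹)
      (hy.trans (isConj_iff.2 ⟨_, rfl⟩)) (mC1.2 (by
        calc _ = g⁻¹ * (y * (g * tP F a b * g⁻¹)) * g := by group
          _ = _ := by rw [hc]; group))
    have h3 := mC1'.1 h1
    have e1 : IsConj (tP F r s * tP F a b) (y * (g * tP F a b * g⁻¹)) :=
      isConj_iff.2 ⟨g * h⁻¹, by rw [← e]; nth_rw 1 [← h3]; group⟩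
    refine (fr.cls h4 rs fun e' => hne ?_).imp (·.trans e1) (·.trans e1)
    calc y = g * h⁻¹ * tP F r s * (g * h⁻¹)⁻¹ := by rw [← e]; group
      _ = _ := by rw [e']; nth_rw 1 [← h3]; group
  · subst h6
    have h4 : [a, b, c, d].Nodup := h.sublist (by simp)
    have ef : e ≠ f := fun e => by simp [e] at h
    refine (mk_eq_iff.2 ⟨-1, by norm_num, ?_⟩ : ((tm F a b * tm F c d : SL(6, F)) :
      ProjectiveSpecialLinearGroup (Fin 6) F) = tm F e f)
    rw [coe_tm4 h4, coe_tm' ef, neg_one_smul, ← dm_compl]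
    congr 1
    refine Finset.eq_of_subset_of_card_le (fun x hx => ?_) (by
      rw [Finset.card_compl, card4 h4, Finset.card_pair ef]; rfl)
    simp only [List.nodup_cons, List.mem_cons, not_or] at h
    simp only [Finset.mem_insert, Finset.mem_singleton, Finset.mem_compl, not_or] at hx ⊢
    rcases hx with rfl | rfl <;> refine ⟨?_, ?_, ?_, ?_⟩ <;> rintro rfl <;> simp at h

/-- the elements fixing `E` on both sides. -/
def FixE (E : Matrix (Fin n) (Fin n) F) : Subgroup SL(n, F) where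
  carrier := {z | z.1 * E = E ∧ E * z.1 = E}
  one_mem' := ⟨Matrix.one_mul E, Matrix.mul_one E⟩
  mul_mem' := fun {x y} hx hy => ⟨by
    change x.1 * y.1 * E = E
    rw [Matrix.mul_assoc, hy.1, hx.1], by
    change E * (x.1 * y.1) = E
    rw [← Matrix.mul_assoc, hx.2, hy.2]⟩
  inv_mem' := fun {x} hx => ⟨by
    nth_rw 1 [← hx.1]
    rw [← Matrix.mul_assoc, sl_inv_mul, Matrix.one_mul], by
    nth_rw 1 [← hx.2]
    rw [Matrix.mul_assoc, sl_mul_inv, Matrix.mul_one]⟩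

theorem FixE.conj {E E' : Matrix (Fin n) (Fin n) F} {z x : SL(n, F)} (hz : z.1 * E = E' * z.1)
    (hx : x ∈ FixE E) : z * x * z⁻¹ ∈ FixE E' := by
  rw [conj_of_mul hz.symm]
  constructor
  · change z.1 * x.1 * (z⁻¹).1 * _ = _
    rw [Matrix.mul_assoc _ (z⁻¹).1, ← Matrix.mul_assoc (z⁻¹).1, ← Matrix.mul_assoc (z⁻¹).1,
      sl_inv_mul, Matrix.one_mul, ← Matrix.mul_assoc, Matrix.mul_assoc z.1, hx.1]
  · change _ * (z.1 * x.1 * (z⁻¹).1) = _
    rw [Matrix.mul_assoc _ (z⁻¹).1, ← Matrix.mul_assoc (z⁻¹).1, ← Matrix.mul_assoc (z⁻¹).1,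
      sl_inv_mul, Matrix.one_mul, ← Matrix.mul_assoc, Matrix.mul_assoc z.1, hx.2]

theorem two_cancel (h2 : (2 : F) ≠ 0) {A B : Matrix (Fin n) (Fin n) F} (h : A + A = B + B) :
    A = B := smul_right_injective _ h2 (by simpa only [two_smul] using h)

theorem FixE.comm (h2 : (2 : F) ≠ 0) {D : Matrix (Fin n) (Fin n) F} {x y : SL(n, F)}
    (hx : x ∈ FixE (1 + D)) (hy : y ∈ FixE (1 - D)) : x * y = y * x := by
  refine Subtype.ext (two_cancel h2 ?_)
  change x.1 * y.1 + x.1 * y.1 = y.1 * x.1 + y.1 * x.1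
  linear_combination (norm := noncomm_ring) hx.1 * y.1 + x.1 * hy.2 - y.1 * hx.2 - hy.1 * x.1 +
    (hy.1 - hy.2) + (hx.2 - hx.1)

theorem FixE.neg {E : Matrix (Fin n) (Fin n) F} {x : SL(n, F)} (hx : x ∈ FixE (1 + E)) :
    x ∈ FixE (1 - -E) := by rwa [sub_neg_eq_add]

/-- scalar on both blocks. -/
theorem FixE.cen (h2 : (2 : F) ≠ 0) {D : Matrix (Fin n) (Fin n) F} {x w : SL(n, F)} {a : F}
    (hx : x ∈ FixE (1 - D)) (h1 : x.1 * (1 + D) = a • (1 + D)) (hw : w.1 * D = D * w.1) :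
    w * x = x * w := by
  have e : x.1 + x.1 = 1 - D + a • (1 + D) := by
    linear_combination (norm := noncomm_ring) hx.1 + h1
  refine Subtype.ext (two_cancel h2 ?_)
  change w.1 * x.1 + w.1 * x.1 = x.1 * w.1 + x.1 * w.1
  rw [← Matrix.mul_add, ← Matrix.add_mul, e]
  simp only [Matrix.mul_add, Matrix.add_mul, Matrix.mul_sub, Matrix.sub_mul, Matrix.mul_smul,
    Matrix.smul_mul, hw, Matrix.mul_one, Matrix.one_mul]

theorem dm_fix {S U : Finset (Fin n)} {x : SL(n, F)} (hx : x.1 = dm F S) (h : S ⊆ U) :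
    x ∈ FixE (1 + dm F U) := by
  constructor <;>
  · rw [hx, dm, dm, ← diagonal_one, diagonal_add, diagonal_mul_diagonal]
    congr 1
    funext i
    by_cases h1 : i ∈ S
    · simp [h h1]
    · simp [h1]

theorem dm_fix' {S U : Finset (Fin n)} {x : SL(n, F)} (hx : x.1 = dm F S) (h : Disjoint S U) :
    x ∈ FixE (1 - dm F U) := by
  rw [sub_eq_add_neg, ← dm_compl]
  exact dm_fix hx (Finset.subset_compl_iff_disjoint_right.2 h)

theorem sgn_of (h2 : (2 : F) ≠ 0) (hn : 1 ≤ n) {u : SL(n, F)} {U : Finset (Fin n)}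
    (hu : u.1 = dm F U) {z : SL(n, F)} (hz : (z : ProjectiveSpecialLinearGroup (Fin n) F) ∈
      C1 (u : ProjectiveSpecialLinearGroup (Fin n) F)) :
    z * u * z⁻¹ = u ∨ (z * u * z⁻¹).1 = -u.1 := by
  obtain ⟨r, -, hr⟩ := mk_eq_iff.1 (show (u : ProjectiveSpecialLinearGroup (Fin n) F)
    = (z * u * z⁻¹ : SL(n, F)) from (mC1'.1 hz).symm)
  have := hr
  change z.1 * u.1 * (z⁻¹).1 = _ at this
  rw [hu] at this
  exact (card_of_conj_smul h2 hn this).imp (fun h => Subtype.ext (by rw [hr, h.1, one_smul]))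
    fun h => by rw [hr, h.1, neg_one_smul]

theorem jmS : JmStmt.{v} := by
  intro n hn F _ _ hq a b c d e f h6
  have h2 := two_ne_of_odd hq
  have h4 : [a, b, c, d].Nodup := h6.sublist (by simp)
  let π := QuotientGroup.mk' (center SL(n, F))
  generalize hu' : tm F a b * tm F c d = u
  have hu : u.1 = dm F {a, b, c, d} := hu' ▸ coe_tm4 h4
  have e0 : tP F a b * tP F c d = π u := congrArg π hu'
  have sg := fun z => sgn_of h2 (show 1 ≤ n by omega) hu (z := z)
  have le : (C1 u).map π ≤ C1 (π u) := by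
    rintro _ ⟨z, hz, rfl⟩
    exact mC1.2 (congrArg π (mC1.1 hz))
  have ng : ∀ z y : SL(n, F), (z * u * z⁻¹).1 = -u.1 → (y * u * y⁻¹).1 = -u.1 → z * y ∈ C1 u :=
    fun z y h h' => mC1'.2 (Subtype.ext (by
      rw [show z * y * u * (z * y)⁻¹ = z * (y * u * y⁻¹) * z⁻¹ by group]
      change z.1 * (y * u * y⁻¹).1 * (z⁻¹).1 = _
      rw [h', Matrix.mul_neg, Matrix.neg_mul, neg_eq_iff_eq_neg]
      exact h))
  have two : ∀ x ∈ C1 (π u), ∀ y ∈ C1 (π u), x ∈ (C1 u).map π ∨ y ∈ (C1 u).map π ∨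
      x * y ∈ (C1 u).map π := fun x hx y hy => by
    obtain ⟨x, rfl⟩ := QuotientGroup.mk_surjective x
    obtain ⟨y, rfl⟩ := QuotientGroup.mk_surjective y
    exact (sg x hx).imp (fun h => ⟨x, mC1'.2 h, rfl⟩) fun h => (sg y hy).imp
      (fun h => ⟨y, mC1'.2 h, rfl⟩) fun h' => ⟨x * y, ng x y h h', rfl⟩
  have nr : ∀ x ∈ C1 (π u), Nrm x ((C1 u).map π) ((C1 u).map π) := fun x hx y hy => by
    by_cases h : x ∈ (C1 u).map π
    · exact mul_mem (mul_mem h hy) (inv_mem h)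
    · rcases two _ (mul_mem hx (le hy)) _ (inv_mem hx) with h' | h' | h'
      · exact absurd ((mul_mem_cancel_right hy).1 h') h
      · exact absurd (inv_mem_iff.1 h') h
      · exact h'
  have cu : ∀ z ∈ C1 u, z.1 * u.1 = u.1 * z.1 := fun z hz =>
    congrArg Subtype.val (show z * u = u * z from mC1.1 hz)
  have cu' : ∀ z : SL(n, F), z.1 * u.1 = u.1 * z.1 → z ∈ C1 u := fun z hz => mC1.2 (Subtype.ext hz)
  refine ⟨(C1 u).map π, (FixE (1 + u.1)).map π, (FixE (1 - u.1)).map π, e0 ▸ le, fun x hx ho => ?_,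
    commutator_le.2 fun x hx y hy => ?_, map_mono fun z hz => cu' z ?_,
    map_mono fun z hz => cu' z ?_, ?_, ?_, ?_, ?_,
    ⟨_, hu ▸ dm_fix (coe_tm' fun e => by simp [e] at h6) (by simp [Finset.insert_subset_iff]), rfl⟩,
    ⟨_, hu ▸ dm_fix' (coe_tm' fun e => by simp [e] at h6) (by
      simp only [List.nodup_cons, List.mem_cons, not_or] at h6
      simp only [Finset.disjoint_insert_right, Finset.mem_insert, Finset.mem_singleton,
        Finset.disjoint_singleton_right, not_or]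
      tauto), rfl⟩, fun s hs => ?_⟩
  · rw [e0] at hx
    have h1 : x * x ∈ (C1 u).map π := by
      rcases two x hx x hx with h | h | h
      exacts [mul_mem h h, mul_mem h h, h]
    obtain ⟨k, hk⟩ := ho
    have := pow_mem h1 (k + 1)
    rwa [← sq, ← pow_mul, show 2 * (k + 1) = orderOf x + 1 by omega, pow_succ, pow_orderOf_eq_one,
      one_mul] at this
  · rw [e0] at hx hy
    rw [commutatorElement_def]
    rcases two x hx y hy with h | h | h
    · have := mul_mem h (nr y hy _ (inv_mem h))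
      simpa only [mul_assoc] using this
    · exact mul_mem (nr x hx y h) (inv_mem h)
    · convert mul_mem h (nr y hy _ (inv_mem h)) using 1
      group
  · linear_combination (norm := noncomm_ring) hz.1 - hz.2
  · linear_combination (norm := noncomm_ring) hz.2 - hz.1
  · rintro _ ⟨z, hz, rfl⟩ _ ⟨x, hx, rfl⟩
    exact ⟨_, FixE.conj (by rw [Matrix.mul_add, Matrix.add_mul, cu z hz]; simp) hx, rfl⟩
  · rintro _ ⟨z, hz, rfl⟩ _ ⟨x, hx, rfl⟩
    exact ⟨_, FixE.conj (by rw [Matrix.mul_sub, Matrix.sub_mul, cu z hz]; simp) hx, rfl⟩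
  · rintro _ ⟨x, hx, rfl⟩ _ ⟨y, hy, rfl⟩
    exact congrArg π (FixE.comm h2 hx hy)
  · rintro _ ⟨⟨x, hx, rfl⟩, y, hy, e⟩ _ ⟨w, hw, rfl⟩
    obtain ⟨r, -, hr⟩ := mk_eq_iff.1 e.symm
    rw [← e]
    exact congrArg π (FixE.cen h2 hy (a := r) (by rw [hr, Matrix.smul_mul, hx.1]) (cu w hw))
  · obtain ⟨s, rfl⟩ := QuotientGroup.mk_surjective s
    have m := hu ▸ dm_fix (coe_tm' (F := F) (show a ≠ b from fun e => by simp [e] at h6))
      (U := {a, b, c, d}) (by simp [Finset.insert_subset_iff])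
    rw [e0] at hs
    refine (sg s hs).imp (fun h => ⟨_, FixE.conj ?_ m, rfl⟩) fun h => ⟨_, FixE.conj ?_ m, rfl⟩
    · rw [Matrix.mul_add, Matrix.add_mul, cu s (mC1'.2 h)]; simp
    · have : s.1 * u.1 = -u.1 * s.1 := by
        rw [← h]
        exact congrArg Subtype.val (show s * u = s * u * s⁻¹ * s by group)
      rw [Matrix.mul_add, Matrix.sub_mul, this, sub_eq_add_neg]; simp

end Cfsg.Agent.H96.FL
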