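import Cfsg.Agent.H96.FuLMod
import Cfsg.Agent.H96.AutLD

/-! The block model of a Sylow 2-subgroup of `PSL_n(q)`; strongly closed subgroups. -/

set_option autoImplicit false

namespace Cfsg.Agent.H96.FL

open Matrix Subgroup Cfsg.Agent.H1.FU Cfsg.Agent.H8.GHO Cfsg.Agent.H8 Cfsg.Agent.H96.AL Equiv
open H79 (Wr wr_mul_left)
open scoped Pointwise MatrixGroups symmDiff

universe u v

section B

variable {H : Type*} [Group H]

/-- conjugate into `B`. -/
def InB (B : Subgroup H) (x : H) : Prop := ∃ h, h * x * h⁻¹ ∈ B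

theorem InB.conj {B : Subgroup H} {x : H} (h : InB B x) (g : H) : InB B (g * x * g⁻¹) :=
  let ⟨k, hk⟩ := h
  ⟨k * g⁻¹, by simpa [mul_assoc] using hk⟩

theorem pg_zpowers {x : H} {k : ℕ} (h : x ^ 2 ^ k = 1) : IsPGroup 2 (zpowers x) := by
  rintro ⟨_, n, rfl⟩
  exact ⟨k, Subtype.ext (by
    change (x ^ n) ^ 2 ^ k = 1
    rw [← _root_.zpow_natCast, ← _root_.zpow_mul, mul_comm, _root_.zpow_mul, _root_.zpow_natCast, h,
      _root_.one_zpow])⟩

variable [Finite H] {T : Sylow 2 H} {B : Subgroup H} (hB : IsStronglyClosed B (T : Subgroup H))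
include hB

omit [Finite H] in
theorem InB.mem {x : H} (h : InB B x) (hx : x ∈ (T : Subgroup H)) : x ∈ B := by
  obtain ⟨k, hk⟩ := h
  simpa [mul_assoc] using hB.2 _ hk k⁻¹ (by simpa [mul_assoc] using hx)

theorem InB.mul {x y : H} (hx : InB B x) (hy : InB B y) {Q : Subgroup H} (hQ : IsPGroup 2 Q)
    (h1 : x ∈ Q) (h2 : y ∈ Q) : InB B (x * y) := by
  obtain ⟨g, -, hg⟩ := (isSylowIn_top T).exists_conj_le hQ le_top
  refine ⟨g, ?_⟩
  rw [← conj_mul]
  exact mul_mem ((hx.conj g).mem hB (hg (conj_mem_conj_smul.2 h1)))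
    ((hy.conj g).mem hB (hg (conj_mem_conj_smul.2 h2)))

/-- two involutions whose product is a 2-element. -/
theorem InB.dih {a b : H} (ha : InB B a) (hb : InB B b) (a2 : a * a = 1) (b2 : b * b = 1) {k : ℕ}
    (h : (a * b) ^ 2 ^ k = 1) : InB B (a * b) := by
  have hp : IsPGroup 2 (zpowers (a * b) ⊔ zpowers a : Subgroup H) := by
    refine (pg_zpowers h).to_sup_of_normal_left' (pg_zpowers (k := 1) (by simpa [sq] using a2))
      (zpowers_le.2 (mem_normalizer_fintype fun x hx => ?_))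
    obtain ⟨n, rfl⟩ := mem_zpowers_iff.1 hx
    rw [← conj_zpow, show a * (a * b) * a⁻¹ = (a * b)⁻¹ by
      rw [← mul_assoc, a2, one_mul, _root_.mul_inv_rev, inv_eq_of_mul_eq_one_right b2]]
    exact zpow_mem (inv_mem (mem_zpowers _)) n
  refine ha.mul hB hb hp (mem_sup_right (mem_zpowers a)) ?_
  have := mul_mem (mem_sup_right (mem_zpowers a))
    (mem_sup_left (mem_zpowers (a * b)) : a * b ∈ zpowers (a * b) ⊔ zpowers a)
  rwa [← mul_assoc, a2, one_mul] at this

end B

theorem perm_real {ι : Type*} (σ : Perm ι) : ∃ τ : Perm ι, τ * τ = 1 ∧ τ * σ * τ⁻¹ = σ⁻¹ := by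
  let r : ι → ι := fun x => (Quotient.mk (Perm.SameCycle.setoid σ) x).out
  have h1 : ∀ x, ∃ i : ℤ, (σ ^ i) (r x) = x := fun x => Quotient.mk_out (s := Perm.SameCycle.setoid σ) x
  have h2 : ∀ (x) (i : ℤ), r ((σ ^ i) x) = r x := fun x i =>
    congrArg Quotient.out (Quotient.sound (s := Perm.SameCycle.setoid σ) (Perm.SameCycle.symm ⟨i, rfl⟩))
  choose f hf using h1
  let τ : ι → ι := fun x => (σ ^ (-f x)) (r x)
  have key : ∀ (x) (i : ℤ), τ ((σ ^ i) x) = (σ ^ (-i)) (τ x) := fun x i => by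
    have e := hf ((σ ^ i) x)
    rw [h2] at e
    change (σ ^ (-f ((σ ^ i) x))) (r ((σ ^ i) x)) = (σ ^ (-i)) ((σ ^ (-f x)) (r x))
    rw [h2]
    generalize f ((σ ^ i) x) = a at e
    apply (σ ^ (a + (i + f x))).injective
    conv_lhs => rw [← Perm.mul_apply, ← _root_.zpow_add, add_right_comm, add_neg_cancel, zero_add,
      _root_.zpow_add, Perm.mul_apply, hf]
    rw [← Perm.mul_apply, ← Perm.mul_apply, ← _root_.zpow_add, ← _root_.zpow_add, ← e]
    congr 2
    ring
  have inv : Function.Involutive τ := fun x => by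
    have e0 : τ (r x) = r x := by
      have := key (r x) (f x)
      rw [hf] at this
      exact (σ ^ (-f x)).injective this.symm
    exact (key (r x) (-f x)).trans (by rw [neg_neg, e0, hf])
  have sq : inv.toPerm τ * inv.toPerm τ = 1 := Perm.ext inv
  refine ⟨_, sq, mul_inv_eq_iff_eq_mul.2 (Perm.ext fun x => ?_)⟩
  simpa using key x 1

variable {F : Type*} [Field F]

theorem sl2_real (y : GL (Fin 2) F) (hy : y.1.det = 1) : ∃ ρ : GL (Fin 2) F, ρ * ρ = 1 ∧
    ρ * y * ρ⁻¹ = y⁻¹ := by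
  rw [det_fin_two] at hy
  have key : ∀ x z w : F, x * x + z * w = 1 → x * (y.1 0 0 - y.1 1 1) + z * y.1 1 0 + w * y.1 0 1 = 0 →
      ∃ ρ : GL (Fin 2) F, ρ * ρ = 1 ∧ ρ * y * ρ⁻¹ = y⁻¹ := fun x z w h1 h2 => by
    have e : !![x, z; w, -x] * !![x, z; w, -x] = 1 := by
      ext i j
      fin_cases i <;> fin_cases j <;> simp <;> first | linear_combination h1 | ring
    refine ⟨⟨_, _, e, e⟩, Units.ext e, ?_⟩
    rw [eq_inv_iff_mul_eq_one]
    refine Units.ext ?_
    change !![x, z; w, -x] * y.1 * !![x, z; w, -x] * y.1 = 1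
    ext i j
    fin_cases i <;> fin_cases j <;> simp [mul_apply, vecMul, dotProduct]
    · linear_combination (x * y.1 0 0 + z * y.1 1 0) * h2 + (y.1 0 0 * y.1 1 1 - y.1 0 1 * y.1 1 0) * h1 + hy
    · linear_combination (x * y.1 0 1 + z * y.1 1 1) * h2
    · linear_combination (w * y.1 0 0 - x * y.1 1 0) * h2
    · linear_combination (w * y.1 0 1 - x * y.1 1 1) * h2 + (y.1 0 0 * y.1 1 1 - y.1 0 1 * y.1 1 0) * h1 + hy
  by_cases h1 : y.1 1 0 = 0
  · by_cases h2 : y.1 0 1 = 0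
    · exact key 0 1 1 (by simp) (by simp [h1, h2])
    · exact key 1 0 ((y.1 1 1 - y.1 0 0) / y.1 0 1) (by simp) (by field_simp; ring)
  · exact key 1 ((y.1 1 1 - y.1 0 0) / y.1 1 0) 0 (by simp) (by field_simp; ring)

theorem exists_pmd {n : ℕ} (hn : 1 ≤ n) (σ : Perm (Fin n)) : ∃ g : SL(n, F),
    ∀ d : Fin n → F, g.1 * diagonal d * (g⁻¹).1 = diagonal (d ∘ σ.symm) := by
  obtain ⟨g, d, hg⟩ := exists_sl_diag hn (A := (σ⁻¹).permMatrix F) (by
    rw [det_permutation]
    rcases Int.units_eq_one_or (Perm.sign σ⁻¹) with e | e <;> simp [e])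
  refine ⟨g, fun S => (conj_of_mul ?_).symm⟩
  rw [hg]
  ext i j
  rw [diagonal_mul, mul_diagonal, mul_diagonal, mul_diagonal]
  by_cases e : i = σ j
  · subst e
    simp only [Function.comp, symm_apply_apply, mul_comm]
  · have : (σ⁻¹).permMatrix F i j = 0 := by
      simp [Perm.permMatrix, PEquiv.toMatrix_apply, symm_apply_eq, e]
    rw [this, zero_mul, mul_zero, zero_mul]

section Inv

variable [Fintype F] {n : ℕ} {T : Sylow 2 (ProjectiveSpecialLinearGroup (Fin n) F)}
  {B : Subgroup (ProjectiveSpecialLinearGroup (Fin n) F)}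
  (hB : IsStronglyClosed B (T : Subgroup _)) (h2 : (2 : F) ≠ 0)
include hB h2

/-- split involutions. -/
theorem inB_t_of_sq (hn : 1 ≤ n) {z : SL(n, F)} {μ : F} (hz : z.1 * z.1 = (μ * μ) • 1)
    (h1 : (z : ProjectiveSpecialLinearGroup (Fin n) F) ≠ 1)
    (h : InB B (z : ProjectiveSpecialLinearGroup (Fin n) F)) (a b : Fin n) : InB B (tP F a b) := by
  have d : (μ * μ) ^ n = 1 := by
    simpa [z.2] using (congrArg det hz).symm
  have h0 : μ ≠ 0 := by
    rintro rfl
    rw [mul_zero, zero_pow (by omega)] at d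
    exact zero_ne_one d
  obtain ⟨g, S, hg⟩ := diag1 hn h2 (s := μ⁻¹ • z.1) (by
    rw [Matrix.smul_mul, Matrix.mul_smul, hz, smul_smul, smul_smul]
    field_simp
    exact one_smul _ _)
  let y := g⁻¹ * z * g⁻¹⁻¹
  have hy : y.1 = μ • dm F S := by
    change (g⁻¹).1 * z.1 * (g⁻¹⁻¹).1 = _
    rw [inv_inv, (inv_smul_eq_iff₀ h0).1 hg, Matrix.mul_smul, Matrix.smul_mul, ← Matrix.mul_assoc,
      ← Matrix.mul_assoc, sl_inv_mul, Matrix.one_mul, Matrix.mul_assoc, sl_inv_mul, Matrix.mul_one]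
  have yB : InB B (y : ProjectiveSpecialLinearGroup (Fin n) F) := h.conj (g⁻¹ : SL(n, F))
  have sc : ∀ c : F, y.1 ≠ c • 1 := fun c e => by
    have : (1 : SL(n, F)) = (y : ProjectiveSpecialLinearGroup (Fin n) F) :=
      mk_eq_iff.2 ⟨c, by simpa [y.2] using (congrArg det e).symm, e⟩
    exact h1 ((conj_eq_one_iff (a := ((g⁻¹ : SL(n, F)) : ProjectiveSpecialLinearGroup (Fin n) F))).1
      this.symm)
  obtain ⟨x, hx⟩ : S.Nonempty := Finset.nonempty_iff_ne_empty.2 fun e =>
    sc μ (by rw [hy, e, dm_empty])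
  obtain ⟨w, hw⟩ : Sᶜ.Nonempty := Finset.nonempty_iff_ne_empty.2 fun e =>
    sc (-μ) (by rw [hy, ← compl_compl S, e, dm_compl, dm_empty, smul_neg, neg_smul])
  rw [Finset.mem_compl] at hw
  have xw : x ≠ w := fun e => hw (e ▸ hx)
  obtain ⟨k, hk⟩ := exists_pm (F := F) hn (swap x w)
  have hy' : (k * y * k⁻¹).1 = μ • dm F (S.map (swap x w).toEmbedding) := by
    change k.1 * y.1 * (k⁻¹).1 = _
    rw [hy, Matrix.mul_smul, Matrix.smul_mul, hk]
  have mul : ∀ {u v w : SL(n, F)} {S T : Finset (Fin n)}, u.1 = μ • dm F S → v.1 = μ • dm F T →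
      w.1 = dm F (S ∆ T) → (u : ProjectiveSpecialLinearGroup (Fin n) F) * v = w :=
    fun {u v w S T} hu hv hw => (mk_eq_iff.2 ⟨_, d, by
      change u.1 * v.1 = _
      rw [hu, hv, hw, Matrix.smul_mul, Matrix.mul_smul, dm_mul, smul_smul]⟩ :
        (w : ProjectiveSpecialLinearGroup (Fin n) F) = (u * v : SL(n, F))).symm
  have e1 := mul hy hy' (w := tm F x w) (by
    rw [coe_tm' xw]
    congr 1
    ext i
    simp only [Finset.mem_symmDiff, Finset.mem_map_equiv, symm_swap, swap_apply_def,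
      Finset.mem_insert, Finset.mem_singleton]
    split_ifs <;> simp_all)
  have sq : tP F x w * tP F x w = 1 := by
    rw [tP, ← QuotientGroup.mk_mul]
    nth_rw 2 [tm_symm]
    rw [tm_mul, tm_self]; rfl
  have e2 : InB B (tP F x w) := by
    rw [tP, ← e1]
    exact yB.dih hB (yB.conj (k : SL(n, F))) (mul hy hy (w := 1) (by simp [dm_empty]))
      (mul hy' hy' (w := 1) (by simp [dm_empty])) (k := 1) (by rw [e1, pow_one, pow_two]; exact sq)
  by_cases ab : a = b
  · exact ⟨1, by rw [ab, tP, tm_self]; simpa using one_mem B⟩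
  obtain ⟨π, hπ⟩ := exists_perm_list (l := [x, w]) (l' := [a, b]) (by simpa) (by simpa) rfl
  simp only [List.map_cons, List.map_nil, List.cons.injEq, and_true] at hπ
  obtain ⟨g, hg⟩ := pm_tm (F := F) π
  have := e2.conj (g : SL(n, F))
  rwa [tP, ← QuotientGroup.mk_mul, ← QuotientGroup.mk_inv, ← QuotientGroup.mk_mul, hg, hπ.1,
    hπ.2] at this

theorem inB_t (hF : Odd (Fintype.card F)) (hn : 3 ≤ n) (h0 : B ≠ ⊥) (a b : Fin n) :
    InB B (tP F a b) := by
  haveI : Nontrivial B := (nontrivial_iff_ne_bot B).2 h0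
  obtain ⟨k, hk0, hk⟩ := (T.isPGroup'.to_le hB.1).nontrivial_iff_card.1 this
  haveI : Fact (Nat.Prime 2) := ⟨Nat.prime_two⟩
  obtain ⟨⟨z, hz⟩, ho⟩ := exists_prime_orderOf_dvd_card' (G := B) 2 (hk ▸ dvd_pow_self 2 hk0.ne')
  rw [orderOf_mk] at ho
  obtain ⟨z, rfl⟩ := QuotientGroup.mk_surjective z
  have z2 : (z : ProjectiveSpecialLinearGroup (Fin n) F) * z = 1 := by
    rw [← sq, ← ho, pow_orderOf_eq_one]
  have z1 : (z : ProjectiveSpecialLinearGroup (Fin n) F) ≠ 1 := fun e => by simp [e] at ho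
  have zB : InB B (z : ProjectiveSpecialLinearGroup (Fin n) F) := ⟨1, by simpa using hz⟩
  obtain ⟨c, hc, e⟩ := mk_eq_iff.1 (show ((1 : SL(n, F)) : ProjectiveSpecialLinearGroup (Fin n) F) =
    (z * z : SL(n, F)) from z2.symm)
  change z.1 * z.1 = c • (1 : Matrix (Fin n) (Fin n) F) at e
  by_cases hs : ∃ μ, c = μ * μ
  · obtain ⟨μ, rfl⟩ := hs
    exact inB_t_of_sq hB h2 (by omega) e z1 zB a b
  have c0 : c ≠ 0 := fun e => hs ⟨0, by simpa using e⟩
  let o : Fin n := ⟨0, by omega⟩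
  obtain ⟨j, jo, hj⟩ : ∃ j, j ≠ o ∧ z.1 j o ≠ 0 := by
    by_contra! h
    refine hs ⟨z.1 o o, ?_⟩
    have := congrFun (congrFun e o) o
    rw [mul_apply, Finset.sum_eq_single o (fun j _ hj => by rw [h j hj, mul_zero]) (by simp)] at this
    simpa using this.symm
  obtain ⟨u, t, hut⟩ : ∃ u t : F, c * t * t - u * u = 1 := by
    obtain ⟨t, u, h⟩ := FiniteField.exists_root_sum_quadratic
      (f := Polynomial.C c * Polynomial.X ^ 2) (g := -(Polynomial.X ^ 2 + Polynomial.C 1))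
      (Polynomial.degree_C_mul_X_pow 2 c0)
      (by rw [Polynomial.degree_neg, Polynomial.degree_X_pow_add_C (by norm_num)]; rfl)
      (Nat.odd_iff.1 hF)
    exact ⟨u, t, by simp at h; linear_combination h⟩
  let φ : Fin n → F := Pi.single o 1 - (z.1 o o / z.1 j o) • Pi.single j 1
  let U : Matrix (Fin n) (Fin 2) F := of fun i => ![(Pi.single o 1 : Fin n → F) i, z.1 i o]
  let V : Matrix (Fin 2) (Fin n) F := of ![φ, c⁻¹ • φ ᵥ* z.1]
  let J : Matrix (Fin 2) (Fin 2) F := !![0, c; 1, 0]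
  have p1 : φ ⬝ᵥ (fun i => z.1 i o) = 0 := by
    simp only [φ, sub_dotProduct, smul_dotProduct, single_dotProduct, one_mul, smul_eq_mul]
    field_simp
    ring
  have p0 : φ o = 1 := by simp [φ, jo.symm]
  have zU : z.1 * U = U * J := by
    ext i k
    fin_cases k
    · simp [U, J, mul_apply, Pi.single_apply]
    · have := congrFun (congrFun e i) o
      simpa [U, J, mul_apply, Pi.single_apply, one_apply, mul_comm] using this
  have Vz : V * z.1 = J * V := by
    ext k i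
    fin_cases k
    · simp [V, J, mul_apply, vecMul, dotProduct, c0]
    · have : (c⁻¹ • φ ᵥ* z.1) ᵥ* z.1 = φ := by
        rw [smul_vecMul, vecMul_vecMul, e, vecMul_smul, vecMul_one, smul_smul, inv_mul_cancel₀ c0,
          one_smul]
      simpa [V, J, mul_apply, vecMul, dotProduct] using congrFun this i
  have VU : V * U = 1 := by
    have q1 : (φ ᵥ* z.1) ⬝ᵥ (fun i => z.1 i o) = c := by
      have := congrFun (congrArg (φ ᵥ* ·) e) o
      simp only [← vecMul_vecMul, vecMul_smul, vecMul_one, Pi.smul_apply, p0, smul_eq_mul,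
        mul_one] at this
      exact this
    ext k l
    fin_cases k <;> fin_cases l
    · simpa [V, U, mul_apply, Pi.single_apply] using p0
    · exact p1
    · have : (φ ᵥ* z.1) o = 0 := p1
      simp [V, U, mul_apply, Pi.single_apply, this]
    · change (c⁻¹ • φ ᵥ* z.1) ⬝ᵥ (fun i => z.1 i o) = 1
      rw [smul_dotProduct, q1, smul_eq_mul, inv_mul_cancel₀ c0]
  let E : Matrix (Fin 2) (Fin 2) F → Matrix (Fin n) (Fin n) F := fun M => 1 + U * ((M - 1) * V)
  have Ed : ∀ M, (E M).det = M.det := fun M => by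
    rw [det_one_add_mul_comm, Matrix.mul_assoc, VU, Matrix.mul_one, add_sub_cancel]
  have Em : ∀ M N, E M * E N = E (M * N) := fun M N => by
    simp only [E, Matrix.add_mul, Matrix.mul_add, Matrix.one_mul, Matrix.mul_one, Matrix.mul_assoc,
      ← Matrix.mul_assoc V U, VU, Matrix.sub_mul, Matrix.mul_sub]
    abel
  let y : Matrix (Fin 2) (Fin 2) F := !![u, -(c * t); t, -u]
  have zE : z.1 * E y = E (-y) * z.1 := by
    have : J * (y - 1) = (-y - 1) * J := by
      ext i k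
      fin_cases i <;> fin_cases k <;> simp [J, y, mul_apply] <;> ring
    simp only [E, Matrix.add_mul, Matrix.mul_add, Matrix.one_mul, Matrix.mul_one, Matrix.mul_assoc, Vz]
    rw [← Matrix.mul_assoc z.1, zU, Matrix.mul_assoc, ← Matrix.mul_assoc J, this, Matrix.mul_assoc]
  let x : SL(n, F) := ⟨E y, by rw [Ed, det_fin_two_of]; linear_combination hut⟩
  let s : SL(n, F) := ⟨E (-1), by rw [Ed]; simp [det_neg]⟩
  have E1 : E 1 = 1 := by simp [E]
  have s2 : s.1 * s.1 = ((1 : F) * 1) • 1 := by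
    change E (-1) * E (-1) = _
    rw [Em, neg_mul_neg, mul_one, E1, mul_one, one_smul]
  have e1 : (s : ProjectiveSpecialLinearGroup (Fin n) F) = (z * (x * z * x⁻¹) : SL(n, F)) := by
    refine mk_eq_iff.2 ⟨c, hc, ?_⟩
    change z.1 * (E y * z.1 * (x⁻¹).1) = c • E (-1)
    rw [← Matrix.mul_assoc, ← Matrix.mul_assoc, zE, Matrix.mul_assoc (E (-y)), e, Matrix.mul_smul,
      Matrix.mul_one, Matrix.smul_mul, ← neg_one_mul y, ← Em, Matrix.mul_assoc]
    rw [show E y * (x⁻¹).1 = 1 from sl_mul_inv x, Matrix.mul_one]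
  have s3 : (s : ProjectiveSpecialLinearGroup (Fin n) F) * s = 1 :=
    (mk_eq_iff.2 ⟨1, one_pow n, s2.trans (by rw [mul_one]; rfl)⟩ :
      ((1 : SL(n, F)) : ProjectiveSpecialLinearGroup (Fin n) F) = (s * s : SL(n, F))).symm
  refine inB_t_of_sq hB h2 (by omega) s2 (fun h => ?_) ?_ a b
  · obtain ⟨r, -, hr⟩ := mk_eq_iff.1 (show ((1 : SL(n, F)) : ProjectiveSpecialLinearGroup (Fin n) F)
      = s from h.symm)
    change E (-1) = r • 1 at hr
    have h3 : V * E (-1) * U = -1 := by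
      simp only [E, Matrix.add_mul, Matrix.mul_add, Matrix.mul_one, Matrix.mul_assoc,
        ← Matrix.mul_assoc V U, VU, Matrix.one_mul]
      abel
    rw [hr, Matrix.mul_smul, Matrix.mul_one, Matrix.smul_mul, VU] at h3
    have h4 : r = -1 := by simpa using congrFun (congrFun h3 0) 0
    have h5 : U * ((-1 - 1 : Matrix (Fin 2) (Fin 2) F) * V) = (-2 : F) • 1 := by
      rw [eq_sub_of_add_eq' hr, h4, ← one_smul F (1 : Matrix (Fin n) (Fin n) F), smul_smul, smul_smul,
        ← sub_smul]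
      norm_num
    have h6 := rank_mul_le_left U ((-1 - 1 : Matrix (Fin 2) (Fin 2) F) * V)
    have h7 := rank_le_width U
    rw [h5, rank_of_isUnit _ ((isUnit_iff_isUnit_det _).2 (by
      rw [det_smul, det_one, mul_one]
      exact (pow_ne_zero _ (neg_ne_zero.2 h2)).isUnit)), Fintype.card_fin] at h6
    omega
  · rw [e1]
    exact zB.dih hB (zB.conj (x : SL(n, F))) z2 (by rw [conj_mul, z2]; simp) (k := 1) (by
      rw [pow_one, pow_two]; rw [e1] at s3; exact s3)

/-- all involutions of `SL_n`. -/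
theorem inB_inv (hn : 1 ≤ n) (ht : ∀ a b, InB B (tP F a b)) {s : SL(n, F)} (hs : s * s = 1) :
    InB B (s : ProjectiveSpecialLinearGroup (Fin n) F) := by
  have key : ∀ (k : ℕ) (S : Finset (Fin n)) (s : SL(n, F)), S.card = 2 * k → s.1 = dm F S →
      InB B (s : ProjectiveSpecialLinearGroup (Fin n) F) := by
    intro k
    induction k with
    | zero =>
      intro S s h e
      rw [Finset.card_eq_zero.1 h, dm_empty] at e
      exact ⟨1, by rw [show s = 1 from Subtype.ext e]; simpa using one_mem B⟩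
    | succ k ih =>
      intro S s h e
      obtain ⟨x, hx, y, hy, xy⟩ := Finset.one_lt_card.1 (show 1 < S.card by omega)
      have h1 : (tm F x y * s).1 = dm F ({x, y} ∆ S) := by
        change (tm F x y).1 * s.1 = _
        rw [coe_tm' xy, e, dm_mul]
      have h3 : ({x, y} : Finset (Fin n)) ⊆ S := by simp [Finset.insert_subset_iff, hx, hy]
      have t2 : tm F x y * tm F x y = 1 := by nth_rw 2 [tm_symm]; rw [tm_mul, tm_self]
      have e1 : tP F x y * (tm F x y * s : SL(n, F)) = s := by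
        rw [tP, ← QuotientGroup.mk_mul, ← mul_assoc, t2, one_mul]
      have sq : ∀ {u : SL(n, F)} {S}, u.1 = dm F S →
          (u : ProjectiveSpecialLinearGroup (Fin n) F) * u = 1 := fun {u S} hu =>
        congrArg QuotientGroup.mk (show u * u = 1 from Subtype.ext (by
          change u.1 * u.1 = 1
          rw [hu, dm_sq]))
      rw [← e1]
      exact (ht x y).dih hB (ih _ _ (by
        rw [symmDiff_of_le h3, Finset.card_sdiff_of_subset h3, Finset.card_pair xy]; omega) h1)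
        (sq (coe_tm' xy)) (sq h1) (k := 1) (by rw [e1, pow_one, pow_two, sq e])
  obtain ⟨g, S, hg⟩ := diag1 hn h2 (s := s.1) (congrArg Subtype.val hs)
  have h1 : (g⁻¹ * s * g).1 = dm F S := by
    change (g⁻¹).1 * s.1 * g.1 = _
    rw [hg, ← Matrix.mul_assoc, ← Matrix.mul_assoc, sl_inv_mul, Matrix.one_mul, Matrix.mul_assoc,
      sl_inv_mul, Matrix.mul_one]
  obtain ⟨k, hk⟩ : Even S.card := by
    have := (g⁻¹ * s * g).2
    rw [h1, det_dm] at this
    exact (neg_one_pow_eq_one_iff_even (neg_one_ne h2)).1 this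
  have := (key k S _ (by omega) h1).conj (g : SL(n, F))
  rwa [← QuotientGroup.mk_mul, ← QuotientGroup.mk_inv, ← QuotientGroup.mk_mul,
    show g * (g⁻¹ * s * g) * g⁻¹ = s by group] at this

/-- strongly real 2-elements of `SL_n`. -/
theorem inB_real (hn : 1 ≤ n) (ht : ∀ a b, InB B (tP F a b)) {s x : SL(n, F)} (hs : s * s = 1)
    (h : s * x * s⁻¹ = x⁻¹) {k : ℕ} (hx : x ^ 2 ^ k = 1) :
    InB B (x : ProjectiveSpecialLinearGroup (Fin n) F) := by
  have h1 : s * x * (s * x) = 1 := by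
    nth_rw 1 [mul_inv_eq_iff_eq_mul.1 h]
    rw [mul_assoc, ← mul_assoc s, hs, one_mul, inv_mul_cancel]
  have e : (s : ProjectiveSpecialLinearGroup (Fin n) F) * (s * x : SL(n, F)) = x := by
    rw [← QuotientGroup.mk_mul, ← mul_assoc, hs, one_mul]
  rw [← e]
  exact (inB_inv hB h2 hn ht hs).dih hB (inB_inv hB h2 hn ht h1) (congrArg QuotientGroup.mk hs)
    (congrArg QuotientGroup.mk h1) (k := k) (by rw [e, ← QuotientGroup.mk_pow, hx]; rfl)

end Inv

end Cfsg.Agent.H96.FL
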