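import Cfsg.Agent.H89.L27Defs
import Cfsg.Agent.H50.E83Asm
import Cfsg.Agent.H50.E83Mu
import Cfsg.Agent.H67.E83Tr4
import Cfsg.Agent.H23.E83Uni
import Cfsg.Agent.H92.E83L32

/-! Scott's lemma for a `(2, 3, 7)` triple in `E₈(3)`. -/

set_option autoImplicit false

namespace Cfsg.Agent.H96.L27Sc80

open Equiv Cfsg.Lie H37 H40 H34 H29 Module Cfsg.Agent.H50.E83 Cfsg.Agent.H89.L27
open scoped Matrix MatrixGroups

/-- With an invariant form, the codimension of the commutator space is at most the dimension of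
the fixed space. -/
theorem codim_le {F W : Type*} [Field F] [AddCommGroup W] [Module F W] [FiniteDimensional F W]
    (B : LinearMap.BilinForm F W) (hs : ∀ v w, B v w = B w v) (hn : ∀ v, (∀ w, B v w = 0) → v = 0)
    (a b : Module.End F W) (ha : ∀ v w, B (a v) (a w) = B v w) (hb : ∀ v w, B (b v) (b w) = B v w)
    (sa : Function.Surjective a) (sb : Function.Surjective b) :
    finrank F W ≤ finrank F ↥(LinearMap.range (1 - a) ⊔ LinearMap.range (1 - b)) +
      finrank F ↥(LinearMap.ker (1 - a) ⊓ LinearMap.ker (1 - b)) := by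
  have hr : B.IsRefl := fun v w h => by rw [hs, h]
  have h1 := LinearMap.BilinForm.finrank_add_finrank_orthogonal hr
    (LinearMap.range (1 - a) ⊔ LinearMap.range (1 - b))
  have key : ∀ c : Module.End F W, (∀ v w, B (c v) (c w) = B v w) → Function.Surjective c →
      ∀ v, (∀ u, B ((1 - c) u) v = 0) → v ∈ LinearMap.ker (1 - c) := by
    intro c hc sc v hv
    rw [LinearMap.mem_ker]
    refine hn _ fun w => ?_
    obtain ⟨u, rfl⟩ := sc w
    have h2 := hv u
    simp only [LinearMap.sub_apply, Module.End.one_apply, map_sub] at h2 ⊢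
    rw [hc, hs v (c u), hs v u]
    linear_combination -h2
  have h2 : B.orthogonal (LinearMap.range (1 - a) ⊔ LinearMap.range (1 - b)) ≤
      LinearMap.ker (1 - a) ⊓ LinearMap.ker (1 - b) := fun v hv =>
    ⟨key a ha sa v fun u => hv _ (Submodule.mem_sup_left ⟨u, rfl⟩),
      key b hb sb v fun u => hv _ (Submodule.mem_sup_right ⟨u, rfl⟩)⟩
  have h3 := Submodule.finrank_mono h2
  omega

theorem mu_three {g : GK} (hg : g ^ 3 = 1) : 83 ≤ mu g 1 := by
  have h1 : (1 - act g) ^ 3 = 0 := by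
    have h2 : act g ^ 3 = 1 := by rw [← map_pow, hg, map_one]
    have h3 : (3 : Module.End K V) = 0 := by
      have : ((3 : ℕ) : K) = 0 := (CharP.cast_eq_zero_iff K 3 3).2 dvd_rfl
      have h4 : (3 : Module.End K V) = algebraMap K (Module.End K V) ((3 : ℕ) : K) := by
        rw [map_natCast]; norm_num
      rw [h4, this, map_zero]
    calc (1 - act g) ^ 3 = 1 - act g ^ 3 + 3 * (act g ^ 2 - act g) := by
          generalize act g = A
          have e3 : (3 : Module.End K V) = 1 + 1 + 1 := by norm_num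
          simp only [pow_succ, pow_zero, one_mul, e3, mul_sub, sub_mul, add_mul, mul_one]
          abel
      _ = 0 := by rw [h2, h3]; simp
  have h2 := Cfsg.Agent.H23.E83U.finrank_le_three (1 - act g) (fun v => by
    have := DFunLike.congr_fun h1 v
    simpa only [pow_succ, pow_zero, one_mul, Module.End.mul_apply, LinearMap.zero_apply]
      using this) ⊤ (fun _ _ => trivial)
  rw [finrank_top, finrank_V, top_inf_eq, H92.E83L32.ker_eq] at h2
  unfold mu
  omega

theorem sc80 (hk : KapStmt) : Sc80Stmt := by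
  intro s x s2 s1 h3 hx
  obtain ⟨hinv, B, hB, hs, hn⟩ := hk K
  have pres : ∀ (g : GK) (v w : V), B (act g v) (act g w) = B v w := fun g v w => by
    rw [hB, hB, act_apply, act_apply, hinv]
  have surj : ∀ g : GK, Function.Surjective (act g) := fun g v =>
    ⟨act g⁻¹ v, by have := act_inv g⁻¹ v; rwa [inv_inv] at this⟩
  have h1 := Cfsg.Agent.S5529.scott (act (ι s)) (act (ι x)) (act (ι (s * x))⁻¹)
    (by rw [← map_mul, ← map_mul, ← map_mul, mul_inv_cancel, map_one])
  have h2 := codim_le B hs hn (act (ι s)) (act (ι x)) (pres _) (pres _) (surj _) (surj _)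
  have h4 : 83 ≤ mu (ι (s * x))⁻¹ 1 := mu_three (by rw [inv_pow, ← map_pow, h3, map_one, inv_one])
  have h5 : 120 ≤ mu (ι s) 1 := by
    have h6 := mu_add (g := ι s) (by rw [← map_mul, ← sq, s2, map_one])
    have h7 := (H67.E83Tr4.tr4Stmt muStmt ss s
      (by rw [show (4 : ℕ) = 2 * 2 from rfl, pow_mul, s2, one_pow])).1 s2 s1
    unfold tau at h7
    omega
  have h6 : H50.E83.Fix {ι s, ι x} = eig (ι s) 1 ⊓ eig (ι x) 1 := by
    ext v
    simp [mem_Fix, mem_eig]
  rw [h6]
  rw [H92.E83L32.ker_eq, H92.E83L32.ker_eq, finrank_V] at h1 h2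
  rw [H92.E83L32.ker_eq] at h1
  obtain ⟨R, hR⟩ : ∃ R : Submodule K V,
      R = LinearMap.range (1 - act (ι s)) ⊔ LinearMap.range (1 - act (ι x)) := ⟨_, rfl⟩
  have e1 : mu (ι s) 1 + mu (ι x) 1 + mu (ι (s * x))⁻¹ 1 + finrank K R ≤
      2 * 248 + finrank K ↥(eig (ι s) 1 ⊓ eig (ι x) 1) := by rw [hR]; exact h1
  have e2 : 248 ≤ finrank K R + finrank K ↥(eig (ι s) 1 ⊓ eig (ι x) 1) := by rw [hR]; exact h2
  omega

end Cfsg.Agent.H96.L27Sc80
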