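import Cfsg.Agent.H48.M2Defs

/-! The normalizer of an ark induces no reflection. -/

set_option autoImplicit false

namespace Cfsg.Agent.H48.M2

open Cfsg Subgroup Cfsg.Agent.H48 Cfsg.Agent.H48.Rec Cfsg.Agent.H49 Cfsg.Agent.H95.Par
open Cfsg.Agent.H97.Gr (DD ZZ)
open Cfsg.Agent.H97.Yt (M)

namespace NR

open QuadraticMap Module Cfsg.Agent.H30

theorem no_refl {G : Type*} [Group G] [Finite G] {Q E : Subgroup G} {z b : G} (h : Ten Q E z b)
    {g : G} (hg : g ∈ normalizer (E : Set G)) {x : G} (hx : x ∈ E) (hz : ¬ IsConj z x)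
    (H : ∀ a ∈ E, g * a * g⁻¹ = a ∨ g * a * g⁻¹ = a * x) : g ∈ centralizer (E : Set G) := by
  classical
  obtain ⟨ν, q, φ, n1, n2, n3, hq, hφ⟩ := h.exists_form
  have n0 : ν 0 = 1 := by simpa using n1 0 0
  have m : ∀ a, ν a ∈ E := fun a => (n3 _).2 ⟨a, rfl⟩
  obtain ⟨e, he⟩ := (n3 z).1 h.zE
  have e0 : e ≠ 0 := by rintro rfl; exact h.hQ.ne (he.symm.trans n0)
  have qe : q e = 0 := by rw [hq, he, qz_self]
  have pe : ∀ a, polar q e a = if ν a ∈ Q then 0 else 1 := fun a => by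
    rw [← h.pz_z (m a), polar, hq, hq, hq, n1, he, pz]
  have pe' : ∀ a, polar q e a = 0 ↔ ν a ∈ Q := fun a => by
    rw [pe]; split_ifs with c
    exacts [iff_of_true rfl c, iff_of_false one_ne_zero c]
  have nd : (polarBilin q).Nondegenerate := nondegenerate_of_forall fun x hx => by
    by_contra x0
    have rad : ¬ ∀ y, polar q e y = 0 := fun c => by
      obtain ⟨y, hy⟩ := (n3 b).1 h.bE
      exact h.bQ (hy ▸ (pe' y).1 (c y))
    have xQ := (pe' x).1 (by rw [polar_comm, hx])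
    obtain ⟨u, hu, c⟩ := h.hQ.exists_conj_eq_mul_z xQ (fun c => x0 (n2 (c.trans n0.symm)))
      fun c => rad (n2 (c.trans he.symm) ▸ hx)
    have c1 : (φ ⟨u, h.QN hu⟩).1 x = x + e := n2 (by rw [← hφ, n1, he]; exact c)
    refine rad fun y => ?_
    have := O_polar (φ ⟨u, h.QN hu⟩) x ((φ ⟨u, h.QN hu⟩)⁻¹.1 y)
    rwa [hx, O_apply_inv, c1, polar_add_left, hx, zero_add] at this
  have ker : ∀ g, φ g = 1 ↔ g.1 ∈ centralizer (E : Set G) := fun g => by
    refine ⟨fun c y hy => ?_, fun c => O_ext fun a => n2 ?_⟩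
    · obtain ⟨a, rfl⟩ := (n3 y).1 hy
      have := hφ g a
      rw [c] at this
      exact (mul_inv_eq_iff_eq_mul.1 this).symm
    · rw [← hφ, ← c _ (m a), mul_inv_cancel_right]; rfl
  have fix : ∀ g : O q, (∀ x, ν x ∈ Q → g.1 x = x) → g = 1 := fun g hg =>
    (eq_one_or_refl_of_fix nd g e0 fun x hx => hg x ((pe' x).1 hx)).resolve_right fun c => c.1 qe
  have T : ∀ v, polar q e v = 0 → eich q e v ∈ φ.range := fun v hv => by
    have li := Function.leftInverse_invFun n2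
    have ap : ∀ a, ν a ∈ Q → (eich q e v).1 a = a ∨ (eich q e v).1 a = a + e := fun a ha => by
      rw [eich_apply qe hv, polar_comm q a e, (pe' a).2 ha, zero_smul, mul_zero, zero_smul, add_zero,
        sub_zero]
      rcases H42.zmod2_cases (polar q a v) with c | c <;> rw [c]
      · exact Or.inl (by rw [zero_smul, sub_zero])
      · exact Or.inr (by rw [one_smul, sub_eq_add_neg, ZModModule.neg_eq_self])
    obtain ⟨u, hu, c⟩ := h.hQ.exists_conj_eq (U := E ⊓ Q) inf_le_right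
      (fun y => ν ((eich q e v).1 (Function.invFun ν y)))
      (fun y hy => by
        obtain ⟨a, rfl⟩ := (n3 y).1 hy.1
        rw [li]
        exact (ap a hy.2).imp (congrArg ν) fun c => by rw [c, n1, he])
      (fun y hy y' hy' => by
        obtain ⟨a, rfl⟩ := (n3 y).1 hy.1
        obtain ⟨a', rfl⟩ := (n3 y').1 hy'.1
        rw [← n1, li, li, li, map_add, n1])
      (fun _ => by
        rw [← he, li, eich_apply_of_orth (by rw [polar_self', qe, mul_zero]) hv])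
    refine ⟨⟨u, h.QN hu⟩, (inv_mul_eq_one.1 (fix _ fun x hx => ?_)).symm⟩
    have : (φ ⟨u, h.QN hu⟩).1 x = (eich q e v).1 x := n2 (by rw [← hφ, c _ ⟨m x, hx⟩, li])
    rw [O_mul_apply, this, O_inv_apply]
  obtain ⟨n, hn, c⟩ := h.ex
  have hk : φ.ker = (centralizer (E : Set G)).subgroupOf _ := Subgroup.ext ker
  have hH : eichGroup q ≤ φ.range := eichGroup_le_of nd qe e0 T (g := φ ⟨n, hn⟩) ⟨_, rfl⟩ (by
    rw [pe, ← hφ, he, if_neg c])
  have hA : Q ⊓ centralizer ((E ⊓ Q : Subgroup G) : Set G) ≤ centralizer (E : Set G) :=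
    fun u hu => (ker ⟨u, h.QN hu.1⟩).1 (fix _ fun x hx => n2 (by
      rw [← hφ, ← hu.2 _ ⟨m x, hx⟩, mul_inv_cancel_right]))
  have hN : Nat.card (normalizer (E : Set G)) ≤ (nc q 0 - 1) * (2 ^ 25 * 89181388800) := by
    rw [← XS.card_mul_relIndex' (centralizer {z}), mul_comm, H39.relIndex_centralizer_eq_ncard]
    refine Nat.mul_le_mul ?_ h.cN
    have : {y | ∃ n ∈ normalizer (E : Set G), n * z * n⁻¹ = y} ⊆ ν '' ({v | q v = 0} \ {0}) := by
      rintro _ ⟨n, hn, rfl⟩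
      exact ⟨(φ ⟨n, hn⟩).1 e, ⟨(O_map _ e).trans qe, fun c => e0 (O_apply_eq_zero.1 c)⟩,
        by rw [← hφ, he]⟩
    refine (Set.ncard_le_ncard this (Set.toFinite _)).trans ?_
    rw [Set.ncard_image_of_injective _ n2, Set.ncard_sdiff_singleton_of_mem (by simp)]
    rfl
  set C := centralizer (E : Set G) with hC
  have CN : C ≤ normalizer (E : Set G) := centralizer_le_normalizer _
  have EC : E ≤ C := fun x hx y hy => h.cm hy hx
  have nC : ∀ k ∈ normalizer (E : Set G), cj C k = C := fun k hk => by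
    rw [hC, cj_centralizer, cj_eq_iff.2 hk]
  have zP := h.z_notMem c
  have hP := h.hQ.cj n
  have wE := conj_mem_of_mem_normalizer hn h.zE
  have eA : Q ⊓ centralizer ((E ⊓ Q : Subgroup G) : Set G) = Q ⊓ C :=
    le_antisymm (le_inf inf_le_left hA) (inf_le_inf_left _ (centralizer_le inf_le_left))
  have cA : Nat.card ↥(Q ⊓ C) = 2 ^ 17 := by
    have := h.hQ.card_mul_card_centralizer_of_mem (U := E ⊓ Q) inf_le_right ⟨h.zE, h.hQ.mem⟩
    rw [eA, h.c1, h.cQ] at this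
    omega
  have dA : ∀ x ∈ Q, (∀ y ∈ Q ⊓ C, y * x = x * y) → x ∈ E ⊓ Q := fun x hx a =>
    (h.hQ.centralizer_centralizer inf_le_right ⟨h.zE, h.hQ.mem⟩).le ⟨hx, eA ▸ a⟩
  have eB : cj (Q ⊓ C) n = cj Q n ⊓ C := by rw [cj_inf, nC n hn]
  have cQ : ∀ k ∈ C, ∀ x ∈ Q ⊓ C, k * x * k⁻¹ ∈ Q ⊓ C := fun k hk x hx =>
    ⟨h.hQ.conj_mem (hk z h.zE).symm hx.1, C.mul_mem (C.mul_mem hk hx.2) (C.inv_mem hk)⟩
  have cP : ∀ k ∈ C, ∀ x ∈ cj Q n ⊓ C, k * x * k⁻¹ ∈ cj Q n ⊓ C := fun k hk x hx =>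
    ⟨hP.conj_mem (hk _ wE).symm hx.1, C.mul_mem (C.mul_mem hk hx.2) (C.inv_mem hk)⟩
  have AB : (Q ⊓ C) ⊓ (cj Q n ⊓ C) ≤ E ⊓ Q := fun x hx => dA x hx.1.1 fun y hy => by
    by_contra a
    have := (cP y hy.2 x hx.2).1
    rw [h.hQ.conj_of_ne hy.1 hx.1.1 a] at this
    exact zP (by simpa only [inv_mul_cancel_left] using (cj Q n).mul_mem ((cj Q n).inv_mem hx.2.1) this)
  have nB : Q ⊓ C ≤ normalizer ((cj Q n ⊓ C : Subgroup G) : Set G) := fun k hk =>
    mem_normalizer_of_conj_mem (cP k hk.2)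
  have cS := H3.card_sup_mul_card_inf_of_le_normalizer nB
  have SC : (Q ⊓ C) ⊔ (cj Q n ⊓ C) ≤ C := sup_le inf_le_right inf_le_right
  have c8 : Nat.card ↥((Q ⊓ C) ⊓ (cj Q n ⊓ C)) ≤ 2 ^ 8 := by
    obtain ⟨k, e⟩ := card_dvd_of_le AB
    have : k ≠ 1 := fun e' => zP ((eq_of_le_of_card_ge AB (by rw [e, e', mul_one])).ge
      ⟨h.zE, h.hQ.mem⟩).2.1
    rw [h.c1] at e
    have : k ≠ 0 := by rintro rfl; omega
    have := Nat.mul_le_mul_left (Nat.card ↥((Q ⊓ C) ⊓ (cj Q n ⊓ C))) (show 2 ≤ k by omega)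
    omega
  rw [← eB, card_cj, eB, cA] at cS
  have c26 : 2 ^ 26 ≤ Nat.card ↥((Q ⊓ C) ⊔ (cj Q n ⊓ C)) := by
    have := Nat.mul_le_mul_left (Nat.card ↥((Q ⊓ C) ⊔ (cj Q n ⊓ C))) c8
    omega
  have ck : Nat.card φ.ker = Nat.card C := by
    rw [hk, Nat.card_congr (subgroupOfEquivOfLe CN).toEquiv]
  obtain ⟨hp, hr, cC⟩ := orth_count nd (by simp) hH (c26.trans (card_le_of_le SC)) (by
    rw [← ck, ← index_ker, φ.ker.card_mul_index]; exact hN)
  obtain ⟨x', rfl⟩ := (n3 x).1 hx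
  by_cases x1 : ν x' = 1
  · exact fun a ha => (mul_inv_eq_iff_eq_mul.1 ((H a ha).elim id fun e => by
      rwa [x1, mul_one] at e)).symm
  have qx : q x' ≠ 0 := fun e => (qz_eq_zero.1 (hq x' ▸ e)).elim x1 hz
  have x0 : x' ≠ 0 := by rintro rfl; exact x1 n0
  refine (ker ⟨g, hg⟩).1 ((eq_one_or_refl_of_fix nd (φ ⟨g, hg⟩) x0 fun a ha => ?_).resolve_right
    fun e => refl_notMem_kerDS nd qx ?_)
  · rcases H _ (m a) with e | e
    · exact n2 (by rw [← hφ]; exact e)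
    · have e1 : (φ ⟨g, hg⟩).1 a = a + x' := n2 (by rw [← hφ, n1]; exact e)
      have e2 := O_map (φ ⟨g, hg⟩) a
      rw [polar, add_comm x' a, ← e1, e2] at ha
      exact absurd (by linear_combination -ha) qx
  · rw [← e.2, ← commutator_eq_kerDS nd (not_isExc_of_finrank (by simp)), ← hr]
    exact ⟨_, rfl⟩

end NR

theorem nr_of (st : StStmt) : NrStmt := by
  intro A hA g hg x hx hD H
  obtain ⟨u, y, ⟨θ, R, c, -⟩, e⟩ := id hA
  have hu : u ∈ A := e ▸ ⟨mem_sup_left c.hQ.mem, fun j hj => c.hQ.cen j hj.1⟩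
  obtain ⟨b, θ', R', s⟩ := st A hA u hu c.zz
  refine NR.no_refl s.ten hg hx (fun k0 => ?_) H
  obtain ⟨k, rfl⟩ := isConj_iff.1 k0
  exact disj hD (ZZ_cj k c.zz)

end Cfsg.Agent.H48.M2
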