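import Cfsg.Agent.H89.OlDefs

/-!
# Olsson's bound from a coset of the commutator subgroup
-/

set_option autoImplicit false

namespace Cfsg.Agent.H96.OlCl

open Subgroup Cfsg.Agent.H18 Cfsg.Agent.H17 Cfsg.Agent.H26.K64 MonoidAlgebra
open Cfsg.Agent.H89.Ol
open Cfsg.Agent.H19 (kk)
open scoped Classical ComplexConjugate commutatorElement

universe u

/-- Orbit-stabilizer along a coset of the commutator subgroup. -/
theorem sum_conj {G : Type u} [Group G] [Fintype G] (P : Subgroup G) {a c : G} (ha : a ∈ P)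
    (hc : c ∈ ⁅P, P⁆) :
    ∑ c' ∈ Finset.univ.filter (· ∈ ⁅P, P⁆),
      (if ∃ k ∈ P, a * c' = k * (a * c) * k⁻¹ then CP P (a * c) else 0) = Nat.card P := by
  have hPP : ⁅P, P⁆ ≤ P := commutator_le_self P
  have hu : a * c ∈ P := P.mul_mem ha (hPP hc)
  rw [Nat.card_eq_fintype_card, Fintype.card_subtype,
    Finset.card_eq_sum_card_fiberwise (f := fun k => a⁻¹ * (k * (a * c) * k⁻¹))
      (t := Finset.univ.filter (· ∈ ⁅P, P⁆))]
  · refine Finset.sum_congr rfl fun c' _ => ?_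
    split_ifs with h
    · obtain ⟨k, hk, h⟩ := h
      rw [CP, Nat.card_eq_fintype_card, Fintype.card_subtype]
      refine Finset.card_bij (fun z _ => k * z) ?_ ?_ ?_
      · intro z hz
        have h1 : z ∈ P ⊓ Cz (zpowers (a * c)) := (Finset.mem_filter.1 hz).2
        have h2 := mem_Cz_zpowers.1 h1.2
        simp only [Finset.mem_filter, Finset.mem_univ, true_and]
        refine ⟨P.mul_mem hk h1.1, ?_⟩
        rw [mul_assoc k z, ← h2, inv_mul_eq_iff_eq_mul, h]
        group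
      · intro z _ z' _ h1
        exact mul_left_cancel h1
      · intro z hz
        simp only [Finset.mem_filter, Finset.mem_univ, true_and] at hz
        refine ⟨k⁻¹ * z, ?_, by group⟩
        simp only [Finset.mem_filter, Finset.mem_univ, true_and]
        refine ⟨P.mul_mem (P.inv_mem hk) hz.1, mem_Cz_zpowers.2 ?_⟩
        have h1 : z * (a * c) * z⁻¹ = k * (a * c) * k⁻¹ := by
          rw [← h, ← hz.2]; group
        calc a * c * (k⁻¹ * z) = k⁻¹ * (k * (a * c) * k⁻¹) * z := by group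
          _ = k⁻¹ * z * (a * c) := by rw [← h1]; group
    · symm
      rw [Finset.card_eq_zero, Finset.filter_eq_empty_iff]
      intro k hk h1
      exact h ⟨k, (Finset.mem_filter.1 hk).2, by rw [← h1]; group⟩
  · intro k hk
    have hk' : k ∈ P := by simpa using hk
    have h1 : a⁻¹ * (k * (a * c) * k⁻¹) = c * ⁅(a * c)⁻¹, k⁆ := by
      rw [commutatorElement_def]; group
    simp only [Finset.coe_filter, Finset.mem_univ, true_and, Set.mem_ofPred_eq]
    rw [h1]
    exact mul_mem hc (commutator_mem_commutator (P.inv_mem hu) hk')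

theorem cl (av : AVStmt.{u}) (cf : CFStmt.{u}) : CLStmt.{u} := by
  intro G _ _ _ M B P e a s h
  have := s.charP
  have hPP : ⁅P, P⁆ ≤ P := commutator_le_self P
  have hw : a * a ∈ P := P.mul_mem h.mem h.mem
  have h1 := s.sub hw
  have l := s.loc_of_le h1 (s.Cz_le_NP hw) le_rfl
    ((le_inf le_rfl h.nz).trans (h1.inf_Nz_le_NP s.pair))
  obtain ⟨η, Θ, h2, h3, h4⟩ := s.exists_col l
    fun R hR t ht ho => h.odd R hR t ht.2 (NP_le _ _ _ ht.1).2 ho
  have hcol : ∀ c ∈ ⁅P, P⁆, Col M 2 B P e (a * c) (CP P (a * c)) fun χ => η χ (a * c) :=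
    fun c hc => (h4 _ (P.mul_mem h.mem (hPP hc)) ((Cz_anti (by
      rw [← h.sq c hc, zpowers_le]
      exact mul_mem (mem_zpowers _) (mem_zpowers _))).trans (s.Cz_le_NP hw))).2
  set S : Finset G := Finset.univ.filter (· ∈ ⁅P, P⁆) with hS
  have hSm : ∀ c, c ∈ S ↔ c ∈ ⁅P, P⁆ := fun c => by simp [hS]
  have hSc : S.card = Nat.card (⁅P, P⁆ : Subgroup G) := by
    rw [Nat.card_eq_fintype_card, Fintype.card_subtype]
  let α : IrrCharacter G → ℂ := fun χ => ∑ c ∈ S, η χ (a * c)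
  have hsum : ∑ χ ∈ fs B, conj (α χ) * α χ =
      ((Nat.card (⁅P, P⁆ : Subgroup G) * Nat.card P : ℕ) : ℂ) := by
    have h5 : ∀ c ∈ S, ∀ c' ∈ S, ∑ χ ∈ fs B, conj (η χ (a * c)) * η χ (a * c') =
        ((if ∃ k ∈ P, a * c' = k * (a * c) * k⁻¹ then CP P (a * c) else 0 : ℕ) : ℂ) := by
      intro c hc c' hc'
      rw [hSm] at hc hc'
      split_ifs with h5
      · obtain ⟨k, hk, h5⟩ := h5
        rw [← (hcol c hc).sum_self s]
        refine Finset.sum_congr rfl fun χ _ => ?_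
        rw [h5]
        congr 1
        exact H11.isClassFunction_of_isGen (h2 χ) ⟨a * c, P.mul_mem h.mem (hPP hc)⟩ ⟨k, hk⟩
      · rw [Nat.cast_zero]
        exact (hcol c hc).orth s (hcol c' hc') fun hf => h5 (cf G M B P e a s h c hc c' hc' hf)
    simp only [α, map_sum, Finset.sum_mul_sum]
    rw [Finset.sum_comm, ← hSc, ← smul_eq_mul, ← Finset.sum_const, Nat.cast_sum]
    refine Finset.sum_congr rfl fun c hc => ?_
    rw [Finset.sum_comm, Finset.sum_congr rfl (h5 c hc), ← Nat.cast_sum,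
      sum_conj P h.mem ((hSm c).1 hc)]
  have hreal : ∑ χ ∈ fs B, Complex.normSq (α χ) =
      (Nat.card (⁅P, P⁆ : Subgroup G) : ℝ) * Nat.card P := by
    refine Complex.ofReal_injective ?_
    push_cast at hsum ⊢
    rw [← hsum]
    exact Finset.sum_congr rfl fun χ _ => Complex.normSq_eq_conj_mul_self
  have hmem : ∀ c : P, c ∈ _root_.commutator P ↔ (c : G) ∈ ⁅P, P⁆ := fun c => by
    rw [← P.map_subtype_commutator]
    exact (mem_map_iff_mem P.subtype_injective).symm
  have hcard : Nat.card (_root_.commutator P) = Nat.card (⁅P, P⁆ : Subgroup G) := by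
    rw [← P.map_subtype_commutator, card_map_subtype]
  have hlow : ∀ χ ∈ hz 2 B, (Nat.card (⁅P, P⁆ : Subgroup G) : ℝ) ^ 2 ≤ Complex.normSq (α χ) := by
    intro χ hχ
    have h5 := av P M (fun v => η χ v) ⟨a, h.mem⟩ s.hM l.defect.isP (h2 χ)
      (h3 χ (mem_hz.1 hχ).1 (mem_hz.1 hχ).2) ((hmem _).2 h.four)
    rw [hcard] at h5
    refine h5.trans_eq (congrArg _ ?_)
    refine Finset.sum_bij (fun c _ => (c : G)) (fun c hc => ?_) (fun _ _ _ _ => Subtype.ext)
      (fun c hc => ?_) fun _ _ => rfl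
    · exact (hSm _).2 ((hmem c).1 (Finset.mem_filter.1 hc).2)
    · have h6 := (hSm c).1 hc
      exact ⟨⟨c, hPP h6⟩, Finset.mem_filter.2 ⟨Finset.mem_univ _, (hmem _).2 h6⟩, rfl⟩
  have h6 : ((hz 2 B).card : ℝ) * (Nat.card (⁅P, P⁆ : Subgroup G) : ℝ) ^ 2 ≤
      (Nat.card (⁅P, P⁆ : Subgroup G) : ℝ) * Nat.card P := by
    rw [← hreal, ← nsmul_eq_mul]
    exact (Finset.card_nsmul_le_sum _ _ _ hlow).trans
      (Finset.sum_le_sum_of_subset_of_nonneg hz_subset fun _ _ _ => Complex.normSq_nonneg _)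
  have h7 : (0 : ℝ) < Nat.card (⁅P, P⁆ : Subgroup G) := Nat.cast_pos.2 Nat.card_pos
  have h8 : ((hz 2 B).card : ℝ) * (Nat.card (⁅P, P⁆ : Subgroup G) : ℝ) ≤ Nat.card P :=
    le_of_mul_le_mul_left (by nlinarith) h7
  exact_mod_cast h8

end Cfsg.Agent.H96.OlCl
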