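import Mathlib
import Cfsg.Agent.H96.Sparse
import Cfsg.Agent.S5193

/-! Thompson's nilpotency criteria for fusion systems (`p` odd or `S₄`-free), from Glauberman's theorem on `Z(N_F(J(S)))`. -/

set_option autoImplicit false
set_option linter.unusedSectionVars false
set_option linter.style.haveILetI false

namespace Cfsg.Agent.H96

open Cfsg Cfsg.FusionSystem Cfsg.Agent.H97 Cfsg.Agent.H98

universe u

section J

variable {Ω : Type*} [Group Ω]

theorem thompsonSubgroupAOf_le' (D : Subgroup Ω) : thompsonSubgroupAOf D ≤ D := by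
  rw [H51.thompsonSubgroupAOf_eq]; exact H51.thompsonSubgroupOf_le 0 D

theorem normalizer_le_normalizer_thompsonSubgroupAOf (D : Subgroup Ω) :
    Subgroup.normalizer (D : Set Ω) ≤ Subgroup.normalizer (thompsonSubgroupAOf D : Set Ω) := by
  rw [H51.thompsonSubgroupAOf_eq]; exact H51.normalizer_le_normalizer_thompsonSubgroupOf 0 D

theorem centralizerIn_thompsonSubgroupAOf_le (D : Subgroup Ω) [Finite D] :
    centralizerIn D (thompsonSubgroupAOf D) ≤ thompsonSubgroupAOf D := by
  rw [H51.thompsonSubgroupAOf_eq]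
  intro x hx
  obtain ⟨A, hA⟩ := H51.maxEA_nonempty 0 D
  have hAJ := H51.le_thompsonSubgroupOf hA
  exact hAJ (H51.mem_of_mem_maxEA hA hx.1 (pow_zero x) (Subgroup.centralizer_le hAJ hx.2))

theorem thompsonSubgroupAOf_ne_bot' {p : ℕ} [Fact p.Prime] {D : Subgroup Ω} [Finite D]
    (hD : IsPGroup p D) (h : D ≠ ⊥) : thompsonSubgroupAOf D ≠ ⊥ := by
  intro h0
  apply centralizerIn_self_ne_bot hD h
  rw [eq_bot_iff, ← h0]
  exact (centralizerIn_anti (thompsonSubgroupAOf_le' D)).trans
    (centralizerIn_thompsonSubgroupAOf_le D)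

theorem thompsonSubgroupAOf_characteristic (D : Subgroup Ω) :
    ((thompsonSubgroupAOf D).subgroupOf D).Characteristic := by
  have : (thompsonSubgroupAOf D).subgroupOf D = thompsonSubgroup 0 D := by
    rw [H51.thompsonSubgroupAOf_eq]
    exact Subgroup.comap_map_eq_self_of_injective D.subtype_injective _
  rw [this]
  exact H51.thompsonSubgroup_characteristic 0 D

theorem le_normalizer_centralizerIn_self (D : Subgroup Ω) :
    D ≤ Subgroup.normalizer (centralizerIn D D : Set Ω) :=
  Subgroup.le_normalizer.trans (H51.normalizer_le_normalizer_inf_centralizer D)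

end J

variable {Ω : Type u} [Group Ω] {S : Subgroup Ω} {F : FusionSystem S} [Finite S]
  {p : ℕ} [Fact p.Prime]

theorem isCentral_center_of_nNil_thompson (hS : IsPGroup p S) (hF : F.IsSaturated p)
    (hp : p ≠ 2 ∨ F.IsSectionFree p (Equiv.Perm (Fin 4))) (h : NNil F (thompsonSubgroupAOf S)) :
    F.IsCentral (centralizerIn S S) := by
  have hJ := thompsonSubgroupAOf_le' S
  obtain ⟨N, hN⟩ := exists_normalizerSystem F hJ
  have hn := Subgroup.le_normalizer.trans (normalizer_le_normalizer_thompsonSubgroupAOf S)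
  rw [isCentral_iff_le_center, ← (S5193.result p hS F hF N hN).2 hp]
  refine le_center (sat_isCentral_of_fix (H99.isPGroup_normalizerIn hS _)
    (normalizerSystem_saturated hS hF (fullyNormalized_of_le_normalizer F hJ hn) hN)
    (fun x hx => ⟨hx.1, hn hx.1⟩) fun P f hf x hx hxZ => ?_)
  obtain ⟨s, hs, e⟩ := (nNil_iff_nil hJ hN).1 h P f hf
  rw [e x hx, (mem_centralizerIn_comm.1 hxZ).2 s hs.1]
  group

/-- Thompson's criterion: `C_F(Z(S))` and `N_F(J(S))` inner imply `F` inner. -/
theorem nil_of_thompson (hS : IsPGroup p S) (hF : F.IsSaturated p)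
    (hp : p ≠ 2 ∨ F.IsSectionFree p (Equiv.Perm (Fin 4)))
    (hC : ∀ P f, centralizerIn S S ≤ P → Mor F P f → (∀ x ∈ centralizerIn S S, f x = x) →
      ∃ s ∈ S, ∀ x ∈ P, f x = s * x * s⁻¹) (h : NNil F (thompsonSubgroupAOf S)) : Nil F := by
  intro P f hf
  obtain ⟨g, hg, e, e'⟩ := (isCentral_iff.1 (isCentral_center_of_nNil_thompson hS hF hp h)).2 P f hf
  obtain ⟨s, hs, es⟩ := hC _ g le_sup_right hg e'
  exact ⟨s, hs, fun x hx => by rw [← e x hx, es x (Subgroup.mem_sup_left hx)]⟩

theorem nil_of_nNil_center_thompson (hS : IsPGroup p S) (hF : F.IsSaturated p)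
    (hp : p ≠ 2 ∨ F.IsSectionFree p (Equiv.Perm (Fin 4))) (hC : NNil F (centralizerIn S S))
    (h : NNil F (thompsonSubgroupAOf S)) : Nil F :=
  nil_of_thompson hS hF hp (fun P f h1 hf e => hC P f h1
    (hf.le.trans (le_normalizer_centralizerIn_self S)) hf (by rw [img_congr e, img_id])) h

theorem Sparse.isConstrained_of_free (hsp : Sparse F p) (hS : IsPGroup p S) (hF : F.IsSaturated p)
    (hp : p ≠ 2 ∨ F.IsSectionFree p (Equiv.Perm (Fin 4))) : F.IsConstrained p := by
  refine hsp.isConstrained hS hF fun Ω' _ S' _ θ E hE hne h => ?_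
  have hS' := factor_isPGroup hS hE
  exact nil_of_nNil_center_thompson hS'
    (factor_saturated hS hF hE (stronglyClosed_of_isNormal (isNormal_core F)))
    (hp.imp id fun h => H99.sectionFree_factor hS hF (isNormal_core F) h hE)
    (h _ (centralizerIn_self_ne_bot hS' hne) centralizerIn_le (le_normalizer_centralizerIn_self _))
    (h _ (thompsonSubgroupAOf_ne_bot' hS' hne) (thompsonSubgroupAOf_le' _)
      (Subgroup.le_normalizer.trans (normalizer_le_normalizer_thompsonSubgroupAOf _)))

omit [Finite S] in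
theorem characteristic_preimageAlong_mk {Z : Subgroup Ω} [(Z.subgroupOf S).Normal]
    (hZ : (Z.subgroupOf S).Characteristic) {Q' : Subgroup (S ⧸ Z.subgroupOf S)}
    (hQ' : (Q'.subgroupOf ⊤).Characteristic) :
    ((preimageAlong (QuotientGroup.mk' (Z.subgroupOf S)) Q').subgroupOf S).Characteristic := by
  have h1 : Q'.Characteristic := by
    rw [Subgroup.characteristic_iff_le_comap]
    intro φ x hx
    have := Subgroup.characteristic_iff_le_comap.1 hQ'
      (Subgroup.topEquiv.trans (φ.trans Subgroup.topEquiv.symm))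
      (show (⟨x, trivial⟩ : (⊤ : Subgroup (S ⧸ Z.subgroupOf S))) ∈ Q'.subgroupOf ⊤ from hx)
    exact this
  have h2 : (preimageAlong (QuotientGroup.mk' (Z.subgroupOf S)) Q').subgroupOf S =
      Q'.comap (QuotientGroup.mk' (Z.subgroupOf S)) := by
    ext x
    rw [Subgroup.mem_subgroupOf, mem_preimageAlong, fn_coe]
    exact ⟨fun h => h.2, fun h => ⟨x.2, h⟩⟩
  rw [h2]
  exact Subgroup.Characteristic.comap_quotient_mk (hH := hZ) h1

theorem nil_of_characteristic_pGroups : ∀ (n : ℕ) {Ω : Type u} [Group Ω] {S : Subgroup Ω}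
    [Finite S] (F : FusionSystem S), Nat.card S = n → IsPGroup p S → F.IsSaturated p →
    (p ≠ 2 ∨ F.IsSectionFree p (Equiv.Perm (Fin 4))) →
    (∀ Q : Subgroup Ω, Q ≤ S → Q ≠ ⊥ → (Q.subgroupOf S).Characteristic →
      IsPGroup p (F.autGroup Q)) → Nil F := by
  intro n
  induction n using Nat.strong_induction_on with
  | _ n ih =>
    intro Ω _ S _ F hn hS hF hp h
    by_cases h0 : S = ⊥
    · exact nil_of_eq_bot F h0
    have hJ := thompsonSubgroupAOf_le' S
    have hJn := Subgroup.le_normalizer.trans (normalizer_le_normalizer_thompsonSubgroupAOf S)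
    have hN : NNil F (thompsonSubgroupAOf S) := nNil_of_forall hS hF hJ hJn fun N h1 h2 h3 =>
      nil_of_centric hS h1 h3
        (H99.isCentric_of_isNormal h3 (centralizerIn_thompsonSubgroupAOf_le S))
        ((h _ hJ (thompsonSubgroupAOf_ne_bot' hS h0)
          (thompsonSubgroupAOf_characteristic S)).to_le (autGroup_mono h2))
    have hZ := isCentral_center_of_nNil_thompson hS hF hp hN
    have hZn := isNormal_of_isCentral hZ
    have hsc := stronglyClosed_of_isNormal hZn
    haveI := normal_subgroupOf_of_stronglyClosed hsc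
    obtain ⟨E, hE⟩ := exists_factorSystem_quotient hsc
    have hchar : ((centralizerIn S S).subgroupOf S).Characteristic := by
      rw [← ucs_one]; exact ucs_characteristic 1
    refine nil_of_factor hS hF hZn (h _ hZ.1 (centralizerIn_self_ne_bot hS h0) hchar) hE
      (ih _ (hn ▸ factor_card_lt hE (centralizerIn_self_ne_bot hS h0)) E rfl (factor_isPGroup hS hE)
        (factor_saturated hS hF hE hsc) (hp.imp id fun h => H99.sectionFree_factor hS hF hZn h hE)
        fun Q' h1 h2 h3 => ?_)
    have hA := h _ preimageAlong_le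
      (fun e => factor_lt_preimage hE h1 h2 (by rw [e]; exact bot_le))
      (characteristic_preimageAlong_mk hchar h3)
    refine isPGroup_of_forall fun β hβ => ?_
    obtain ⟨α, hα, r⟩ := factor_exists_lift_aut hE h1 hβ
    obtain ⟨k, hk⟩ := exists_pow_eq_one_of_isPGroup hA hα
    refine ⟨k, ?_⟩
    have hpow : ∀ m : ℕ, IndRel _ _ Q' (α ^ m) (β ^ m) := fun m => by
      induction m with
      | zero => intro x _; simp
      | succ m ihm => rw [pow_succ, pow_succ]; exact indRel_mul _ _ _ _ ihm r
    refine indRel_fun preimageAlong_le (factor_img_preimage hE h1) (α ^ p ^ k) _ _ (hpow _) ?_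
    rw [hk]
    intro x _; simp

end Cfsg.Agent.H96
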